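import Cfsg.Agent.Lib.Fusion.RankThree.Setup
import Cfsg.Agent.Lib.PGroup.Class2

/-!
The case of a regular unipotent element: `E` is fixed by every `p`-automorphism of `K`.
-/

set_option autoImplicit false
set_option maxHeartbeats 1600000

namespace CfsgLib.FusionRankThree

open Cfsg
open scoped commutatorElement

variable {p : ℕ} [hp : Fact p.Prime] {K : Type*} [Group K] [Finite K] {E : Subgroup K} [E.Normal]

omit hp [Finite K] in
theorem commutator_le_of_prime_index {p : ℕ} [Fact p.Prime] (L : Subgroup K) [L.Normal] (h : L.index = p) :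
    commutator K ≤ L := by
  have : IsCyclic (K ⧸ L) := isCyclic_of_prime_card (p := p) (by rw [← Subgroup.index_eq_card, h])
  rw [commutator_def, Subgroup.commutator_le]
  intro a _ b _
  rw [← QuotientGroup.eq_one_iff]
  show QuotientGroup.mk' L _ = 1
  rw [map_commutatorElement]
  exact commutatorElement_eq_one_iff_mul_comm.mpr
    (IsCyclic.commGroup.mul_comm _ _)

omit [Finite K] in
theorem zpow_val_eq_one {G : Type*} [Group G] {x : G} (hx : x ^ p = 1) (hx1 : x ≠ 1) {i : ℤ}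
    (h : x ^ i = 1) : (p : ℤ) ∣ i := by
  rw [← orderOf_eq_prime hx hx1]
  exact orderOf_dvd_iff_zpow_eq_one.mpr h

/-- A regular unipotent action forces `E` to be fixed by `p`-automorphisms. -/
theorem false_of_regular (S : Setup p E) {y : K} (hy : y ∉ E)
    (hreg : letI := frattiniCommGroup S.isPE; Nat.card (nu S.ρ (S.φ y)).range = p ^ 2)
    (ξ : MulAut K) {k₀ : ℕ} (hξ : ξ ^ p ^ k₀ = 1) (hne : E.map ξ.toMonoidHom ≠ E) : False := by
  let _ := frattiniCommGroup S.isPE
  have hp' : p.Prime := hp.out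
  have hP := S.isP
  have hPE := S.isPE
  have hodd : Odd p := hp'.odd_of_ne_two S.two
  set π := QuotientGroup.mk' (frattini E) with hπ
  have hπs : Function.Surjective π := QuotientGroup.mk'_surjective (frattini E)
  have hπ1 : ∀ x : E, π x = 1 ↔ x ∈ (frattini E) := fun x => QuotientGroup.eq_one_iff x
  set t := S.φ y with ht
  set ν := nu S.ρ t with hνdef
  have hν : ∀ e : E, ν (π e) = π (e⁻¹ * MulAut.conjNormal y e) := fun e => by
    rw [hνdef, nu_apply, ht, S.conj, map_mul, map_inv]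
  have hcube : ∀ v, ν (ν (ν v)) = 1 := S.nu_cube y
  obtain ⟨l₀, hl₀⟩ := S.exists_pow y
  -- the kernel is a line
  have hker : Nat.card ν.ker = p := by
    have h := ν.ker.card_mul_index
    rw [Subgroup.index_ker, hreg, S.card_quot] at h
    exact Nat.eq_of_mul_eq_mul_right (pow_pos hp'.pos 2) (h.trans (by ring))
  obtain ⟨v₀, hv₀⟩ : ∃ v, ν (ν v) ≠ 1 := by
    by_contra! h
    have hle : ν.range ≤ ν.ker := by rintro _ ⟨v, rfl⟩; exact h v
    have := Subgroup.card_le_of_le hle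
    rw [hreg, hker, pow_two] at this
    exact absurd this (not_le.mpr (lt_mul_of_one_lt_left hp'.pos hp'.one_lt))
  obtain ⟨b, rfl⟩ := hπs v₀
  -- the two maximal subgroups and their intersection
  set E' := E.map ξ.toMonoidHom with hE'
  have hE'n : E'.Normal := Subgroup.Normal.map inferInstance _ ξ.surjective
  have hE'i : E'.index = p := by
    rw [hE', Subgroup.index_map_of_bijective ξ.bijective, S.index]
  set D := E ⊓ E' with hDdef
  have hDn : D.Normal := by rw [hDdef]; infer_instance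
  have hcomE : commutator K ≤ E := commutator_le_of_prime_index E S.index
  have hcomE' : commutator K ≤ E' := commutator_le_of_prime_index E' hE'i
  have hcomD : commutator K ≤ D := le_inf hcomE hcomE'
  have hpowD : ∀ n : K, n ^ p ∈ D := fun n => ⟨S.pow_mem_E n, by
    have h := Subgroup.pow_index_mem E' n; rwa [hE'i] at h⟩
  obtain ⟨nK, hnK⟩ := IsPGroup.iff_card.mp hP
  have hEK : Nat.card E * p = Nat.card K := by rw [← S.index]; exact E.card_mul_index
  have hDne : D ≠ E := fun h => hne (Subgroup.eq_of_le_of_card_ge (h ▸ inf_le_right : E ≤ E') (by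
    rw [hE', Subgroup.card_map_of_injective ξ.injective])).symm
  have hDc : Nat.card D * p = Nat.card E := by
    refine le_antisymm (CfsgLib.FusionFourth.card_lt_mul (p := p) hnK (lt_of_le_of_ne inf_le_left hDne)) ?_
    refine Nat.le_of_mul_le_mul_right ?_ hp'.pos
    rw [hEK, mul_assoc, ← D.card_mul_index]
    exact Nat.mul_le_mul_left _ (Subgroup.index_inf_le.trans (by rw [S.index, hE'i]))
  have hΦD : ∀ x ∈ (frattini E), (x : K) ∈ D := fun x hx => by
    have hle : (frattini E) ≤ D.subgroupOf E := CfsgLib.PGroup.frattini_le_of (p := p) _ (by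
      rw [commutator_def, Subgroup.commutator_le]
      intro a _ c _
      exact hcomD (Subgroup.commutator_mem_commutator (Subgroup.mem_top (a : K)) (Subgroup.mem_top (c : K))))
      fun w => hpowD (w : K)
    exact hle hx
  have hconjD : ∀ e : E, ((e⁻¹ * MulAut.conjNormal y e : E) : K) ∈ D := fun e => by
    rw [Subgroup.coe_mul, Subgroup.coe_inv, MulAut.conjNormal_apply]
    have := hcomD (Subgroup.commutator_mem_commutator (Subgroup.mem_top ((e : K)⁻¹)) (Subgroup.mem_top y))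
    rwa [commutatorElement_def, inv_inv, mul_assoc, mul_assoc, ← mul_assoc y] at this
  set DE := D.subgroupOf E with hDE
  have hDEmap : DE.map π = ν.range := by
    refine (Subgroup.eq_of_le_of_card_ge ?_ (le_of_eq ?_)).symm
    · rintro _ ⟨v, rfl⟩
      obtain ⟨e, rfl⟩ := hπs v
      exact ⟨_, hconjD e, (hν e).symm⟩
    · rw [hreg]
      have h := CfsgLib.Coprime.card_map_mul_inf_ker π DE
      have hle : (frattini E) ≤ DE := hΦD
      rw [hπ, QuotientGroup.ker_mk', inf_eq_left.mpr hle,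
        Nat.card_congr (Subgroup.subgroupOfEquivOfLe (inf_le_left : D ≤ E)).toEquiv] at h
      have h2 := hDc
      rw [← h, ← (frattini E).card_mul_index, S.rank3] at h2
      refine Nat.eq_of_mul_eq_mul_right (Nat.mul_pos (Nat.card_pos (α := (frattini E))) hp'.pos) ?_
      rw [← mul_assoc, h2]; ring
  have hDiff : ∀ e : E, (e : K) ∈ D ↔ π e ∈ ν.range := fun e => by
    refine ⟨fun h => hDEmap ▸ ⟨e, h, rfl⟩, fun h => ?_⟩
    obtain ⟨d, hd, hde⟩ := hDEmap.ge h
    have h1 : d⁻¹ * e ∈ (frattini E) := by rw [← hπ1, map_mul, map_inv, hde, inv_mul_cancel]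
    have := D.mul_mem hd (hΦD _ h1)
    simpa using this
  have hνν : ∀ v, ν v ∈ ν.ker ↔ ν (ν v) = 1 := fun v => Iff.rfl
  have hrange_ker : ∀ v ∈ ν.range, ν v ∈ ν.ker := by
    rintro _ ⟨w, rfl⟩; exact hcube w
  -- invariant subgroups containing an element outside the range
  have hall : ∀ J : Subgroup (E ⧸ (frattini E)), (∀ v ∈ J, S.ρ t v ∈ J) → ¬ J ≤ ν.range → J = ⊤ := by
    intro J hJ hnle
    obtain ⟨j₀, hj₀, hj₀'⟩ := SetLike.not_le_iff_exists.mp hnle
    have hνJ : ∀ v ∈ J, ν v ∈ J := fun v hv => by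
      rw [hνdef, nu_apply]; exact J.mul_mem (J.inv_mem hv) (hJ v hv)
    have hsup : J ⊔ ν.range = ⊤ := by
      refine Subgroup.eq_top_of_le_card _ ?_
      have := CfsgLib.FusionFourth.card_lt_mul (p := p) (K := E ⧸ (frattini E)) S.card_quot (lt_of_le_of_ne
        (le_sup_right : ν.range ≤ J ⊔ ν.range) fun e => hj₀' (e.symm ▸ Subgroup.mem_sup_left hj₀))
      rw [hreg, ← pow_succ] at this
      rwa [S.card_quot]
    have hdec : ∀ v, ∃ j ∈ J, ∃ r, v = j * ν r := fun v => by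
      obtain ⟨j, hj, _, ⟨r, rfl⟩, hv⟩ := Subgroup.mem_sup_of_normal_left.mp (hsup.ge (Subgroup.mem_top v))
      exact ⟨j, hj, r, hv.symm⟩
    have hr : ν.range ≤ J := by
      rintro _ ⟨v, rfl⟩
      obtain ⟨j, hj, r, rfl⟩ := hdec v
      obtain ⟨j', hj', r', rfl⟩ := hdec r
      simp only [map_mul, hcube, mul_one]
      exact J.mul_mem (hνJ _ hj) (hνJ _ (hνJ _ hj'))
    rw [← hsup, sup_eq_left.mpr hr]
  have hmapinv : ∀ C : Subgroup E, (∀ a : MulAut E, ∀ x ∈ C, a x ∈ C) → ∀ g, ∀ v ∈ C.map π, S.ρ g v ∈ C.map π := by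
    rintro C hC g _ ⟨x, hx, rfl⟩
    obtain ⟨a, ha⟩ := S.lift g
    exact ⟨a x, hC a x hx, (ha x).symm⟩
  have hnoline : ∀ C : Subgroup E, (∀ a : MulAut E, ∀ x ∈ C, a x ∈ C) → Nat.card (C.map π) = p → False :=
    fun C hC hcard => no_invariant_line S.exp_quot S.card_quot S.two S.ρ S.inj S.emb hl₀ hreg (C.map π) hcard
      (hmapinv C hC)
  -- the Frattini subgroup consists of powers
  have hU : (frattini E) = pw p (⊤ : Subgroup E) := by
    refine le_antisymm ?_ (pw_le fun x _ => CfsgLib.PGroup.pow_mem_frattini hPE x)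
    by_contra hnot
    set N := pw p (⊤ : Subgroup E) ⊔ ⁅(frattini E), (⊤ : Subgroup E)⁆ with hN
    have hΦN : ¬ (frattini E) ≤ N := fun h => hnot (frattini_le_of_layer hPE _ h)
    let σ := QuotientGroup.mk' N
    have hσs : Function.Surjective σ := QuotientGroup.mk'_surjective N
    have hNΦ : N ≤ (frattini E) := sup_le (pw_le fun x _ => CfsgLib.PGroup.pow_mem_frattini hPE x)
      (Subgroup.commutator_le_left _ _)
    have hlayer := card_layer_le hPE S.rank3 S.rankE N le_rfl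
    have hlc : Nat.card ((frattini E).map σ) = p := by
      refine le_antisymm hlayer ?_
      obtain ⟨i, hi⟩ := IsPGroup.iff_card.mp (hPE.to_quotient N |>.to_subgroup ((frattini E).map σ))
      rw [hi]
      refine Nat.le_self_pow (fun h0 => hΦN ?_) p
      have hbot := Subgroup.card_eq_one.mp (show Nat.card ((frattini E).map σ) = 1 by rw [hi, h0, pow_zero])
      rwa [Subgroup.map_eq_bot_iff, QuotientGroup.ker_mk'] at hbot
    have hexp : ∀ x : E ⧸ N, x ^ p = 1 := fun x => by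
      obtain ⟨x, rfl⟩ := hσs x
      rw [← map_pow]
      exact (QuotientGroup.eq_one_iff _).mpr (Subgroup.mem_sup_left (pow_mem_pw (Subgroup.mem_top x)))
    have hYc : Nat.card (E ⧸ N) = p ^ 4 := by
      rw [← ((frattini E).map σ).card_mul_index, hlc, Subgroup.index_map_eq _ hσs (by rw [QuotientGroup.ker_mk']; exact hNΦ),
        S.rank3]
      ring
    have hYD : commutator (E ⧸ N) = (frattini E).map σ := by
      refine le_antisymm ?_ ?_
      · rw [commutator_def, ← Subgroup.map_top_of_surjective σ hσs, ← Subgroup.map_commutator, ← commutator_def]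
        exact Subgroup.map_mono (CfsgLib.PGroup.commutator_le_frattini hPE)
      · rw [Subgroup.map_le_iff_le_comap]
        refine CfsgLib.PGroup.frattini_le_of (p := p) _ ?_ fun x => ?_
        · rw [← Subgroup.map_le_iff_le_comap, commutator_def, Subgroup.map_commutator,
            Subgroup.map_top_of_surjective σ hσs, ← commutator_def]
        · show σ (x ^ p) ∈ commutator (E ⧸ N)
          rw [map_pow, hexp]; exact one_mem _
    obtain ⟨hcc, hcle⟩ := card_center_of_exponent hYc hexp (by rw [hYD, hlc])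
    set C := (Subgroup.center (E ⧸ N)).comap σ with hC
    have hNinv : ∀ a : MulAut E, ∀ x ∈ N, a x ∈ N := by
      intro a
      have : N ≤ N.comap (a : E →* E) := sup_le
        (fun x hx => Subgroup.mem_sup_left (pw_aut (fun w _ => Subgroup.mem_top _) hx))
        (fun x hx => Subgroup.mem_sup_right (aut_commutator (fun w hw => aut_mem_frattini a hw)
          (fun w _ => Subgroup.mem_top _) hx))
      exact this
    have hCmem : ∀ x : E, x ∈ C ↔ ∀ w : E, ⁅w, x⁆ ∈ N := fun x => by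
      rw [hC, Subgroup.mem_comap, Subgroup.mem_center_iff]
      refine ⟨fun h w => (QuotientGroup.eq_one_iff _).mp ?_, fun h q => ?_⟩
      · show σ ⁅w, x⁆ = 1
        rw [map_commutatorElement]; exact commutatorElement_eq_one_iff_mul_comm.mpr (h (σ w))
      · obtain ⟨w, rfl⟩ := hσs q
        refine commutatorElement_eq_one_iff_mul_comm.mp ?_
        rw [← map_commutatorElement]
        exact (QuotientGroup.eq_one_iff _).mpr (h w)
    refine hnoline C (fun a x hx => (hCmem _).mpr fun w => ?_) ?_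
    · obtain ⟨w, rfl⟩ := a.surjective w
      rw [← map_commutatorElement]
      exact hNinv a _ ((hCmem x).mp hx w)
    · have hΦC : (frattini E) ≤ C := by
        rw [← Subgroup.map_le_iff_le_comap, ← hYD]; exact hcle
      have hCi : C.index = p ^ 2 := by
        rw [hC, Subgroup.index_comap_of_surjective _ hσs]
        have h := (Subgroup.center (E ⧸ N)).card_mul_index
        rw [hcc, hYc, show p ^ 4 = p ^ 2 * p ^ 2 by ring] at h
        exact Nat.eq_of_mul_eq_mul_left (pow_pos hp'.pos 2) h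
      have h := (C.map π).card_mul_index
      rw [Subgroup.index_map_eq _ hπs (by rw [hπ, QuotientGroup.ker_mk']; exact hΦC), hCi, S.card_quot] at h
      exact Nat.eq_of_mul_eq_mul_right (pow_pos hp'.pos 2) (h.trans (by ring))
  -- powers generate the Frattini subgroup, seen in `K`
  have hQ : S.Q = pw p E := by
    rw [Setup.Q, hU, pw_map, ← MonoidHom.range_eq_map, Subgroup.range_subtype]
  have hEQ : ∀ x ∈ E, ∀ w ∈ E, ⁅x, w⁆ ∈ S.Q := fun x hx w hw =>
    ⟨⁅(⟨x, hx⟩ : E), ⟨w, hw⟩⁆, CfsgLib.PGroup.commutator_le_frattini hPE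
      (Subgroup.commutator_mem_commutator (Subgroup.mem_top _) (Subgroup.mem_top _)), rfl⟩
  have hQD : S.Q ≤ D := by rintro _ ⟨x, hx, rfl⟩; exact hΦD x hx
  set f := y ^ p with hf
  have hfj : ∀ (e : E) (j : ℕ), ((e : K) * y ^ j) ^ p * (f ^ j)⁻¹ ∈ S.Q := fun e j => by
    have h := S.pow_mul_mem e (y ^ j)
    rwa [← pow_mul, mul_comm j, pow_mul, ← hf] at h
  by_cases hfQ : f ∈ S.Q
  · -- all powers lie in the Frattini subgroup
    have hPQ : pw p (⊤ : Subgroup K) = S.Q := by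
      refine le_antisymm (pw_le fun n _ => ?_) (hQ ▸ pw_mono le_top)
      obtain ⟨e, he, j, rfl⟩ := S.decomp hy n
      have := S.Q.mul_mem (hfj ⟨e, he⟩ j) (S.Q.pow_mem hfQ j)
      rwa [inv_mul_cancel_right] at this
    have hξQ : ∀ x ∈ S.Q, ξ x ∈ S.Q := fun x hx => by
      rw [← hPQ] at hx ⊢; exact pw_aut (fun w _ => Subgroup.mem_top _) hx
    have hfix : ν.range ≤ ν.ker := by
      intro v hv
      obtain ⟨d, hd, rfl⟩ := hDEmap.ge hv
      show ν (π d) = 1
      let τ := QuotientGroup.mk' S.Q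
      let C := (Subgroup.centralizer ({τ (d : K)} : Set (K ⧸ S.Q))).comap τ
      have hmem : ∀ w, w ∈ C ↔ ⁅w, (d : K)⁆ ∈ S.Q := fun w => by
        rw [Subgroup.mem_comap, Subgroup.mem_centralizer_singleton_iff, ← commutatorElement_eq_one_iff_mul_comm,
          ← map_commutatorElement]
        exact QuotientGroup.eq_one_iff _
      have hEC : E ≤ C := fun w hw => (hmem w).mpr (hEQ w hw _ d.2)
      have hE'C : E' ≤ C := by
        rintro _ ⟨w, hw, rfl⟩
        obtain ⟨d₀, hd₀, hd₀'⟩ := (hd.2 : (d : K) ∈ E')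
        refine (hmem _).mpr ?_
        have hd₀'' : ξ d₀ = (d : K) := hd₀'
        rw [← hd₀'']
        show ⁅ξ w, ξ d₀⁆ ∈ S.Q
        rw [← map_commutatorElement]
        exact hξQ _ (hEQ w hw d₀ hd₀)
      have hyC : y ∈ C := by
        have hlt : E < E ⊔ E' := lt_of_le_of_ne le_sup_left fun e => hne (Subgroup.eq_of_le_of_card_ge
          (e.symm ▸ le_sup_right : E' ≤ E) (by rw [hE', Subgroup.card_map_of_injective ξ.injective]))
        have htop : E ⊔ E' = ⊤ := Subgroup.eq_top_of_le_card _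
          (hEK ▸ CfsgLib.FusionFourth.card_lt_mul (p := p) hnK hlt)
        exact sup_le hEC hE'C (htop ▸ Subgroup.mem_top y)
      rw [hν, hπ1]
      have h := S.Q_normal.conj_mem _ ((hmem y).mp hyC) (d : K)⁻¹
      have hgoal : ((d⁻¹ * MulAut.conjNormal y d : E) : K) ∈ S.Q := by
        rw [Subgroup.coe_mul, Subgroup.coe_inv, MulAut.conjNormal_apply]
        simpa [commutatorElement_def, mul_assoc] using h
      obtain ⟨z, hz, hze⟩ := hgoal
      exact Subtype.ext hze ▸ hz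
    have := Subgroup.card_le_of_le hfix
    rw [hreg, hker, pow_two] at this
    exact absurd this (not_le.mpr (lt_mul_of_one_lt_left hp'.pos hp'.one_lt))
  -- the element `f` spans the fixed line
  have hfE : f ∈ E := S.pow_mem_E y
  set fE : E := ⟨f, hfE⟩ with hfEdef
  have hπf : π fE ≠ 1 := fun h => hfQ ((S.mem_Q (e := fE)).mpr h)
  have hπf_ker : π fE ∈ ν.ker := by
    rw [MonoidHom.mem_ker, hν, hπ1]
    have : fE⁻¹ * MulAut.conjNormal y fE = 1 := Subtype.ext (by
      rw [Subgroup.coe_mul, Subgroup.coe_inv, MulAut.conjNormal_apply]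
      show f⁻¹ * (y * f * y⁻¹) = 1
      rw [(show Commute y f from (Commute.refl y).pow_right p).eq]
      group)
    rw [this]; exact one_mem _
  have hkerf : Subgroup.zpowers (π fE) = ν.ker := zpow_gen hker hπf_ker hπf
  have hfdvd : ∀ i : ℤ, f ^ i ∈ S.Q → (p : ℤ) ∣ i := fun i h => by
    refine zpow_val_eq_one (S.exp_quot _) hπf ?_
    rw [← map_zpow]
    exact S.mem_Q.mp (by simpa [fE] using h)
  have hyj : ∀ j : ℕ, f ^ j ∈ S.Q → y ^ j ∈ E := fun j h => by
    obtain ⟨i, rfl⟩ : p ∣ j := Int.natCast_dvd_natCast.mp (hfdvd j (by rwa [zpow_natCast]))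
    rw [pow_mul]; exact E.pow_mem hfE i
  set P := pw p (⊤ : Subgroup K) with hPdef
  have hPn : P.Normal := inferInstance
  have hQP : S.Q ≤ P := hQ ▸ pw_mono le_top
  have hfP : f ∈ P := pow_mem_pw (Subgroup.mem_top y)
  set PE := ν.ker.comap π with hPEdef
  have hPeq : P = PE.map E.subtype := by
    refine le_antisymm (pw_le fun n _ => ?_) ?_
    · obtain ⟨e, he, j, rfl⟩ := S.decomp hy n
      refine ⟨⟨_, S.pow_mem_E _⟩, ?_, rfl⟩
      show π ⟨_, _⟩ ∈ ν.ker
      rw [← hkerf]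
      refine ⟨(j : ℤ), ?_⟩
      show π fE ^ (j : ℤ) = _
      rw [zpow_natCast, ← map_pow, hπ, QuotientGroup.mk'_apply, QuotientGroup.mk'_apply, QuotientGroup.eq]
      obtain ⟨z, hz, hze⟩ := hfj ⟨e, he⟩ j
      have h2 : MulAut.conjNormal (H := E) (f ^ j)⁻¹ z = (fE ^ j)⁻¹ * ⟨_, S.pow_mem_E (e * y ^ j)⟩ := by
        refine Subtype.ext ?_
        rw [MulAut.conjNormal_apply, show (z : K) = _ from hze, Subgroup.coe_mul, Subgroup.coe_inv,
          SubmonoidClass.coe_pow, inv_inv]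
        group
        rfl
      exact h2 ▸ aut_mem_frattini _ hz
    · rintro _ ⟨x, hx, rfl⟩
      obtain ⟨i, hi⟩ := hkerf.ge hx
      have h1 : (fE ^ i)⁻¹ * x ∈ (frattini E) := by
        rw [← hπ1, map_mul, map_inv, map_zpow]
        exact inv_mul_eq_one.mpr hi
      have := P.mul_mem (P.zpow_mem hfP i) (hQP ⟨_, h1, rfl⟩)
      simpa [fE] using this
  have hPc : Nat.card P = Nat.card (frattini E) * p := by
    rw [hPeq, Subgroup.card_map_of_injective E.subtype_injective, hPEdef, hπ, card_comap, hker]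
  have hPmem : ∀ e : E, (e : K) ∈ P ↔ π e ∈ ν.ker := fun e => by
    rw [hPeq]
    exact Subgroup.mem_map_iff_mem E.subtype_injective
  have hPD : P ≤ D := pw_le fun n _ => hpowD n
  -- the intersection is characteristic
  have hDchar : D = commutator K ⊔ P := by
    refine le_antisymm (fun d hd => ?_) (sup_le hcomD hPD)
    obtain ⟨v, hv⟩ := (hDiff ⟨d, hd.1⟩).mp hd
    obtain ⟨e, rfl⟩ := hπs v
    rw [hν] at hv
    set z := e⁻¹ * MulAut.conjNormal y e with hz
    have h1 : z⁻¹ * ⟨d, hd.1⟩ ∈ (frattini E) := by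
      rw [← hπ1, map_mul, map_inv, hv, inv_mul_cancel]
    have h2 : (z : K) ∈ commutator K := by
      rw [hz, Subgroup.coe_mul, Subgroup.coe_inv, MulAut.conjNormal_apply]
      have := Subgroup.commutator_mem_commutator (Subgroup.mem_top ((e : K)⁻¹)) (Subgroup.mem_top y)
      rwa [commutatorElement_def, inv_inv, mul_assoc, mul_assoc, ← mul_assoc y] at this
    have := (commutator K ⊔ P).mul_mem (Subgroup.mem_sup_left h2)
      (Subgroup.mem_sup_right (hQP ⟨_, h1, rfl⟩) : (((z⁻¹ * ⟨d, hd.1⟩ : E)) : K) ∈ commutator K ⊔ P)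
    clear_value z
    rwa [Subgroup.coe_mul, Subgroup.coe_inv, mul_inv_cancel_left] at this
  have hξD : ∀ x ∈ D, ξ x ∈ D := by
    have : commutator K ⊔ P ≤ (commutator K ⊔ P).comap (ξ : K →* K) := sup_le
      (fun x hx => Subgroup.mem_sup_left (by
        rw [commutator_def] at hx ⊢
        exact aut_commutator (fun w _ => Subgroup.mem_top _) (fun w _ => Subgroup.mem_top _) hx))
      (fun x hx => Subgroup.mem_sup_right (pw_aut (fun w _ => Subgroup.mem_top _) hx))
    intro x hx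
    rw [hDchar] at hx ⊢
    exact this hx
  have hξP : ∀ x ∈ P, ξ x ∈ P := fun x hx => pw_aut (fun w _ => Subgroup.mem_top _) hx
  have hfin : (∀ e ∈ E, ξ e ∈ E) → False := fun h => hne (Subgroup.eq_of_le_of_card_ge
    (by rintro _ ⟨e, he, rfl⟩; exact h e he) (by rw [hE', Subgroup.card_map_of_injective ξ.injective]))
  by_cases hQbot : (frattini E) = ⊥
  · refine hfin fun x hx => ?_
    have hQ1 : S.Q = ⊥ := by rw [Setup.Q, hQbot, Subgroup.map_bot]
    have hxp : x ^ p = 1 := Subgroup.mem_bot.mp (hQ1 ▸ hQ ▸ pow_mem_pw hx)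
    obtain ⟨e, he, j, hj⟩ := S.decomp hy (ξ x)
    have h := hfj ⟨e, he⟩ j
    rw [← hj, ← map_pow, hxp, map_one, one_mul, inv_mem_iff] at h
    rw [hj]; exact E.mul_mem he (hyj j h)
  -- the next layer
  set N₂ := ⁅(frattini E), (⊤ : Subgroup E)⁆ ⊔ pw p (frattini E) with hN₂
  have hN₂inv : ∀ a : MulAut E, ∀ x ∈ N₂, a x ∈ N₂ := by
    intro a
    have : N₂ ≤ N₂.comap (a : E →* E) := sup_le
      (fun x hx => Subgroup.mem_sup_left (aut_commutator (fun w hw => aut_mem_frattini a hw)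
        (fun w _ => Subgroup.mem_top _) hx))
      (fun x hx => Subgroup.mem_sup_right (pw_aut (fun w hw => aut_mem_frattini a hw) hx))
    exact this
  have hN₂n : N₂.Normal := ⟨fun x hx g => hN₂inv (MulAut.conj g) x hx⟩
  have hΦN₂ : ¬ (frattini E) ≤ N₂ := by
    intro h
    have h1 : (frattini E) ≤ pw p (frattini E) := frattini_le_of_layer hPE _ (by rwa [sup_comm])
    have : Nontrivial (frattini E) := (Subgroup.nontrivial_iff_ne_bot _).mpr hQbot
    refine CfsgLib.PGroup.frattini_ne_top (P := (frattini E)) (top_le_iff.mp fun x _ => ?_)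
    have h2 : pw p (frattini E) ≤ (frattini (frattini E)).map (frattini E).subtype := pw_le fun w hw =>
      ⟨(⟨w, hw⟩ : (frattini E)) ^ p, CfsgLib.PGroup.pow_mem_frattini (hPE.to_subgroup (frattini E)) _, rfl⟩
    obtain ⟨z, hz, hze⟩ := h2 (h1 x.2)
    exact Subtype.ext hze ▸ hz
  let σE := QuotientGroup.mk' N₂
  have hσ1 : ∀ x : E, σE x = 1 ↔ x ∈ N₂ := fun x => QuotientGroup.eq_one_iff x
  have hcenΦ : ∀ x ∈ (frattini E), σE x ∈ Subgroup.center (E ⧸ N₂) := fun x hx => by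
    refine Subgroup.mem_center_iff.mpr fun q => ?_
    obtain ⟨q, rfl⟩ := QuotientGroup.mk'_surjective N₂ q
    refine (commutatorElement_eq_one_iff_mul_comm.mp ?_).symm
    rw [← map_commutatorElement, hσ1]
    exact Subgroup.mem_sup_left (Subgroup.commutator_mem_commutator hx (Subgroup.mem_top q))
  let powHom : E →* E ⧸ N₂ := MonoidHom.mk' (fun x => σE x ^ p) fun x w => by
    have hm : ⁅w, x⁆ ∈ (frattini E) := CfsgLib.PGroup.commutator_le_frattini hPE
      (Subgroup.commutator_mem_commutator (Subgroup.mem_top w) (Subgroup.mem_top x))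
    show σE (x * w) ^ p = σE x ^ p * σE w ^ p
    rw [map_mul]
    refine CfsgLib.PGroup.mul_pow_odd_of_central hodd ?_ ?_
    · rw [← map_commutatorElement]; exact hcenΦ _ hm
    · rw [← map_commutatorElement, ← map_pow, hσ1]; exact Subgroup.mem_sup_right (pow_mem_pw hm)
  have hpowHom : ∀ x : E, powHom x = σE (x ^ p) := fun x => (map_pow σE x p).symm
  set J := powHom.ker with hJdef
  have hJiff : ∀ x, x ∈ J ↔ x ^ p ∈ N₂ := fun x => by rw [hJdef, MonoidHom.mem_ker, hpowHom, hσ1]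
  have hΦJ : (frattini E) ≤ J := fun x hx => (hJiff x).mpr (Subgroup.mem_sup_right (pow_mem_pw hx))
  have hJinv : ∀ a : MulAut E, ∀ x ∈ J, a x ∈ J := fun a x hx => by
    rw [hJiff, ← map_pow] at *
    exact hN₂inv a _ hx
  have hJmem : ∀ x, π x ∈ J.map π → x ∈ J := fun x h => by
    obtain ⟨z, hz, hzx⟩ := h
    have : z⁻¹ * x ∈ J := hΦJ (by rw [← hπ1, map_mul, map_inv, hzx, inv_mul_cancel])
    simpa using J.mul_mem hz this
  have hJle : J.map π ≤ ν.range := by
    by_contra hle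
    have htop := hall _ (hmapinv J hJinv t) hle
    refine hΦN₂ (hU ▸ pw_le fun x _ => (hJiff x).mp (hJmem x (htop ▸ Subgroup.mem_top _)))
  -- normal subgroups of `K`
  set Q₂ := N₂.map E.subtype with hQ₂
  have hQ₂n : Q₂.Normal := ⟨fun x hx g => by
    obtain ⟨x, hx, rfl⟩ := hx
    exact ⟨MulAut.conjNormal g x, hN₂inv _ _ hx, MulAut.conjNormal_apply _ _⟩⟩
  have hQ₂Q : Q₂ ≤ S.Q := Subgroup.map_mono (sup_le (Subgroup.commutator_le_left _ _) (pw_le_self (frattini E)))
  have hQE : ∀ q ∈ S.Q, ∀ e ∈ E, ⁅q, e⁆ ∈ Q₂ := by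
    rintro _ ⟨q, hq, rfl⟩ e he
    exact ⟨⁅q, ⟨e, he⟩⁆, Subgroup.mem_sup_left (Subgroup.commutator_mem_commutator hq (Subgroup.mem_top _)), rfl⟩
  have hQp : ∀ q ∈ S.Q, q ^ p ∈ Q₂ := by
    rintro _ ⟨q, hq, rfl⟩
    exact ⟨q ^ p, Subgroup.mem_sup_right (pow_mem_pw hq), rfl⟩
  have hpowmul : ∀ x ∈ E, ∀ w ∈ E, (x * w) ^ p * (x ^ p * w ^ p)⁻¹ ∈ Q₂ := fun x hx w hw => by
    refine ⟨((⟨x, hx⟩ : E) * ⟨w, hw⟩) ^ p * ((⟨x, hx⟩ : E) ^ p * (⟨w, hw⟩ : E) ^ p)⁻¹, ?_, rfl⟩
    show _ ∈ N₂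
    rw [← hσ1, map_mul, map_inv, map_mul, ← hpowHom, ← hpowHom, ← hpowHom, map_mul, mul_inv_cancel]
  set P₃' := pw p D ⊔ Q₂ with hP₃'
  have hP₃'n : P₃'.Normal := Subgroup.sup_normal _ _
  have hP₃'Q : P₃' ≤ S.Q := sup_le (hQ ▸ pw_mono inf_le_left) hQ₂Q
  have hbD : (b : K) ∉ D := fun h => by
    obtain ⟨v, hv⟩ := (hDiff b).mp h
    exact hv₀ (by rw [← hv, hcube])
  have hb3 : (b : K) ^ p ∉ P₃' := by
    intro h
    have hle : P₃' ≤ ((DE.map powHom).comap σE).map E.subtype := by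
      refine sup_le (pw_le fun d hd => ⟨(⟨d, hd.1⟩ : E) ^ p, ⟨⟨d, hd.1⟩, hd, hpowHom _⟩, rfl⟩) ?_
      refine Subgroup.map_mono fun x hx => ?_
      rw [Subgroup.mem_comap, (hσ1 x).mpr hx]; exact one_mem _
    obtain ⟨z, ⟨d, hd, hdz⟩, hz⟩ := hle h
    have hzb : z = b ^ p := Subtype.ext (by simpa using hz)
    have hJb : b * d⁻¹ ∈ J := by
      rw [hJdef, MonoidHom.mem_ker, map_mul, map_inv, hdz, hzb, ← hpowHom, mul_inv_cancel]
    have h2 := hJle ⟨_, hJb, rfl⟩
    rw [map_mul, map_inv, Subgroup.mul_mem_cancel_right _ (ν.range.inv_mem ((hDiff d).mp hd))] at h2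
    exact hbD ((hDiff b).mpr h2)
  -- generators
  set c : E := b⁻¹ * MulAut.conjNormal y b with hcdef
  have hcD : (c : K) ∈ D := hconjD b
  have hπc : π c = ν (π b) := (hν b).symm
  set w : E := c⁻¹ * MulAut.conjNormal y c with hwdef
  have hπw : π w = ν (ν (π b)) := by rw [← hπc, hν]
  have hwP : (w : K) ∈ P := (hPmem w).mpr (by rw [hπw]; exact hcube _)
  have hyb : y * (b : K) * y⁻¹ = b * c := by simp [hcdef, mul_assoc]
  have hyc : y * (c : K) * y⁻¹ = c * w := by simp [hwdef, mul_assoc]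
  obtain ⟨κ, hκ⟩ : π w ∈ Subgroup.zpowers (π fE) := by rw [hkerf, hπw]; exact hcube _
  have hκ0 : ¬ (p : ℤ) ∣ κ := fun ⟨i, hi⟩ => hv₀ (by
    rw [← hπw, ← hκ]
    show π fE ^ κ = 1
    rw [hi, zpow_mul, zpow_natCast, S.exp_quot, one_zpow])
  have hwf : (f ^ κ)⁻¹ * (w : K) ∈ S.Q := ⟨(fE ^ κ)⁻¹ * w, by
    show _ ∈ (frattini E)
    rw [← hπ1, map_mul, map_inv, map_zpow]
    exact inv_mul_eq_one.mpr hκ, by simp [fE]⟩
  have hcP : (c : K) ∉ P := fun h => hv₀ (by
    have := (hPmem c).mp h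
    rwa [hπc, MonoidHom.mem_ker] at this)
  have hDgen : D ≤ Subgroup.zpowers (c : K) ⊔ P := by
    refine (Subgroup.eq_of_le_of_card_ge (sup_le (Subgroup.zpowers_le.mpr hcD) hPD) ?_).ge
    have h1 := CfsgLib.FusionFourth.card_lt_mul (p := p) hnK (lt_of_le_of_ne
      (le_sup_right : P ≤ Subgroup.zpowers (c : K) ⊔ P)
      fun e => hcP (e.symm ▸ Subgroup.mem_sup_left (Subgroup.mem_zpowers _)))
    refine le_trans ?_ h1
    refine Nat.le_of_mul_le_mul_right ?_ hp'.pos
    rw [hDc, hPc, ← (frattini E).card_mul_index, S.rank3]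
    exact le_of_eq (by ring)
  have hEgen : ∀ x ∈ E, ∃ d ∈ D, ∃ i : ℤ, x = d * (b : K) ^ i := by
    have heq : D ⊔ Subgroup.zpowers (b : K) = E := by
      refine Subgroup.eq_of_le_of_card_ge (sup_le inf_le_left (Subgroup.zpowers_le.mpr b.2)) ?_
      exact hDc ▸ CfsgLib.FusionFourth.card_lt_mul (p := p) hnK (lt_of_le_of_ne le_sup_left
        fun e => hbD (e.symm ▸ Subgroup.mem_sup_right (Subgroup.mem_zpowers _)))
    intro x hx
    obtain ⟨d, hd, _, ⟨i, rfl⟩, rfl⟩ := Subgroup.mem_sup_of_normal_left.mp (heq.ge hx)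
    exact ⟨d, hd, i, rfl⟩
  -- modulo `P₃'` the subgroup `P` is central
  set σ₃ := QuotientGroup.mk' P₃' with hσ₃
  have h3one : ∀ x, x ∈ P₃' → σ₃ x = 1 := fun x hx => (QuotientGroup.eq_one_iff x).mpr hx
  have h3Q : ∀ q ∈ S.Q, ∀ e ∈ E, Commute (σ₃ q) (σ₃ e) := fun q hq e he =>
    commutatorElement_eq_one_iff_mul_comm.mp (by
      rw [← map_commutatorElement]; exact h3one _ (Subgroup.mem_sup_right (hQE q hq e he)))
  have h3yQ : ∀ q ∈ S.Q, Commute (σ₃ y) (σ₃ q) := by
    have hle : S.Q ≤ (Subgroup.centralizer ({σ₃ y} : Set (K ⧸ P₃'))).comap σ₃ := by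
      rw [hQ]
      refine pw_le fun e he => Subgroup.mem_centralizer_singleton_iff.mpr ?_
      obtain ⟨d, hd, hde⟩ : ∃ d ∈ D, y * e * y⁻¹ = e * d :=
        ⟨_, hconjD ⟨e, he⟩, by simp [mul_assoc]⟩
      have key : σ₃ (y * e ^ p * y⁻¹) = σ₃ (e ^ p) := by
        rw [show y * e ^ p * y⁻¹ = (e * d) ^ p by rw [← hde, conj_pow]]
        have h := h3one _ (Subgroup.mem_sup_right (hpowmul e he d hd.1))
        rw [map_mul, map_inv, mul_inv_eq_one, map_mul, h3one _ (Subgroup.mem_sup_left (pow_mem_pw hd)),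
          mul_one] at h
        exact h
      rw [map_mul, map_mul, map_inv, mul_inv_eq_iff_eq_mul] at key
      exact key.symm
    exact fun q hq => (Subgroup.mem_centralizer_singleton_iff.mp (hle hq)).symm
  have h3yP : ∀ x ∈ P, Commute (σ₃ y) (σ₃ x) := by
    intro x hx
    obtain ⟨xe, hxe, rfl⟩ := hPeq.le hx
    obtain ⟨i, hi⟩ := hkerf.ge hxe
    have h1 : (fE ^ i)⁻¹ * xe ∈ (frattini E) := by
      rw [← hπ1, map_mul, map_inv, map_zpow]; exact inv_mul_eq_one.mpr hi
    have h2 : (f ^ i)⁻¹ * (xe : K) ∈ S.Q := ⟨_, h1, by simp [fE]⟩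
    have h3 := h3yQ _ h2
    have h4 : Commute (σ₃ y) (σ₃ (f ^ i)) := by
      rw [map_zpow, hf, map_pow]; exact (Commute.pow_right (Commute.refl _) p).zpow_right i
    have h5 := h4.mul_right h3
    rwa [← map_mul, mul_inv_cancel_left] at h5
  have hfix3 : ∀ x ∈ P, σ₃ y * σ₃ x * (σ₃ y)⁻¹ = σ₃ x := fun x hx => by
    rw [(h3yP x hx).eq, mul_inv_cancel_right]
  have h3fD : ∀ d ∈ D, Commute (σ₃ f) (σ₃ d) := by
    intro d hd
    set dE : E := ⟨d, hd.1⟩
    set w' : E := dE⁻¹ * MulAut.conjNormal y dE with hw'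
    have hw'P : (w' : K) ∈ P := (hPmem w').mpr (by rw [← hν]; exact hrange_ker _ ((hDiff dE).mp hd))
    have h := conj_pow_iter (g := σ₃ y) (b := σ₃ d) (c := σ₃ (w' : K)) (w := 1) (r := 1)
      (by rw [← map_inv, ← map_mul, ← map_mul, ← map_mul]; congr 1; simp [hw', dE, mul_assoc])
      (by rw [mul_one]; exact hfix3 _ hw'P) (by simp) (by simp) (Commute.one_right _) (Commute.one_right _)
      (Commute.one_right _) p
    rw [one_pow, one_pow, mul_one, mul_one, ← map_pow, ← hf, ← map_pow,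
      h3one _ (Subgroup.mem_sup_left (pow_mem_pw (hPD hw'P))), mul_one, mul_inv_eq_iff_eq_mul] at h
    exact h
  have h3PD : ∀ x ∈ P, ∀ d ∈ D, Commute (σ₃ x) (σ₃ d) := by
    intro x hx d hd
    obtain ⟨xe, hxe, rfl⟩ := hPeq.le hx
    obtain ⟨i, hi⟩ := hkerf.ge hxe
    have h1 : (fE ^ i)⁻¹ * xe ∈ (frattini E) := by
      rw [← hπ1, map_mul, map_inv, map_zpow]; exact inv_mul_eq_one.mpr hi
    have h2 : (f ^ i)⁻¹ * (xe : K) ∈ S.Q := ⟨_, h1, by simp [fE]⟩
    have h5 := (show Commute (σ₃ (f ^ i)) (σ₃ d) by rw [map_zpow]; exact (h3fD d hd).zpow_left i).mul_left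
      (h3Q _ h2 d hd.1)
    rwa [← map_mul, mul_inv_cancel_left] at h5
  have hchoose : ∀ k, 0 < k → k < p → p ∣ p.choose k := fun k hk hk' => hp'.dvd_choose_self (by omega) hk'
  have h5p := S.five
  have h3fb : Commute (σ₃ f) (σ₃ (b : K)) := by
    have h := conj_pow_iter (g := σ₃ y) (b := σ₃ (b : K)) (c := σ₃ (c : K)) (w := σ₃ (w : K)) (r := 1)
      (by rw [← map_inv, ← map_mul, ← map_mul, ← map_mul, hyb])
      (by rw [← map_inv, ← map_mul, ← map_mul, ← map_mul, hyc])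
      (by rw [mul_one]; exact hfix3 _ hwP) (by simp) (h3PD _ hwP _ hcD).symm (Commute.one_right _)
      (Commute.one_right _) p
    obtain ⟨m, hm⟩ := hchoose 2 (by norm_num) (by omega)
    rw [one_pow, mul_one, hm, pow_mul, ← map_pow, ← hf, ← map_pow, ← map_pow,
      h3one _ (Subgroup.mem_sup_left (pow_mem_pw hcD)),
      h3one _ (Subgroup.mem_sup_left (pow_mem_pw (hPD hwP))), one_pow, mul_one, mul_one,
      mul_inv_eq_iff_eq_mul] at h
    exact h
  have h3cen : ∀ x ∈ P, ∀ n : K, Commute (σ₃ x) (σ₃ n) := by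
    intro x hx n
    let C := (Subgroup.centralizer ({σ₃ x} : Set (K ⧸ P₃'))).comap σ₃
    have hC : ∀ z, z ∈ C ↔ Commute (σ₃ z) (σ₃ x) := fun z => Subgroup.mem_centralizer_singleton_iff
    have hDC : D ≤ C := fun d hd => (hC d).mpr (h3PD x hx d hd).symm
    have hyC : y ∈ C := (hC y).mpr (h3yP x hx)
    have hbC : (b : K) ∈ C := by
      refine (hC _).mpr ?_
      obtain ⟨xe, hxe, rfl⟩ := hPeq.le hx
      obtain ⟨i, hi⟩ := hkerf.ge hxe
      have h1 : (fE ^ i)⁻¹ * xe ∈ (frattini E) := by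
        rw [← hπ1, map_mul, map_inv, map_zpow]; exact inv_mul_eq_one.mpr hi
      have h2 : (f ^ i)⁻¹ * (xe : K) ∈ S.Q := ⟨_, h1, by simp [fE]⟩
      have h5 := (show Commute (σ₃ (f ^ i)) (σ₃ (b : K)) by rw [map_zpow]; exact h3fb.zpow_left i).mul_left
        (h3Q _ h2 b b.2)
      rw [← map_mul, mul_inv_cancel_left] at h5
      exact h5.symm
    obtain ⟨e, he, j, rfl⟩ := S.decomp hy n
    obtain ⟨d, hd, i, rfl⟩ := hEgen e he
    exact ((hC _).mp (C.mul_mem (C.mul_mem (hDC hd) (C.zpow_mem hbC i)) (C.pow_mem hyC j))).symm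
  -- the characteristic subgroup `P₃`
  set P₃ := ⁅P, (⊤ : Subgroup K)⁆ ⊔ pw p D with hP₃
  have hP₃n : P₃.Normal := Subgroup.sup_normal _ _
  have hP₃le : P₃ ≤ P₃' := by
    refine sup_le ?_ le_sup_left
    rw [Subgroup.commutator_le]
    intro x hx n _
    rw [← QuotientGroup.eq_one_iff]
    show σ₃ _ = 1
    rw [map_commutatorElement]
    exact commutatorElement_eq_one_iff_mul_comm.mpr (h3cen x hx n)
  have hξP₃ : ∀ x ∈ P₃, ξ x ∈ P₃ := by
    have : P₃ ≤ P₃.comap (ξ : K →* K) := sup_le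
      (fun x hx => Subgroup.mem_sup_left (aut_commutator hξP (fun z _ => Subgroup.mem_top _) hx))
      (fun x hx => Subgroup.mem_sup_right (pw_aut hξD hx))
    exact this
  set σ := QuotientGroup.mk' P₃ with hσ
  have hσone : ∀ x, x ∈ P₃ → σ x = 1 := fun x hx => (QuotientGroup.eq_one_iff x).mpr hx
  have hσcen : ∀ x ∈ P, ∀ n : K, Commute (σ x) (σ n) := fun x hx n =>
    commutatorElement_eq_one_iff_mul_comm.mp (by
      rw [← map_commutatorElement]
      exact hσone _ (Subgroup.mem_sup_left (Subgroup.commutator_mem_commutator hx (Subgroup.mem_top n))))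
  have hQ₂P₃ : Q₂ ≤ P₃ := by
    rw [hQ₂, hN₂, Subgroup.map_sup, Subgroup.map_commutator, pw_map]
    exact sup_le (le_sup_of_le_left (Subgroup.commutator_mono hQP le_top)) (le_sup_of_le_right (pw_mono hQD))
  let F₁ : E →* K ⧸ P₃ := MonoidHom.mk' (fun x => σ ((x : K) ^ p)) fun x z => by
    have h := hσone _ (hQ₂P₃ (hpowmul x x.2 z z.2))
    rw [map_mul, map_inv, mul_inv_eq_one, map_mul] at h
    exact h
  let F₂ : E →* K ⧸ P₃ := MonoidHom.mk' (fun x => σ ⁅(x : K), (c : K)⁆) fun x z => by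
    have hzP : ⁅(z : K), (c : K)⁆ ∈ P := hQP (hEQ _ z.2 _ c.2)
    have hxP : ⁅(x : K), (c : K)⁆ ∈ P := hQP (hEQ _ x.2 _ c.2)
    show σ ⁅(x : K) * z, (c : K)⁆ = σ ⁅(x : K), (c : K)⁆ * σ ⁅(z : K), (c : K)⁆
    rw [show ⁅(x : K) * z, (c : K)⁆ = x * ⁅(z : K), (c : K)⁆ * (x : K)⁻¹ * ⁅(x : K), (c : K)⁆ by
      simp only [commutatorElement_def]; group]
    rw [map_mul, map_mul, map_mul, map_inv, ← (hσcen _ hzP x).eq, mul_inv_cancel_right]
    exact (hσcen _ hzP _).eq
  obtain ⟨kk, hkk⟩ : ∃ kk : ℤ, σ ⁅(b : K), (c : K)⁆ = F₁ b ^ kk := by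
    have hle : S.Q ≤ (Subgroup.zpowers (F₁ b)).comap σ := by
      rw [hQ]
      refine pw_le fun x hx => ?_
      obtain ⟨d, hd, i, rfl⟩ := hEgen x hx
      refine ⟨i, ?_⟩
      have h := map_mul F₁ ⟨d, hd.1⟩ (b ^ i)
      have hd1 : F₁ ⟨d, hd.1⟩ = 1 := hσone _ (Subgroup.mem_sup_right (pow_mem_pw hd))
      rw [hd1, one_mul, map_zpow] at h
      exact h.symm.trans (by show σ (((⟨d, hd.1⟩ : E) * b ^ i : E) : K) ^ p = _; rw [← map_pow]; simp)
    obtain ⟨kk, hkk⟩ := hle (hEQ _ b.2 _ c.2)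
    exact ⟨kk, hkk.symm⟩
  have hF₁b : F₁ b ≠ 1 := fun h => hb3 (hP₃le ((QuotientGroup.eq_one_iff _).mp h))
  have hF₁bp : F₁ b ^ p = 1 := by
    show σ ((b : K) ^ p) ^ p = 1
    rw [← map_pow]
    exact hσone _ (hQ₂P₃ (hQp _ (hQ ▸ pow_mem_pw b.2)))
  -- the two scalars differ
  have hdiff : ¬ (p : ℤ) ∣ κ - kk := by
    intro hdvd
    set P₄ := pw p P ⊔ Q₂ with hP₄
    have hP₄n : P₄.Normal := Subgroup.sup_normal _ _
    let σ₄ := QuotientGroup.mk' P₄
    have h4one : ∀ x, x ∈ P₄ → σ₄ x = 1 := fun x hx => (QuotientGroup.eq_one_iff x).mpr hx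
    have h4Q : ∀ q ∈ S.Q, ∀ e ∈ E, Commute (σ₄ q) (σ₄ e) := fun q hq e he =>
      commutatorElement_eq_one_iff_mul_comm.mp (by
        rw [← map_commutatorElement]; exact h4one _ (Subgroup.mem_sup_right (hQE q hq e he)))
    have h4Qp : ∀ q ∈ S.Q, σ₄ q ^ p = 1 := fun q hq => by
      rw [← map_pow]; exact h4one _ (Subgroup.mem_sup_right (hQp q hq))
    have h4pow : ∀ x ∈ E, ∀ z ∈ E, σ₄ ((x * z) ^ p) = σ₄ (x ^ p) * σ₄ (z ^ p) := fun x hx z hz => by
      have h := h4one _ (Subgroup.mem_sup_right (hpowmul x hx z hz))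
      rw [map_mul, map_inv, mul_inv_eq_one, map_mul] at h
      exact h
    have h4y : ∀ u ∈ P₃', σ₄ y * σ₄ u * (σ₄ y)⁻¹ = σ₄ u := by
      have hle : P₃' ≤ (Subgroup.centralizer ({σ₄ y} : Set (K ⧸ P₄))).comap σ₄ := by
        refine sup_le (pw_le fun d hd => Subgroup.mem_centralizer_singleton_iff.mpr ?_) fun q hq => ?_
        · set dE : E := ⟨d, hd.1⟩
          set w' : E := dE⁻¹ * MulAut.conjNormal y dE with hw'
          have hw'P : (w' : K) ∈ P := (hPmem w').mpr (by rw [← hν]; exact hrange_ker _ ((hDiff dE).mp hd))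
          have key : σ₄ (y * d ^ p * y⁻¹) = σ₄ (d ^ p) := by
            rw [show y * d ^ p * y⁻¹ = (d * (w' : K)) ^ p by
              rw [show d * (w' : K) = y * d * y⁻¹ by simp [hw', dE, mul_assoc], conj_pow]]
            rw [h4pow d hd.1 _ w'.2, h4one _ (Subgroup.mem_sup_left (pow_mem_pw hw'P)), mul_one]
          rw [map_mul, map_mul, map_inv, mul_inv_eq_iff_eq_mul] at key
          exact key.symm
        · refine Subgroup.mem_centralizer_singleton_iff.mpr ?_
          rw [h4one q (Subgroup.mem_sup_right hq), one_mul, mul_one]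
      intro u hu
      rw [← Subgroup.mem_centralizer_singleton_iff.mp (hle hu), mul_inv_cancel_right]
    set r : K := (w : K)⁻¹ * (y * w * y⁻¹) with hr
    have hr3 : r ∈ P₃' := by
      rw [← QuotientGroup.eq_one_iff]
      show σ₃ r = 1
      rw [hr, map_mul, map_inv, map_mul, map_mul, map_inv, hfix3 _ hwP, inv_mul_cancel]
    have hrQ := hP₃'Q hr3
    have hyw : σ₄ y * σ₄ (w : K) * (σ₄ y)⁻¹ = σ₄ (w : K) * σ₄ r := by
      rw [← map_inv, ← map_mul, ← map_mul, ← map_mul]; congr 1; simp [hr, mul_assoc]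
    have hwr : Commute (σ₄ (w : K)) (σ₄ r) := (h4Q r hrQ _ w.2).symm
    have hwp : σ₄ (w : K) ^ p = 1 := by rw [← map_pow]; exact h4one _ (Subgroup.mem_sup_left (pow_mem_pw hwP))
    obtain ⟨m2, hm2⟩ := hchoose 2 (by norm_num) (by omega)
    obtain ⟨m3, hm3⟩ := hchoose 3 (by norm_num) (by omega)
    have h4fc : Commute (σ₄ f) (σ₄ (c : K)) := by
      have h := conj_pow_iter (g := σ₄ y) (b := σ₄ (c : K)) (c := σ₄ (w : K)) (w := σ₄ r) (r := 1)
        (by rw [← map_inv, ← map_mul, ← map_mul, ← map_mul, hyc]) hyw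
        (by rw [mul_one]; exact h4y r hr3) (by simp) hwr (Commute.one_right _) (Commute.one_right _) p
      rw [one_pow, mul_one, hwp, mul_one, hm2, pow_mul, h4Qp r hrQ, one_pow, mul_one, ← map_pow, ← hf,
        mul_inv_eq_iff_eq_mul] at h
      exact h
    have hwsplit : σ₄ (w : K) = σ₄ f ^ κ * σ₄ ((f ^ κ)⁻¹ * (w : K)) := by
      rw [← map_zpow, ← map_mul, mul_inv_cancel_left]
    have hcw : Commute (σ₄ (c : K)) (σ₄ (w : K)) := by
      rw [hwsplit]; exact ((h4fc.zpow_left κ).symm).mul_right (h4Q _ hwf _ c.2).symm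
    set cp := σ₄ ((c : K) ^ p) with hcp
    have hfb : σ₄ f * σ₄ (b : K) * (σ₄ f)⁻¹ = σ₄ (b : K) * cp := by
      have h := conj_pow_iter (g := σ₄ y) (b := σ₄ (b : K)) (c := σ₄ (c : K)) (w := σ₄ (w : K)) (r := σ₄ r)
        (by rw [← map_inv, ← map_mul, ← map_mul, ← map_mul, hyb])
        (by rw [← map_inv, ← map_mul, ← map_mul, ← map_mul, hyc]) hyw (h4y r hr3) hcw
        (h4Q r hrQ _ c.2).symm hwr p
      rw [hm2, hm3, pow_mul, pow_mul, hwp, h4Qp r hrQ, one_pow, one_pow, mul_one, mul_one] at h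
      rw [hf, map_pow, hcp, map_pow]
      exact h
    have hcpQ : (c : K) ^ p ∈ S.Q := hQ ▸ pow_mem_pw c.2
    have hcpb : Commute cp (σ₄ (b : K)) := h4Q _ hcpQ _ b.2
    have hcpf : Commute cp (σ₄ f) := h4Q _ hcpQ _ hfE
    have hbf : σ₄ (b : K) * σ₄ f * (σ₄ (b : K))⁻¹ = σ₄ f * cp⁻¹ := by
      have h1 : σ₄ f * σ₄ (b : K) = σ₄ (b : K) * cp * σ₄ f := mul_inv_eq_iff_eq_mul.mp hfb
      rw [mul_inv_eq_iff_eq_mul, mul_assoc, hcpb.inv_left.eq, ← mul_assoc, h1, mul_assoc (σ₄ (b : K)) cp, hcpf.eq,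
        ← mul_assoc, mul_assoc, mul_inv_cancel, mul_one]
    have hbw : σ₄ (b : K) * σ₄ (w : K) * (σ₄ (b : K))⁻¹ = cp ^ (-κ) * σ₄ (w : K) := by
      conv_lhs => rw [hwsplit]
      set q := σ₄ ((f ^ κ)⁻¹ * (w : K))
      have hq : σ₄ (b : K) * q * (σ₄ (b : K))⁻¹ = q := by
        rw [(h4Q _ hwf _ b.2).symm.eq, mul_inv_cancel_right]
      rw [← MulAut.conj_apply, map_mul, map_zpow, MulAut.conj_apply, MulAut.conj_apply, hq, hbf,
        hcpf.inv_left.symm.mul_zpow, inv_zpow', (hcpf.zpow_zpow (-κ) κ).symm.eq, mul_assoc, hwsplit]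
    -- compare both sides of the image of `⁅b, c⁆` under `y`
    set u := σ₄ ⁅(b : K), (c : K)⁆ with hu
    have huQ := hEQ _ b.2 _ c.2
    have hL : σ₄ y * u * (σ₄ y)⁻¹ = u * cp ^ (-κ) := by
      have e1 : y * ⁅(b : K), (c : K)⁆ * y⁻¹ = ⁅(b : K) * c, (c : K) * w⁆ := by
        rw [← hyb, ← hyc, ← MulAut.conj_apply, map_commutatorElement, MulAut.conj_apply, MulAut.conj_apply]
      rw [hu, ← map_inv, ← map_mul, ← map_mul, e1, map_commutatorElement, map_mul, map_mul, map_commutatorElement]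
      set B := σ₄ (b : K)
      set C := σ₄ (c : K)
      set W := σ₄ (w : K)
      have h1 : B * C * (C * W) * (B * C)⁻¹ * (C * W)⁻¹ = B * C * B⁻¹ * (B * W * B⁻¹) * (C * W)⁻¹ := by
        have : C * (C * W) * C⁻¹ = C * W := by rw [((Commute.refl C).mul_right hcw).eq, mul_inv_cancel_right]
        calc B * C * (C * W) * (B * C)⁻¹ * (C * W)⁻¹ = B * (C * (C * W) * C⁻¹) * B⁻¹ * (C * W)⁻¹ := by group
          _ = _ := by rw [this]; group
      rw [commutatorElement_def, h1, hbw]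
      have hcC : Commute (cp ^ (-κ)) C := (h4Q _ hcpQ _ c.2).zpow_left _
      calc B * C * B⁻¹ * (cp ^ (-κ) * W) * (C * W)⁻¹ = B * C * B⁻¹ * (cp ^ (-κ) * C⁻¹) := by group
        _ = B * C * B⁻¹ * (C⁻¹ * cp ^ (-κ)) := by rw [hcC.inv_right.eq]
        _ = _ := by rw [commutatorElement_def]; group
    have hR : σ₄ y * u * (σ₄ y)⁻¹ = u * cp ^ kk := by
      have hs : ⁅(b : K), (c : K)⁆ * (((b : K) ^ p) ^ kk)⁻¹ ∈ P₃ := by
        rw [← QuotientGroup.eq_one_iff]
        show σ _ = 1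
        rw [map_mul, map_inv, map_zpow, hkk]
        exact mul_inv_cancel _
      have hfix := h4y _ (hP₃le hs)
      rw [map_mul, map_inv, map_zpow, ← hu] at hfix
      set bp := σ₄ ((b : K) ^ p)
      have hyb' : σ₄ y * bp * (σ₄ y)⁻¹ = bp * cp := by
        rw [← map_inv, ← map_mul, ← map_mul, ← conj_pow, hyb, h4pow _ b.2 _ c.2]
      have hbc : Commute bp cp := h4Q _ (hQ ▸ pow_mem_pw b.2) _ (E.pow_mem c.2 p)
      calc σ₄ y * u * (σ₄ y)⁻¹ = σ₄ y * (u * (bp ^ kk)⁻¹) * (σ₄ y)⁻¹ * (σ₄ y * bp * (σ₄ y)⁻¹) ^ kk := by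
            rw [conj_zpow]; group
        _ = u * cp ^ kk := by rw [hfix, hyb', hbc.mul_zpow]; group
    have hzero : cp ^ (kk + κ) = 1 := by
      have h := mul_left_cancel (hR.symm.trans hL)
      rw [zpow_add, h, zpow_neg, inv_mul_cancel]
    by_cases hc4 : (c : K) ^ p ∈ P₄
    · -- both scalars vanish
      have hle4 : P₄ ≤ ((PE.map powHom).comap σE).map E.subtype := by
        refine sup_le (pw_le fun z hz => ?_) (Subgroup.map_mono fun x hx => ?_)
        · obtain ⟨ze, hze, rfl⟩ := hPeq.le hz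
          exact ⟨ze ^ p, ⟨ze, hze, hpowHom _⟩, rfl⟩
        · rw [Subgroup.mem_comap, (hσ1 x).mpr hx]; exact one_mem _
      obtain ⟨z, ⟨x, hx, hxz⟩, hz⟩ := hle4 hc4
      have hzc : z = c ^ p := Subtype.ext (by simpa using hz)
      have hJc : c * x⁻¹ ∈ J := by
        rw [hJdef, MonoidHom.mem_ker, map_mul, map_inv, hxz, hzc, ← hpowHom, mul_inv_cancel]
      have hJW : π w ∈ J.map π := by
        have h1 : π (c * x⁻¹) ∈ J.map π := ⟨_, hJc, rfl⟩
        have h2 := (J.map π).mul_mem ((J.map π).inv_mem h1) (hmapinv J hJinv t _ h1)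
        rw [← nu_apply, ← hνdef, map_mul, map_inv, map_mul, map_inv, (hx : ν (π x) = 1), inv_one, mul_one,
          hπc, ← hπw] at h2
        exact h2
      have hkerJ : ν.ker ≤ J.map π := by
        rw [← zpow_gen hker (show π w ∈ ν.ker by rw [hπw]; exact hcube _) (by rw [hπw]; exact hv₀)]
        exact Subgroup.zpowers_le.mpr hJW
      have hxJ : ∀ x ∈ PE, x ∈ J := fun x hx => hJmem x (hkerJ hx)
      have hcJ : c ∈ J := by
        have := J.mul_mem hJc (hxJ x hx)
        rwa [inv_mul_cancel_right] at this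
      have hP₃Q₂ : P₃' ≤ Q₂ := by
        refine sup_le (pw_le fun d hd => ?_) le_rfl
        have hsub : (Subgroup.zpowers (c : K) ⊔ P) ≤ J.map E.subtype := sup_le
          (Subgroup.zpowers_le.mpr ⟨c, hcJ, rfl⟩) (by rw [hPeq]; exact Subgroup.map_mono hxJ)
        obtain ⟨de, hde, rfl⟩ := hsub (hDgen hd)
        exact ⟨de ^ p, (hJiff de).mp hde, rfl⟩
      have hbcQ : ⁅b, c⁆ ∉ N₂ := fun h => by
        have h1 : F₁ b ^ kk = 1 := by
          rw [← hkk]; exact hσone _ (hQ₂P₃ ⟨_, h, rfl⟩)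
        have h2 := zpow_val_eq_one hF₁bp hF₁b h1
        exact hκ0 (by have := dvd_add hdvd h2; rwa [sub_add_cancel] at this)
      -- the radical is a line
      let C₀ : Subgroup E := (Subgroup.center (E ⧸ N₂)).comap σE
      have hC₀ : ∀ x, x ∈ C₀ ↔ ∀ z, ⁅z, x⁆ ∈ N₂ := fun x => by
        rw [Subgroup.mem_comap, Subgroup.mem_center_iff]
        refine ⟨fun h z => (hσ1 _).mp ?_, fun h q => ?_⟩
        · rw [map_commutatorElement]; exact commutatorElement_eq_one_iff_mul_comm.mpr (h (σE z))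
        · obtain ⟨z, rfl⟩ := QuotientGroup.mk'_surjective N₂ q
          refine commutatorElement_eq_one_iff_mul_comm.mp ?_
          rw [← map_commutatorElement]; exact (hσ1 _).mpr (h z)
      have hC₀inv : ∀ a : MulAut E, ∀ x ∈ C₀, a x ∈ C₀ := fun a x hx => (hC₀ _).mpr fun z => by
        obtain ⟨z, rfl⟩ := a.surjective z
        rw [← map_commutatorElement]
        exact hN₂inv a _ ((hC₀ x).mp hx z)
      have hC₀mem : ∀ x, π x ∈ C₀.map π → x ∈ C₀ := fun x h => by
        obtain ⟨z, hz, hzx⟩ := h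
        have : z⁻¹ * x ∈ C₀ := hcenΦ _ (by rw [← hπ1, map_mul, map_inv, hzx, inv_mul_cancel])
        simpa using C₀.mul_mem hz this
      have hfC : fE ∈ C₀ := by
        refine (hC₀ _).mpr fun z => ?_
        have : ⁅(z : K), f⁆ ∈ Q₂ := hP₃Q₂ (by
          rw [← QuotientGroup.eq_one_iff]
          show σ₃ _ = 1
          rw [map_commutatorElement]
          exact commutatorElement_eq_one_iff_mul_comm.mpr (h3cen f hfP z).symm.eq)
        obtain ⟨n, hn, hne'⟩ := this
        exact (Subtype.ext hne' : n = ⁅z, fE⁆) ▸ hn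
      have hcC : c ∉ C₀ := fun h => hbcQ ((hC₀ c).mp h b)
      refine hnoline C₀ hC₀inv ?_
      have hker' : ν.ker ≤ C₀.map π := by rw [← hkerf]; exact Subgroup.zpowers_le.mpr ⟨fE, hfC, rfl⟩
      have hle : C₀.map π ≤ ν.range := by
        by_contra hnle
        have := hall _ (hmapinv C₀ hC₀inv t) hnle
        exact hcC (hC₀mem c (this ▸ Subgroup.mem_top _))
      have heq : C₀.map π = ν.ker := by
        refine (Subgroup.eq_of_le_of_card_ge hker' ?_).symm
        rw [hker]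
        obtain ⟨i, hi⟩ := IsPGroup.iff_card.mp ((hPE.to_quotient (frattini E)).to_subgroup (C₀.map π))
        rw [hi]
        have hlt : Nat.card (C₀.map π) < p ^ 2 := by
          rw [← hreg]
          refine lt_of_le_of_ne (Subgroup.card_le_of_le hle) fun e => hcC (hC₀mem c ?_)
          rw [Subgroup.eq_of_le_of_card_ge hle e.ge, hπc]
          exact ⟨_, rfl⟩
        rw [hi] at hlt
        have := (Nat.pow_lt_pow_iff_right hp'.one_lt).mp hlt
        exact (Nat.pow_le_pow_right hp'.pos (by omega : i ≤ 1)).trans (pow_one p).le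
      rw [heq, hker]
    · have hcp1 : cp ≠ 1 := fun h => hc4 ((QuotientGroup.eq_one_iff _).mp h)
      have h2 := zpow_val_eq_one (h4Qp _ hcpQ) hcp1 hzero
      have h3 : (p : ℤ) ∣ 2 * κ := by
        have := dvd_add hdvd h2
        rwa [show κ - kk + (kk + κ) = 2 * κ by ring] at this
      rcases (Nat.prime_iff_prime_int.mp hp').dvd_or_dvd h3 with h | h
      · have := Int.le_of_dvd (by norm_num) h; omega
      · exact hκ0 h
  -- `E` is distinguished
  let τ := QuotientGroup.mk' S.Q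
  have hτone : ∀ x, x ∈ S.Q → τ x = 1 := fun x hx => (QuotientGroup.eq_one_iff x).mpr hx
  have hmain : ∀ n : K, σ ⁅n, (c : K)⁆ = σ (n ^ p) ^ kk ↔ n ∈ E := by
    intro n
    constructor
    · intro h
      obtain ⟨e, he, j, rfl⟩ := S.decomp hy n
      have hmem : ⁅e * y ^ j, (c : K)⁆ * (((e * y ^ j) ^ p) ^ kk)⁻¹ ∈ S.Q :=
        hP₃'Q (hP₃le ((QuotientGroup.eq_one_iff _).mp (show σ _ = 1 by
          rw [map_mul, map_inv, map_zpow, h, mul_inv_cancel])))
      have hτwf : τ (w : K) = τ f ^ κ := by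
        have := hτone _ hwf
        rw [map_mul, map_inv, inv_mul_eq_one, map_zpow] at this
        exact this.symm
      have hcommE : ∀ x ∈ E, ∀ z ∈ E, Commute (τ x) (τ z) := fun x hx z hz =>
        commutatorElement_eq_one_iff_mul_comm.mp (by rw [← map_commutatorElement]; exact hτone _ (hEQ x hx z hz))
      have hyf : τ y * τ f ^ κ * (τ y)⁻¹ = τ f ^ κ := by
        rw [hf, map_pow, ((Commute.pow_right (Commute.refl (τ y)) p).zpow_right κ).eq, mul_inv_cancel_right]
      have hit := conj_pow_iter (g := τ y) (b := τ (c : K)) (c := τ f ^ κ) (w := 1) (r := 1)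
        (by rw [← map_inv, ← map_mul, ← map_mul, hyc, map_mul, hτwf])
        (by rw [mul_one]; exact hyf) (by simp) (by simp) (Commute.one_right _) (Commute.one_right _)
        (Commute.one_right _) j
      rw [one_pow, one_pow, mul_one, mul_one] at hit
      have hfc : Commute (τ (c : K)) (τ f ^ κ) := (hcommE _ c.2 _ hfE).zpow_right κ
      have hlhs : τ ⁅e * y ^ j, (c : K)⁆ = (τ f ^ κ) ^ j := by
        rw [commutatorElement_def, map_mul, map_mul, map_mul, map_inv, map_inv, map_pow]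
        calc τ e * τ y ^ j * τ (c : K) * (τ e * τ y ^ j)⁻¹ * (τ (c : K))⁻¹
            = τ e * (τ y ^ j * τ (c : K) * (τ y ^ j)⁻¹) * (τ e)⁻¹ * (τ (c : K))⁻¹ := by group
          _ = τ e * (τ (c : K) * (τ f ^ κ) ^ j) * (τ e)⁻¹ * (τ (c : K))⁻¹ := by rw [hit]
          _ = (τ f ^ κ) ^ j := by
            rw [((hcommE _ he _ c.2).mul_right (((hcommE _ he _ hfE).zpow_right κ).pow_right j)).eq,
              mul_inv_cancel_right, (hfc.pow_right j).eq, mul_inv_cancel_right]
      have hrhs : τ ((e * y ^ j) ^ p) = τ f ^ j := by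
        have := hτone _ (hfj ⟨e, he⟩ j)
        rw [map_mul, map_inv, mul_inv_eq_one, map_pow] at this
        simpa using this
      have h0 := hτone _ hmem
      rw [map_mul, map_inv, map_zpow, mul_inv_eq_one, hlhs, hrhs, ← zpow_natCast (τ f ^ κ), ← zpow_natCast (τ f),
        ← zpow_mul, ← zpow_mul] at h0
      have h1 : f ^ (κ * j - j * kk) ∈ S.Q := by
        rw [← QuotientGroup.eq_one_iff]
        show τ _ = 1
        rw [map_zpow, zpow_sub, h0, mul_inv_cancel]
      have h2 := hfdvd _ h1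
      rw [show κ * (j : ℤ) - j * kk = j * (κ - kk) by ring] at h2
      rcases (Nat.prime_iff_prime_int.mp hp').dvd_or_dvd h2 with h3 | h3
      · obtain ⟨i, rfl⟩ := Int.natCast_dvd_natCast.mp h3
        exact E.mul_mem he (by rw [pow_mul]; exact E.pow_mem hfE i)
      · exact absurd h3 hdiff
    · intro hn
      obtain ⟨d, hd, i, rfl⟩ := hEgen n hn
      have e1 : F₂ (⟨d, hd.1⟩ * b ^ i) = F₁ (⟨d, hd.1⟩ * b ^ i) ^ kk := by
        have hd1 : F₁ ⟨d, hd.1⟩ = 1 := hσone _ (Subgroup.mem_sup_right (pow_mem_pw hd))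
        have hd2 : F₂ ⟨d, hd.1⟩ = 1 := by
          show σ ⁅d, (c : K)⁆ = 1
          rw [map_commutatorElement]
          refine commutatorElement_eq_one_iff_mul_comm.mpr ?_
          have hle : Subgroup.zpowers (c : K) ⊔ P ≤ (Subgroup.centralizer ({σ (c : K)} : Set (K ⧸ P₃))).comap σ :=
            sup_le (Subgroup.zpowers_le.mpr (Subgroup.mem_centralizer_singleton_iff.mpr rfl))
              (fun x hx => Subgroup.mem_centralizer_singleton_iff.mpr (hσcen x hx c).eq)
          exact Subgroup.mem_centralizer_singleton_iff.mp (hle (hDgen hd))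
        have hb2 : F₂ b = F₁ b ^ kk := hkk
        rw [map_mul, map_mul, hd1, hd2, one_mul, one_mul, map_zpow, map_zpow, hb2, ← zpow_mul, ← zpow_mul,
          mul_comm]
      have h1 : F₂ (⟨d, hd.1⟩ * b ^ i) = σ ⁅d * (b : K) ^ i, (c : K)⁆ := rfl
      have h2 : F₁ (⟨d, hd.1⟩ * b ^ i) = σ ((d * (b : K) ^ i) ^ p) := rfl
      rw [← h1, ← h2]; exact e1
  refine hfin fun e he => (hmain _).mp ?_
  have hξc : (c : K)⁻¹ * ξ c ∈ P :=
    CfsgLib.FusionFlag.stabilizes_step (p := p) (K := P) hPD (by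
      refine Nat.eq_of_mul_eq_mul_right hp'.pos ?_
      rw [hDc, hPc, ← (frattini E).card_mul_index, S.rank3]; ring) (u := ξ) hξ hξD hξP _ hcD
  have h := (hmain e).mpr he
  have hmem : ⁅e, (c : K)⁆ * ((e ^ p) ^ kk)⁻¹ ∈ P₃ := (QuotientGroup.eq_one_iff _).mp
    (show σ _ = 1 by rw [map_mul, map_inv, map_zpow, h, mul_inv_cancel])
  have h2 := hσone _ (hξP₃ _ hmem)
  rw [map_mul ξ, map_inv ξ, map_zpow ξ, map_pow ξ, map_commutatorElement, map_mul, map_inv, map_zpow,
    mul_inv_eq_one, map_commutatorElement] at h2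
  rw [map_commutatorElement, ← h2]
  set u := (c : K)⁻¹ * ξ c
  have hcu : σ (ξ c) = σ (c : K) * σ u := by rw [← map_mul, mul_inv_cancel_left]
  rw [hcu, commutatorElement_def, commutatorElement_def]
  have h1 : Commute (σ u) (σ (ξ e)) := hσcen u hξc _
  calc σ (ξ e) * σ (c : K) * (σ (ξ e))⁻¹ * (σ (c : K))⁻¹
      = σ (ξ e) * σ (c : K) * (σ u * (σ (ξ e))⁻¹ * (σ u)⁻¹) * (σ (c : K))⁻¹ := by
        rw [h1.inv_right.eq, mul_inv_cancel_right]
    _ = _ := by group

end CfsgLib.FusionRankThree
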