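import Cfsg.Agent.Lib.Fusion.RankThree.TransvectionMain
import Cfsg.Agent.Lib.Fusion.RankThree.Regular
import Cfsg.Agent.Lib.Fusion.Stabilizer
import Cfsg.Agent.Lib.H82.AutFrattini
import Cfsg.Agent.Lib.H82.HallHigmanFrattini

/-!
From an essential subgroup that is not normal in `S` to the abstract setting in `K = N_S(E)`.
-/

set_option autoImplicit false
set_option maxHeartbeats 1600000

namespace CfsgLib.FusionRankThree

open Cfsg Cfsg.FusionSystem CfsgLib.Fusion

universe u

variable {p : ℕ} [hp : Fact p.Prime]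

omit hp in
theorem rank_of_injective {G G' : Type*} [Group G] [Group G'] {f : G →* G'} (hf : Function.Injective f) {k : ℕ}
    (h : SectionalPRankLE p k G') : SectionalPRankLE p k G := fun H N _ =>
  CfsgLib.TwoGroups85.pRankLE_of_section h (H.map f)
    ((QuotientGroup.mk' N).comp (H.equivMapOfInjective f hf).symm.toMonoidHom)
    ((QuotientGroup.mk'_surjective N).comp (H.equivMapOfInjective f hf).symm.surjective)

/-- The action of automorphisms on the Frattini quotient. -/
noncomputable def autQuot (G : Type*) [Group G] : MulAut G →* MulAut (G ⧸ frattini G) where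
  toFun a := QuotientGroup.congr (frattini G) (frattini G) a
    (CfsgLib.HallHigmanFrattini82.frattini_map_equiv a)
  map_one' := MulEquiv.ext fun q => by obtain ⟨x, rfl⟩ := QuotientGroup.mk'_surjective _ q; rfl
  map_mul' a b := MulEquiv.ext fun q => by obtain ⟨x, rfl⟩ := QuotientGroup.mk'_surjective _ q; rfl

theorem autQuot_mk {G : Type*} [Group G] (a : MulAut G) (x : G) :
    autQuot G a (QuotientGroup.mk' (frattini G) x) = QuotientGroup.mk' (frattini G) (a x) := rfl

variable {Ω : Type u} [Group Ω] {S : Subgroup Ω} [Finite S] {F : FusionSystem S}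

/-- An essential subgroup with three generators is normal in `S`. -/
theorem le_normalizer_of_rank_three (h5 : 5 ≤ p) (hS : IsPGroup p S) (hsr : SectionalPRankLE p 3 S)
    (hF : F.IsSaturated p) {E : Subgroup Ω} (hE : F.IsEssential p E)
    (hrk : (frattini ↥E).index = p ^ 3) : S ≤ Subgroup.normalizer (E : Set Ω) := by
  classical
  have hp' : p.Prime := hp.out
  by_contra hcon
  have hES : E ≤ S := hE.2.1.1
  have hEfin : Finite ↥E := finite_of_le hES
  obtain ⟨-, hEr⟩ := fullyNormalized_good hS hF hE.2.1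
  have hrad := radical_of_essential hE hS
  have hC : centralizerIn S E ≤ E := IsCentric.centralizerIn_le' hE.1
  have hEne : E ≠ S := fun h => hcon (h ▸ Subgroup.le_normalizer)
  set N := normalizerIn S E with hNdef
  have hNS : N ≤ S := normalizerIn_le
  have hEN : E < N := lt_normalizerIn hS le_rfl (lt_of_le_of_ne hES hEne)
  have hNne : N ≠ S := fun h => hcon fun s hs => (h.ge hs).2
  have hNfin : Finite ↥N := finite_of_le hNS
  have hNp : IsPGroup p N := hS.to_le hNS
  set EK := E.subgroupOf N with hEK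
  have hEKn : EK.Normal := ⟨fun x hx k => (Subgroup.mem_normalizer_iff.mp k.2.2 x).mp hx⟩
  let eE : EK ≃* E := Subgroup.subgroupOfEquivOfLe hEN.le
  have hPE : IsPGroup p EK := hNp.to_subgroup EK
  have hrk' : (frattini EK).index = p ^ 3 := by
    rw [← hrk, ← CfsgLib.HallHigmanFrattini82.frattini_map_equiv eE,
      Subgroup.index_map_of_bijective eE.bijective]
  let _ := frattiniCommGroup hPE
  set πK := QuotientGroup.mk' (frattini EK) with hπK
  have hV : ∀ v : EK ⧸ frattini EK, v ^ p = 1 := fun v => by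
    obtain ⟨x, rfl⟩ := QuotientGroup.mk'_surjective _ v
    rw [← map_pow]
    exact (QuotientGroup.eq_one_iff _).2 (CfsgLib.PGroup.pow_mem_frattini hPE x)
  have hcV : Nat.card (EK ⧸ frattini EK) = p ^ 3 := by rw [← Subgroup.index_eq_card, hrk']
  -- the group `X`
  obtain ⟨-, ⟨-, hEfull⟩, hInn, H₀, hH⟩ := hE
  have hfinA : Finite (MulAut E) := finite_mulAut hES
  set A := F.autGroup E with hAdef
  set I := (Inn E).subgroupOf A with hIdef
  let PP : MulAut E →* MulAut (EK ⧸ frattini EK) :=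
    (autQuot EK).comp (MulAut.congr eE.symm).toMonoidHom
  have hPP : ∀ (a : MulAut E) (x : EK), PP a (πK x) = πK (eE.symm (a (eE x))) := fun _ _ => rfl
  have hPI : ∀ a ∈ Inn E, PP a = 1 := fun a ha => MulEquiv.ext fun v => by
    obtain ⟨z, hz⟩ := mem_inn.mp ha
    obtain ⟨x, rfl⟩ := QuotientGroup.mk'_surjective (frattini EK) v
    rw [hPP, hz, MulAut.one_apply]
    simp only [map_mul, map_inv, MulEquiv.symm_apply_apply]
    rw [mul_comm (πK (eE.symm z)), mul_inv_cancel_right]
  let ρ : A ⧸ I →* MulAut (EK ⧸ frattini EK) :=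
    QuotientGroup.lift I (PP.comp A.subtype) fun a ha => hPI _ ha
  have hρm : ∀ a : A, ρ (QuotientGroup.mk' I a) = PP (a : MulAut E) := fun _ => rfl
  have hker : PP.ker ⊓ A ≤ Inn E := by
    refine le_inn_of_radical hrad inf_le_right ?_ ?_
    · set T := PP.ker ⊓ A with hT
      set T' := T.map (MulAut.congr eE.symm).toMonoidHom with hT'
      have hcT : Nat.card T' = Nat.card T :=
        Subgroup.card_map_of_injective (MulAut.congr eE.symm).injective
      obtain ⟨n, hn⟩ := IsPGroup.iff_card.mp hPE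
      refine IsPGroup.of_card_dvd_pow (n := 3 * (n - 3)) ?_
      rw [← hcT]
      refine CfsgLib.AutFrattini82.card_aut_trivial_dvd hn hrk' T' ?_
      rintro _ ⟨a, ⟨ha, -⟩, rfl⟩ x
      rw [← QuotientGroup.eq_one_iff]
      show πK ((MulAut.congr eE.symm a) x * x⁻¹) = 1
      rw [map_mul, map_inv, mul_inv_eq_one]
      exact DFunLike.congr_fun (show PP a = 1 from ha) (πK x)
    · rintro a ⟨ha, haA⟩ b hb
      exact ⟨(MonoidHom.normal_ker PP).conj_mem a ha b, A.mul_mem (A.mul_mem hb haA) (A.inv_mem hb)⟩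
  have hρinj : Function.Injective ρ := by
    rw [injective_iff_map_eq_one]
    intro q hq
    obtain ⟨a, rfl⟩ := QuotientGroup.mk'_surjective I q
    rw [hρm] at hq
    exact (QuotientGroup.eq_one_iff a).mpr (hker ⟨hq, a.2⟩)
  -- the conjugations by `N`
  let cN : N →* MulAut E := E.normalizerMonoidHom.comp (Subgroup.inclusion inf_le_right)
  have hcN : ∀ (k : N) (x : E), ((cN k x : E) : Ω) = k * x * (k : Ω)⁻¹ := fun _ _ => rfl
  have hcNS : ∀ k : N, cN k ∈ autInducedBy S E := fun k =>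
    mem_autInducedBy.mpr ⟨k, k.2.1, hcN k⟩
  have hcNA : ∀ k : N, cN k ∈ A := fun k => autInducedBy_le_autGroup hES (hcNS k)
  let φ : N →* A ⧸ I := (QuotientGroup.mk' I).comp (cN.codRestrict A hcNA)
  have hφ1 : ∀ k : N, φ k = 1 ↔ k ∈ EK := fun k => by
    rw [show φ k = QuotientGroup.mk' I ⟨cN k, hcNA k⟩ from rfl]
    exact (QuotientGroup.eq_one_iff _).trans (mem_inn_iff_mem hES hC k.2.1 (hcN k))
  have hφr : IsPGroup p φ.range := by
    have h := (IsPGroup.of_injective hNp (⊤ : Subgroup N).subtype Subtype.val_injective).map φ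
    rwa [← MonoidHom.range_eq_map] at h
  have hidx : EK.index = p := by
    have hk : φ.ker = EK := Subgroup.ext fun k => hφ1 k
    have h1 : EK.index = Nat.card φ.range := by rw [← hk, Subgroup.index_ker]
    obtain ⟨m, hm⟩ := IsPGroup.iff_card.mp hφr
    rcases m with _ | _ | m
    · exfalso
      rw [hm, pow_zero] at h1
      exact hEN.not_ge fun x hx => (Subgroup.mem_subgroupOf (h := ⟨x, hx⟩)).mp
        ((Subgroup.index_eq_one.mp h1).ge (Subgroup.mem_top _))
    · rw [h1, hm, zero_add, pow_one]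
    · exfalso
      obtain ⟨T, hT⟩ := Sylow.exists_subgroup_card_pow_prime p
        (show p ^ 2 ∣ Nat.card φ.range by rw [hm]; exact pow_dvd_pow p (by omega))
      exact not_sq_dvd hV hcV ρ hρinj hH (T.map φ.range.subtype)
        (by rw [Subgroup.card_map_of_injective φ.range.subtype_injective, hT])
  let St : Setup p EK :=
    { five := h5
      isP := hNp
      rank := rank_of_injective (Subgroup.inclusion_injective hNS) hsr
      index := hidx
      rank3 := hrk'
      X := A ⧸ I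
      ρ := ρ
      inj := hρinj
      H₀ := H₀
      emb := hH
      φ := φ
      conj := fun k x => by
        show PP (cN k) (πK x) = _
        rw [hPP]
        exact congrArg πK (Subtype.ext (Subtype.ext rfl))
      lift := fun g => by
        obtain ⟨a, rfl⟩ := QuotientGroup.mk'_surjective I g
        exact ⟨MulAut.congr eE.symm (a : MulAut E), fun x => hPP _ x⟩
      ne := fun k hk h => hk ((hφ1 k).mp h) }
  obtain ⟨y, -, hy⟩ : ∃ y ∈ (⊤ : Subgroup N), y ∉ EK := SetLike.exists_of_lt (lt_top_iff_ne_top.mpr fun h => by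
    rw [h, Subgroup.index_top] at hidx
    exact hp'.ne_one hidx.symm)
  -- a `p`-automorphism of `N` moving `E`
  obtain ⟨x, hxN', hxN⟩ := SetLike.exists_of_lt (lt_normalizerIn hS le_rfl (lt_of_le_of_ne hNS hNne))
  obtain ⟨ξ, hξ, hξe⟩ := exists_autInducedBy (K := S) (P := N) hxN'.1 hxN'.2
  obtain ⟨k₀, hk₀⟩ := isPGroup_autInducedBy hS N ⟨ξ, hξ⟩
  have hξk : ξ ^ p ^ k₀ = 1 := congrArg Subtype.val hk₀
  have hmove : EK.map ξ.toMonoidHom ≠ EK := fun h => hxN ⟨hxN'.1, mem_normalizer_of_forall fun e he => by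
    have h1 := (h.le ⟨⟨e, hEN.le he⟩, he, rfl⟩ : ξ ⟨e, hEN.le he⟩ ∈ EK)
    rw [Subgroup.mem_subgroupOf, hξe] at h1
    exact h1⟩
  -- the rank of `ν`
  obtain ⟨Z, M₀, -, -, hM₀, -, -, h3⟩ := exists_flag hV hcV ρ hφr
  have hRM : (nu ρ (φ y)).range ≤ M₀ := by
    rintro _ ⟨v, rfl⟩
    rw [nu_apply]
    exact h3 _ ⟨y, rfl⟩ v
  obtain ⟨j, hj3, hj⟩ := (Nat.dvd_prime_pow hp').mp (hcV ▸ Subgroup.card_subgroup_dvd_card (nu ρ (φ y)).range)
  have hj2 : j ≤ 2 := by
    have h := Subgroup.card_le_of_le hRM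
    rw [hj, hM₀] at h
    exact (Nat.pow_le_pow_iff_right hp'.one_lt).mp h
  rcases (show j = 0 ∨ j = 1 ∨ j = 2 by omega) with rfl | rfl | rfl
  · refine hy ((hφ1 y).mp (hρinj ?_))
    rw [map_one]
    refine MulEquiv.ext fun v => ?_
    have hm : nu ρ (φ y) v ∈ (⊥ : Subgroup (EK ⧸ frattini EK)) :=
      Subgroup.card_eq_one.mp (hj.trans (pow_zero p)) ▸ MonoidHom.mem_range.mpr ⟨v, rfl⟩
    rw [app_eq ρ (φ y) v, Subgroup.mem_bot.mp hm, mul_one, MulAut.one_apply]
  swap
  · exact false_of_regular St hy hj ξ hξk hmove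
  rw [pow_one] at hj
  refine false_of_transvection St hy hj (F.autGroup N) ?_
    (fun k => inn_le_autGroup hNS (mem_inn.mpr ⟨k, fun _ => rfl⟩)) ?_ ξ
    (autInducedBy_le_autGroup hNS hξ) hξk hmove
  · -- extension of automorphisms
    intro g hg
    obtain ⟨⟨α, hα⟩, rfl⟩ := QuotientGroup.mk'_surjective I g
    have hm := (mem_autGroup hES).mp hα
    have hext : N ≤ extender S E (E.subtype.comp α.toMonoidHom) := by
      intro k hk
      obtain ⟨k', hk'⟩ := hg _ ⟨⟨k, hk⟩, rfl⟩
      have h1 : (cN k')⁻¹ * (α * cN ⟨k, hk⟩ * α⁻¹) ∈ Inn E := by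
        have : QuotientGroup.mk' I (⟨cN k', hcNA k'⟩ : A) =
            QuotientGroup.mk' I (⟨α, hα⟩ * ⟨cN ⟨k, hk⟩, hcNA _⟩ * (⟨α, hα⟩ : A)⁻¹) := by
          rw [map_mul, map_mul, map_inv]; exact hk'
        exact (QuotientGroup.eq (s := I)).mp this
      have h2 := Subgroup.mul_mem _ (hcNS k') (inn_le_autInducedBy hES h1)
      rw [mul_inv_cancel_left] at h2
      obtain ⟨h, hh, hhe⟩ := mem_autInducedBy.mp h2
      refine mem_extender.mpr ⟨hNS hk, hk.2, h, hh, fun z hz => ?_⟩
      rw [autMap_apply, autMap_apply, ← hhe]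
      simp only [MulAut.mul_apply, MulAut.inv_apply_self]
      exact congrArg (fun w : E => ((α w : E) : Ω)) (Subtype.ext rfl)
    obtain ⟨ψ, hψ, hψe⟩ := exists_extension hEr hm (autMap_range α) hEN.le hext
    have hψN : ∀ k : N, ψ k ∈ N := fun k =>
      extension_mem_normalizerIn hm hψ (autMap_range α) hEN.le hψe k k.2.2
    obtain ⟨β, hβ, hβe⟩ := exists_aut hψ (range_eq_of_card_le hψ hNS hψN le_rfl)
    refine ⟨β, hβ, fun z => ?_⟩
    have hz : ((β z : N) : Ω) = ((α (eE z) : E) : Ω) := by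
      rw [hβe]
      exact hψe (eE z)
    refine ⟨show ((β z : N) : Ω) ∈ E by rw [hz]; exact (α (eE z)).2, ?_⟩
    show PP α (πK z) = _
    rw [hPP]
    exact congrArg πK (Subtype.ext (Subtype.ext hz.symm))
  · -- subgroups of automorphisms realised inside `S`
    intro U hU hUp hUi β hβ hβU
    obtain ⟨N', hN'a, hN'r, ⟨φ₁, hφ₁, hφ₁r⟩, -⟩ := exists_good_conj hS hF hNS
    obtain ⟨e₁, he₁⟩ := exists_equiv hφ₁ hφ₁r
    have hN'S : N' ≤ S := hN'a.1
    obtain ⟨γ, hγ, hγU⟩ := FullyAutomized.exists_conj hN'a (A := U.map (MulAut.congr e₁).toMonoidHom)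
      ((Subgroup.map_mono hU).trans (map_autGroup hφ₁ he₁).le) (hUp.map _)
    obtain ⟨γm, hγm, hγr, hγe⟩ := exists_map_of_mem_autGroup hN'S hγ
    obtain ⟨ψ, hψ, hψe⟩ := exists_comp hφ₁ hγm fun z => hφ₁r.le ⟨z, rfl⟩
    let e : N ≃* N' := e₁.trans γ
    have he : ∀ z : N, ((e z : N') : Ω) = ψ z := fun z => by
      rw [hψe, hγe]
      exact congrArg (fun w : N' => ((γ w : N') : Ω)) (Subtype.ext (he₁ z))
    set cψ := MulAut.congr e with hcψ
    have hcψ1 : ∀ (a : MulAut N) (z : N), cψ a (e z) = e (a z) := fun a z => by simp [cψ, MulAut.congr]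
    have hUS : ∀ a ∈ U, cψ a ∈ autInducedBy S N' := fun a ha => by
      have h := hγU _ ⟨a, ha, rfl⟩
      have e1 : γ * (MulAut.congr e₁).toMonoidHom a * γ⁻¹ = cψ a := MulEquiv.ext fun w => rfl
      rwa [e1] at h
    set R := normalizerIn S N' with hRdef
    let cR : R →* MulAut N' := N'.normalizerMonoidHom.comp (Subgroup.inclusion inf_le_right)
    have hcR : ∀ (m : R) (z : N'), ((cR m z : N') : Ω) = m * z * (m : Ω)⁻¹ := fun _ _ => rfl
    set MS : Subgroup Ω := ((U.map cψ.toMonoidHom).comap cR).map R.subtype with hMS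
    have hMR : MS ≤ R := Subgroup.map_subtype_le _
    have hMSS : MS ≤ S := hMR.trans normalizerIn_le
    have hMfin : Finite ↥MS := finite_of_le hMSS
    let cc : MS →* MulAut N := cψ.symm.toMonoidHom.comp (cR.comp (Subgroup.inclusion hMR))
    have hccm : ∀ m : MS, cψ (cc m) = cR (Subgroup.inclusion hMR m) := fun m => cψ.apply_symm_apply _
    have hcrange : cc.range = U := by
      ext a
      constructor
      · rintro ⟨⟨_, m, hm, rfl⟩, rfl⟩
        obtain ⟨b, hb, hbm⟩ := hm
        show cψ.symm (cR m) ∈ U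
        rw [← hbm]
        show cψ.symm (cψ b) ∈ U
        rw [MulEquiv.symm_apply_apply]; exact hb
      · intro ha
        obtain ⟨g, hg, hge⟩ := mem_autInducedBy.mp (hUS a ha)
        have hgR : g ∈ R := ⟨hg, mem_normalizer_of_aut hge⟩
        have h1 : cR ⟨g, hgR⟩ = cψ a := MulEquiv.ext fun z => Subtype.ext (hge z).symm
        refine ⟨⟨g, ⟨g, hgR⟩, ⟨a, ha, h1.symm⟩, rfl⟩, ?_⟩
        show cψ.symm (cR ⟨g, hgR⟩) = a
        rw [h1, MulEquiv.symm_apply_apply]
    have hN'M : N' ≤ MS := fun z hz => by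
      have hzR : z ∈ R := le_normalizerIn hN'S hz
      refine ⟨⟨z, hzR⟩, ⟨MulAut.conj (e.symm ⟨z, hz⟩), hUi _, MulEquiv.ext fun w => ?_⟩, rfl⟩
      obtain ⟨w, rfl⟩ := e.surjective w
      show cψ _ (e w) = _
      rw [hcψ1, MulAut.conj_apply, map_mul, map_mul, map_inv, MulEquiv.apply_symm_apply]
      rfl
    let ι : N →* MS := (Subgroup.inclusion hN'M).comp e.toMonoidHom
    have hιinj : Function.Injective ι := (Subgroup.inclusion_injective hN'M).comp e.injective
    have hιc : ∀ (m : MS) (k : N), m * ι k * m⁻¹ = ι (cc m k) := fun m k => by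
      refine Subtype.ext ?_
      show (m : Ω) * (e k : Ω) * (m : Ω)⁻¹ = ((e (cc m k) : N') : Ω)
      rw [← hcψ1, hccm, hcR]
      rfl
    -- stabilisers of `E`
    set E' := (E.subgroupOf N).map ψ with hE'
    have hEE' : F.IsConj E E' := isConj_map hψ hEN.le
    have hE'S : E' ≤ S := IsConj.le_right hEE'
    have hE'fin : Finite ↥E' := finite_of_le hE'S
    have hstab : ∀ m : MS, (∀ z ∈ EK, cc m z ∈ EK) → m ∈ ι.range := by
      intro m hm
      have hmE' : (m : Ω) ∈ normalizerIn S E' := ⟨hMSS m.2, mem_normalizer_of_forall fun w hw => by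
        obtain ⟨z, hz, rfl⟩ := hw
        refine ⟨cc m z, hm z hz, ?_⟩
        rw [← he, ← he]
        exact (congrArg Subtype.val (hιc m z)).symm⟩
      have hle : N' ≤ normalizerIn S E' := fun w hw => ⟨hN'S hw, mem_normalizer_of_forall fun v hv => by
        obtain ⟨z, hz, rfl⟩ := hv
        refine ⟨e.symm ⟨w, hw⟩ * z * (e.symm ⟨w, hw⟩)⁻¹, hEKn.conj_mem z hz _, ?_⟩
        rw [← he, ← he, map_mul, map_mul, map_inv, MulEquiv.apply_symm_apply]
        rfl⟩
      have hfin' : Finite ↥(normalizerIn S E') := finite_of_le normalizerIn_le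
      have hEfn : Nat.card (normalizerIn S E') ≤ Nat.card N := hEfull E' hEE'
      have heq : N' = normalizerIn S E' := CfsgLib.Fusion.eq_of_le_of_card_le hle
        (hEfn.trans (IsConj.card_eq ⟨φ₁, hφ₁, hφ₁r⟩).ge)
      have hmN : (m : Ω) ∈ N' := heq.ge hmE'
      refine ⟨e.symm ⟨m, hmN⟩, Subtype.ext ?_⟩
      show ((e (e.symm ⟨m, hmN⟩) : N') : Ω) = m
      rw [MulEquiv.apply_symm_apply]
    -- extending `β`
    have hβA : cψ β ∈ F.autGroup N' := autGroup_congr_mem hψ he (α := β) hβ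
    set b := cψ β with hb
    have hbm := (mem_autGroup hN'S).mp hβA
    have hbU : ∀ g : MS, ∃ a ∈ U, b * cR (Subgroup.inclusion hMR g) * b⁻¹ = cψ a := fun g =>
      ⟨β * cc g * β⁻¹, hβU _ (hcrange.le ⟨g, rfl⟩), by rw [map_mul, map_mul, map_inv, hccm]⟩
    have hMext : MS ≤ extender S N' (N'.subtype.comp b.toMonoidHom) := by
      intro g hg
      obtain ⟨a, ha, hga⟩ := hbU ⟨g, hg⟩
      obtain ⟨h, hh, hhe⟩ := mem_autInducedBy.mp (hUS a ha)
      refine mem_extender.mpr ⟨hMSS hg, (hMR hg).2, h, hh, fun z hz => ?_⟩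
      rw [autMap_apply, autMap_apply, ← hhe, ← hga]
      simp only [MulAut.mul_apply, MulAut.inv_apply_self]
      exact congrArg (fun w : N' => ((b w : N') : Ω)) (Subtype.ext rfl)
    obtain ⟨η, hη, hηe⟩ := exists_extension hN'r hbm (autMap_range b) hN'M hMext
    have hηM : ∀ g : MS, η g ∈ MS := fun g => by
      have hηR : η g ∈ R := extension_mem_normalizerIn hbm hη (autMap_range b) hN'M hηe g (hMR g.2).2
      obtain ⟨a, ha, hga⟩ := hbU g
      refine ⟨⟨η g, hηR⟩, ⟨a, ha, ?_⟩, rfl⟩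
      show cψ a = cR ⟨η g, hηR⟩
      rw [← hga]
      refine MulEquiv.ext fun w => Subtype.ext ?_
      obtain ⟨w, rfl⟩ := b.surjective w
      simp only [MulAut.mul_apply, MulAut.inv_apply_self]
      have hw : (g : Ω) * w * (g : Ω)⁻¹ ∈ N' := (Subgroup.mem_normalizer_iff.mp (hMR g.2).2 w).mp w.2
      exact extension_conj hN'M hηe g w hw
    obtain ⟨β', -, hβ'e⟩ := exists_aut hη (range_eq_of_card_le hη hMSS hηM le_rfl)
    refine ⟨↥MS, inferInstance, inferInstance, ι, cc, β', hS.to_le hMSS,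
      rank_of_injective (Subgroup.inclusion_injective hMSS) hsr, hιinj, hιc, hcrange, hstab, fun k => ?_⟩
    refine Subtype.ext ((hβ'e _).trans ((hηe (e k)).trans ?_))
    show ((b (e k) : N') : Ω) = ((e (β k) : N') : Ω)
    rw [hb, hcψ1]

end CfsgLib.FusionRankThree
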