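import Cfsg.Agent.Lib.Fusion.PEmbedded
import Cfsg.Agent.Lib.Fusion.Stabilizer
import Cfsg.Agent.Lib.Fusion.EssentialFlag
import Cfsg.Agent.Lib.Fusion.EssentialFourth
import Cfsg.Agent.Lib.Coprime.Basic

/-!
Groups with a strongly `p`-embedded subgroup acting faithfully on a module of order `p³`.
-/

set_option autoImplicit false

namespace CfsgLib.FusionRankThree

open Cfsg CfsgLib.Fusion

variable {p : ℕ} [hp : Fact p.Prime] {G : Type*} [Group G] {V : Type*} [CommGroup V]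

omit hp in
theorem card_comap {W : Type*} [Group W] (N : Subgroup W) [N.Normal] (Y : Subgroup (W ⧸ N)) :
    Nat.card (Y.comap (QuotientGroup.mk' N)) = Nat.card N * Nat.card Y :=
  (QuotientGroup.card_preimage_mk N (Y : Set (W ⧸ N))).trans rfl

/-- The endomorphism `v ↦ v⁻¹ g(v)`. -/
def nu (ρ : G →* MulAut V) (g : G) : V →* V where
  toFun v := v⁻¹ * ρ g v
  map_one' := by simp
  map_mul' v w := by rw [map_mul, mul_inv]; exact mul_mul_mul_comm _ _ _ _

theorem nu_apply (ρ : G →* MulAut V) (g : G) (v : V) : nu ρ g v = v⁻¹ * ρ g v := rfl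

theorem app_eq (ρ : G →* MulAut V) (g : G) (v : V) : ρ g v = v * nu ρ g v := by
  rw [nu_apply, mul_inv_cancel_left]

theorem mem_ker_nu {ρ : G →* MulAut V} {g : G} {v : V} : v ∈ (nu ρ g).ker ↔ ρ g v = v := by
  rw [MonoidHom.mem_ker, nu_apply, inv_mul_eq_one, eq_comm]

theorem app_pow (ρ : G →* MulAut V) (g : G) {v : V} (h : ρ g (nu ρ g v) = nu ρ g v) (n : ℕ) :
    ρ (g ^ n) v = v * nu ρ g v ^ n := by
  rw [map_pow]; exact CfsgLib.Fusion.coe_pow_apply_of_fixed h n

theorem nu_conj (ρ : G →* MulAut V) (g t : G) (v : V) :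
    nu ρ (g * t * g⁻¹) (ρ g v) = ρ g (nu ρ t v) := by
  rw [nu_apply, nu_apply, map_mul ρ, map_mul ρ, map_inv ρ, MulAut.mul_apply, MulAut.mul_apply,
    MulAut.inv_apply_self, map_mul, map_inv]

variable [Finite V]

/-- A `p`-element fixes pointwise an invariant subgroup of order `p`. -/
theorem fix_line {ρ : G →* MulAut V} {g : G} {k : ℕ} (hg : g ^ p ^ k = 1) {Z : Subgroup V}
    (hZ : Nat.card Z = p) (hinv : ∀ x ∈ Z, ρ g x ∈ Z) : ∀ x ∈ Z, ρ g x = x := by
  intro x hx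
  have h := CfsgLib.FusionFlag.stabilizes_step (p := p) (K := (⊥ : Subgroup V)) bot_le
    (by rw [Subgroup.card_bot, mul_one, hZ]) (u := ρ g) (by rw [← map_pow, hg, map_one]) hinv
    (fun y hy => by rw [Subgroup.mem_bot] at hy ⊢; rw [hy, map_one]) x hx
  exact (inv_mul_eq_one.mp (Subgroup.mem_bot.mp h)).symm

/-- A nontrivial `p`-subgroup fixes a line pointwise inside any nontrivial invariant subgroup. -/
theorem exists_fixed (hV : ∀ v : V, v ^ p = 1) [Finite G] (ρ : G →* MulAut V) {T : Subgroup G}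
    (hT : IsPGroup p T) {I : Subgroup V} (hI : I ≠ ⊥) (hinv : ∀ t ∈ T, ∀ x ∈ I, ρ t x ∈ I) :
    ∃ z ∈ I, z ≠ 1 ∧ ∀ t ∈ T, ρ t z = z := by
  let _ : MulAction T I :=
    { smul := fun t x => ⟨ρ t x, hinv t t.2 x x.2⟩
      one_smul := fun x => Subtype.ext (show ρ ((1 : T) : G) (x : V) = x by simp)
      mul_smul := fun a b x => Subtype.ext (show ρ (((a * b : T) : G)) (x : V) = ρ a (ρ b (x : V)) by simp) }
  have hP : IsPGroup p I := fun x => ⟨1, by rw [pow_one]; exact Subtype.ext (hV x)⟩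
  obtain ⟨n, hn⟩ := IsPGroup.iff_card.mp hP
  have hd : p ∣ Nat.card I := by
    rw [hn]
    exact dvd_pow_self p fun h0 => hI (Subgroup.card_eq_one.mp (by rw [hn, h0, pow_zero]))
  have h1 : (1 : I) ∈ MulAction.fixedPoints T I := fun t =>
    Subtype.ext (show ρ t ((1 : I) : V) = ((1 : I) : V) by simp)
  obtain ⟨z, hz, hz1⟩ := hT.exists_fixed_point_of_prime_dvd_card_of_fixed_point I hd h1
  exact ⟨z, z.2, fun e => hz1 (Subtype.ext e.symm), fun t ht => congrArg Subtype.val (hz ⟨t, ht⟩)⟩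

/-- A `p`-subgroup stabilises a flag. -/
theorem exists_flag (hV : ∀ v : V, v ^ p = 1) (hc : Nat.card V = p ^ 3) [Finite G] (ρ : G →* MulAut V)
    {T : Subgroup G} (hT : IsPGroup p T) :
    ∃ Z M : Subgroup V, Z ≤ M ∧ Nat.card Z = p ∧ Nat.card M = p ^ 2 ∧
      (∀ t ∈ T, ∀ x ∈ Z, ρ t x = x) ∧ (∀ t ∈ T, ∀ x ∈ M, x⁻¹ * ρ t x ∈ Z) ∧
      ∀ t ∈ T, ∀ x, x⁻¹ * ρ t x ∈ M := by
  have hp' : p.Prime := hp.out
  have hne : (⊤ : Subgroup V) ≠ ⊥ := fun h => by
    have := congrArg (fun K : Subgroup V => Nat.card K) h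
    simp only [Subgroup.card_top, Subgroup.card_bot, hc] at this
    exact absurd this (Nat.one_lt_pow (by norm_num) hp'.one_lt).ne'
  obtain ⟨z, -, hz1, hz⟩ := exists_fixed hV ρ hT hne fun _ _ x _ => Subgroup.mem_top _
  set Z := Subgroup.zpowers z with hZdef
  have hZc : Nat.card Z = p := by rw [hZdef, Nat.card_zpowers, orderOf_eq_prime (hV z) hz1]
  have hZfix : ∀ t ∈ T, ∀ x ∈ Z, ρ t x = x := by
    rintro t ht _ ⟨i, rfl⟩
    show ρ t (z ^ i) = z ^ i
    rw [map_zpow, hz t ht]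
  -- the quotient by the line
  let ψ : T →* MulAut (V ⧸ Z) :=
    { toFun := fun t => QuotientGroup.congr Z Z (ρ t) (by
        ext x
        constructor
        · rintro ⟨y, hy, rfl⟩; show ρ t y ∈ Z; rw [hZfix t t.2 y hy]; exact hy
        · intro hx; exact ⟨x, hx, hZfix t t.2 x hx⟩)
      map_one' := MulEquiv.ext fun q => by
        obtain ⟨q, rfl⟩ := QuotientGroup.mk'_surjective Z q
        simp
      map_mul' := fun a b => MulEquiv.ext fun q => by
        obtain ⟨q, rfl⟩ := QuotientGroup.mk'_surjective Z q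
        simp }
  have hψ : ∀ (t : T) (v : V), ψ t (QuotientGroup.mk' Z v) = QuotientGroup.mk' Z (ρ t v) := fun _ _ => rfl
  have hVq : ∀ v : V ⧸ Z, v ^ p = 1 := fun v => by
    obtain ⟨v, rfl⟩ := QuotientGroup.mk'_surjective Z v
    rw [← map_pow, hV, map_one]
  have hqne : (⊤ : Subgroup (V ⧸ Z)) ≠ ⊥ := fun h => by
    have := congrArg (fun K : Subgroup (V ⧸ Z) => Nat.card K) h
    simp only [Subgroup.card_top, Subgroup.card_bot] at this
    have h2 := Z.card_mul_index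
    rw [Subgroup.index_eq_card, this, hZc, hc, mul_one] at h2
    exact absurd (Nat.pow_right_injective hp'.two_le (show p ^ 1 = p ^ 3 by rwa [pow_one])) (by norm_num)
  obtain ⟨q, -, hq1, hq⟩ := exists_fixed hVq ψ (T := (⊤ : Subgroup T))
    (IsPGroup.of_injective hT (⊤ : Subgroup T).subtype Subtype.val_injective) hqne
    fun _ _ x _ => Subgroup.mem_top _
  obtain ⟨v, rfl⟩ := QuotientGroup.mk'_surjective Z q
  set M := (Subgroup.zpowers (QuotientGroup.mk' Z v)).comap (QuotientGroup.mk' Z) with hMdef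
  have hZM : Z ≤ M := fun x hx => by
    show QuotientGroup.mk' Z x ∈ Subgroup.zpowers (QuotientGroup.mk' Z v)
    rw [show QuotientGroup.mk' Z x = 1 from (QuotientGroup.eq_one_iff x).mpr hx]; exact one_mem _
  have hMc : Nat.card M = p ^ 2 := by
    have h := CfsgLib.FusionRankThree.card_comap Z (Subgroup.zpowers (QuotientGroup.mk' Z v))
    rw [hMdef, h, hZc, Nat.card_zpowers, orderOf_eq_prime (hVq _) hq1, pow_two]
  have hMZ : ∀ t ∈ T, ∀ x ∈ M, x⁻¹ * ρ t x ∈ Z := by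
    intro t ht x hx
    obtain ⟨i, hi⟩ := (hx : QuotientGroup.mk' Z x ∈ Subgroup.zpowers (QuotientGroup.mk' Z v))
    rw [← QuotientGroup.eq_one_iff]
    show QuotientGroup.mk' Z (x⁻¹ * ρ t x) = 1
    rw [map_mul, map_inv, ← hψ ⟨t, ht⟩, ← hi]
    show ((QuotientGroup.mk' Z v) ^ i)⁻¹ * ψ ⟨t, ht⟩ ((QuotientGroup.mk' Z v) ^ i) = 1
    rw [map_zpow, hq ⟨t, ht⟩ (Subgroup.mem_top _), inv_mul_cancel]
  refine ⟨Z, M, hZM, hZc, hMc, hZfix, hMZ, fun t ht x => ?_⟩
  obtain ⟨k, hk⟩ := hT ⟨t, ht⟩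
  exact CfsgLib.FusionFlag.stabilizes_step (p := p) (K := M) le_top
    (by rw [Subgroup.card_top, hMc, hc]; ring) (u := ρ t) (k := k)
    (by rw [← map_pow, show t ^ p ^ k = 1 from congrArg Subtype.val hk, map_one])
    (fun _ _ => Subgroup.mem_top _)
    (fun y hy => by
      have := M.mul_mem hy (hZM (hMZ t ht y hy))
      rwa [mul_inv_cancel_left] at this) x (Subgroup.mem_top _)

variable [Finite G]

/-- Two elements stabilising one series lie in the same strongly embedded subgroup. -/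
theorem mem_of_series (hV : ∀ v : V, v ^ p = 1) (ρ : G →* MulAut V) (hρ : Function.Injective ρ)
    {R : Sylow p G} {H : Subgroup G} (hd : EmbeddingData p R H) {t s : G} (ht : t ∈ H) (ht1 : t ≠ 1)
    (L₁ L₂ : Subgroup V) (hL : L₁ ≤ L₂)
    (h : ∀ u ∈ ({t, s} : Set G), (∀ x ∈ L₁, ρ u x = x) ∧ (∀ x ∈ L₂, x⁻¹ * ρ u x ∈ L₁) ∧
      ∀ x, x⁻¹ * ρ u x ∈ L₂) :
    s ∈ H := by
  let W : Subgroup G :=
    { carrier := {u | (∀ x ∈ L₁, ρ u x = x) ∧ (∀ x ∈ L₂, x⁻¹ * ρ u x ∈ L₁) ∧ ∀ x, x⁻¹ * ρ u x ∈ L₂}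
      one_mem' := ⟨by simp, by simp, by simp⟩
      mul_mem' := by
        rintro a b ⟨a1, a2, a3⟩ ⟨b1, b2, b3⟩
        have key : ∀ x, x⁻¹ * ρ (a * b) x = (x⁻¹ * ρ b x) * ((ρ b x)⁻¹ * ρ a (ρ b x)) := fun x => by
          rw [mul_assoc, mul_inv_cancel_left, map_mul, MulAut.mul_apply]
        refine ⟨fun x hx => by rw [map_mul, MulAut.mul_apply, b1 x hx, a1 x hx], fun x hx => ?_, fun x => ?_⟩
        · rw [key]
          refine L₁.mul_mem (b2 x hx) (a2 _ ?_)
          have := L₂.mul_mem hx (hL (b2 x hx))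
          rwa [mul_inv_cancel_left] at this
        · rw [key]; exact L₂.mul_mem (b3 x) (a3 _)
      inv_mem' := by
        rintro a ⟨a1, a2, a3⟩
        have hinv : ∀ y, ρ a (ρ a⁻¹ y) = y := fun y => by
          rw [← MulAut.mul_apply, ← map_mul, mul_inv_cancel, map_one, MulAut.one_apply]
        have key : ∀ x, x⁻¹ * ρ a⁻¹ x = ((ρ a⁻¹ x)⁻¹ * ρ a (ρ a⁻¹ x))⁻¹ := fun x => by
          rw [hinv, mul_inv_rev, inv_inv, mul_comm]
        have h1 : ∀ x ∈ L₁, ρ a⁻¹ x = x := fun x hx => by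
          conv_lhs => rw [← a1 x hx]
          rw [← MulAut.mul_apply, ← map_mul, inv_mul_cancel, map_one, MulAut.one_apply]
        refine ⟨h1, fun x hx => ?_, fun x => by rw [key]; exact L₂.inv_mem (a3 _)⟩
        rw [key]
        refine L₁.inv_mem (a2 _ ?_)
        have h3 : x⁻¹ * ρ a⁻¹ x ∈ L₂ := by rw [key]; exact L₂.inv_mem (a3 _)
        have := L₂.mul_mem hx h3
        rwa [mul_inv_cancel_left] at this }
  have hWp : IsPGroup p W := by
    intro u
    obtain ⟨u1, u2, u3⟩ := u.2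
    let L : ℕ → Subgroup V := fun i => if i = 0 then L₁ else if i = 1 then L₂ else ⊤
    obtain ⟨k, hk⟩ := exists_pow_eq_one_of_stabilizes (X := V) (p := p) (fun v => ⟨1, by rw [pow_one]; exact hV v⟩) L
      (n := 2) (fun i hi => by interval_cases i <;> simp [L, hL]) (by simp [L]) (α := ρ (u : G))
      ⟨0, fun x hx => by rw [pow_zero, pow_one]; exact u1 x hx⟩
      (fun i hi x hx => by
        interval_cases i
        · exact u2 x hx
        · exact u3 x)
    exact ⟨k, Subtype.ext (hρ (by rw [SubmonoidClass.coe_pow, map_pow, hk]; simp))⟩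
  have htW : t ∈ W := h t (Or.inl rfl)
  have hsW : s ∈ W := h s (Or.inr rfl)
  have : Nontrivial W := ⟨⟨t, htW⟩, 1, fun e => ht1 (congrArg Subtype.val e)⟩
  obtain ⟨z, hz, hz1⟩ := (Subgroup.bot_or_exists_ne_one (Subgroup.center W)).resolve_left
    ((Subgroup.nontrivial_iff_ne_bot _).mp hWp.center_nontrivial)
  have hc : ∀ w ∈ W, Commute w (z : G) := fun w hw =>
    congrArg Subtype.val (Subgroup.mem_center_iff.mp hz ⟨w, hw⟩)
  have hpz : ∀ u : G, u ∈ W → IsPGroup p (Subgroup.zpowers u) := fun u hu => hWp.to_le (Subgroup.zpowers_le.mpr hu)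
  have hzH : (z : G) ∈ H := by
    refine hd.mem_of_conj (Subgroup.zpowers_le.mpr ht) (hpz t htW) (by simpa using ht1) fun a ha => ?_
    obtain ⟨i, rfl⟩ := ha
    show (z : G) * t ^ i * (z : G)⁻¹ ∈ H
    rw [((hc t htW).symm.zpow_right i).eq, mul_inv_cancel_right]
    exact H.zpow_mem ht i
  refine hd.mem_of_conj (Subgroup.zpowers_le.mpr hzH) (hpz z z.2)
    (by simpa using hz1) fun a ha => ?_
  obtain ⟨i, rfl⟩ := ha
  show s * (z : G) ^ i * s⁻¹ ∈ H
  rw [((hc s hsW).zpow_right i).eq, mul_inv_cancel_right]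
  exact H.zpow_mem hzH i

/-- A strongly embedded subgroup around a given `p`-subgroup. -/
theorem exists_data {H₀ : Subgroup G} (hH : IsStronglyPEmbedded p H₀) {T : Subgroup G} (hT : IsPGroup p T) :
    ∃ (R : Sylow p G) (H : Subgroup G), EmbeddingData p R H ∧ H ≠ ⊤ ∧ T ≤ H := by
  obtain ⟨R, hR⟩ := exists_embeddingData hH
  obtain ⟨R', hR'⟩ := hT.exists_le_sylow
  obtain ⟨c, hc⟩ := MulAction.exists_smul_eq G R R'
  refine ⟨R', H₀.map (MulAut.conj c).toMonoidHom, hc ▸ hR.map_conj c, fun h => hH.2.1 ?_,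
    hR'.trans (hc ▸ hR.map_conj c).le⟩
  refine top_le_iff.mp fun x _ => ?_
  obtain ⟨y, hy, hye⟩ : MulAut.conj c x ∈ H₀.map (MulAut.conj c).toMonoidHom := h ▸ Subgroup.mem_top _
  exact (MulAut.conj c).injective hye ▸ hy

/-- Some conjugate of a nontrivial `p`-element avoids its strongly embedded subgroup. -/
theorem exists_conj_notMem {R : Sylow p G} {H : Subgroup G} (hd : EmbeddingData p R H) (hne : H ≠ ⊤)
    {t : G} {k : ℕ} (htk : t ^ p ^ k = 1) (ht : t ∈ H) (ht1 : t ≠ 1) : ∃ g : G, g * t * g⁻¹ ∉ H := by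
  by_contra! h
  refine hne (top_le_iff.mp fun g _ => hd.mem_of_conj (Subgroup.zpowers_le.mpr ht) ?_ (by simpa using ht1) ?_)
  · exact IsPGroup.of_card_dvd_pow (n := k) (by rw [Nat.card_zpowers]; exact orderOf_dvd_of_pow_eq_one htk)
  · rintro _ ⟨i, rfl⟩
    show g * t ^ i * g⁻¹ ∈ H
    rw [show g * t ^ i * g⁻¹ = MulAut.conj g (t ^ i) from rfl, map_zpow]
    exact H.zpow_mem (h g) i

theorem range_conj (ρ : G →* MulAut V) (g t : G) :
    (nu ρ (g * t * g⁻¹)).range = (nu ρ t).range.map (ρ g).toMonoidHom := by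
  ext x
  constructor
  · rintro ⟨v, rfl⟩
    obtain ⟨v, rfl⟩ := (ρ g).surjective v
    exact ⟨_, ⟨v, rfl⟩, (nu_conj ρ g t v).symm⟩
  · rintro ⟨_, ⟨v, rfl⟩, rfl⟩
    exact ⟨ρ g v, nu_conj ρ g t v⟩

theorem card_range_conj (ρ : G →* MulAut V) (g t : G) :
    Nat.card (nu ρ (g * t * g⁻¹)).range = Nat.card (nu ρ t).range := by
  rw [range_conj, Subgroup.card_map_of_injective (ρ g).injective]

/-- The range of a transvection is fixed. -/
theorem fix_range (ρ : G →* MulAut V) {t : G} {k : ℕ} (htk : t ^ p ^ k = 1)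
    (hr : Nat.card (nu ρ t).range = p) : ∀ x ∈ (nu ρ t).range, ρ t x = x :=
  fix_line htk hr fun x hx => by rw [app_eq ρ t x]; exact Subgroup.mul_mem _ hx ⟨x, rfl⟩

/-- Two transvections in different strongly embedded subgroups move each other's centres. -/
theorem mem_of_fix (hV : ∀ v : V, v ^ p = 1) (ρ : G →* MulAut V) (hρ : Function.Injective ρ)
    {R : Sylow p G} {H : Subgroup G} (hd : EmbeddingData p R H) {t s : G} (ht : t ∈ H) (ht1 : t ≠ 1)
    {k l : ℕ} (htk : t ^ p ^ k = 1) (hsl : s ^ p ^ l = 1)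
    (hrt : Nat.card (nu ρ t).range = p) (hrs : Nat.card (nu ρ s).range = p)
    (h : (∀ x ∈ (nu ρ s).range, ρ t x = x) ∨ (∀ x ∈ (nu ρ t).range, ρ s x = x)) : s ∈ H := by
  set A := (nu ρ t).range
  set B := (nu ρ s).range
  have htA := fix_range ρ htk hrt
  have hsB := fix_range ρ hsl hrs
  have aux : ∀ (X Y : Subgroup V) (u : G), (∀ x ∈ X, ρ u x = x) → (nu ρ u).range ≤ Y →
      ((∀ x ∈ Y, ρ u x = x) ∨ (nu ρ u).range ≤ X) →
      (∀ x ∈ X, ρ u x = x) ∧ (∀ x ∈ X ⊔ Y, x⁻¹ * ρ u x ∈ X) ∧ ∀ x, x⁻¹ * ρ u x ∈ X ⊔ Y := by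
    intro X Y u hX hY hor
    refine ⟨hX, fun x hx => ?_, fun x => Subgroup.mem_sup_right (hY ⟨x, rfl⟩)⟩
    rcases hor with hor | hor
    · have hle : X ⊔ Y ≤ (nu ρ u).ker := sup_le (fun z hz => mem_ker_nu.mpr (hX z hz))
        (fun z hz => mem_ker_nu.mpr (hor z hz))
      have : nu ρ u x = 1 := hle hx
      rw [← nu_apply, this]; exact X.one_mem
    · exact hor ⟨x, rfl⟩
  rcases h with h | h
  · refine mem_of_series hV ρ hρ hd ht ht1 B (B ⊔ A) le_sup_left ?_
    rintro u (rfl | rfl)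
    · exact aux B A _ h le_rfl (Or.inl htA)
    · refine ⟨hsB, fun x _ => ⟨x, rfl⟩, fun x => Subgroup.mem_sup_left ⟨x, rfl⟩⟩
  · refine mem_of_series hV ρ hρ hd ht ht1 A (A ⊔ B) le_sup_left ?_
    rintro u (rfl | rfl)
    · refine ⟨htA, fun x _ => ⟨x, rfl⟩, fun x => Subgroup.mem_sup_left ⟨x, rfl⟩⟩
    · exact aux A B _ h le_rfl (Or.inl hsB)

omit [Finite G] in
theorem card_ker (ρ : G →* MulAut V) (hc : Nat.card V = p ^ 3) {t : G}
    (hr : Nat.card (nu ρ t).range = p) : Nat.card (nu ρ t).ker = p ^ 2 := by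
  have h := (nu ρ t).ker.card_mul_index
  rw [Subgroup.index_ker, hr, hc] at h
  exact Nat.eq_of_mul_eq_mul_right hp.out.pos (h.trans (by ring))

omit [Finite G] in
theorem zpow_gen {A : Subgroup V} (hA : Nat.card A = p) {a : V} (ha : a ∈ A) (ha1 : a ≠ 1) :
    Subgroup.zpowers a = A := by
  refine Subgroup.eq_of_le_of_card_ge (Subgroup.zpowers_le.mpr ha) ?_
  rcases hp.out.eq_one_or_self_of_dvd _ (hA ▸ Subgroup.card_dvd_of_le (Subgroup.zpowers_le.mpr ha)) with h | h
  · exact absurd (Subgroup.zpowers_eq_bot.mp (Subgroup.card_eq_one.mp h)) ha1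
  · rw [h, hA]

omit [Finite G] in
theorem line_fix (ρ : G →* MulAut V) {u : G} {A : Subgroup V} (hA : Nat.card A = p) {a : V} (ha : a ∈ A)
    (ha1 : a ≠ 1) (h : ρ u a = a) : ∀ x ∈ A, ρ u x = x := fun x hx => by
  obtain ⟨i, rfl⟩ : x ∈ Subgroup.zpowers a := (zpow_gen hA ha ha1).symm ▸ hx
  rw [map_zpow, h]

/-- The order of such a group is not divisible by `p²`. -/
theorem not_sq_dvd (hV : ∀ v : V, v ^ p = 1) (hc : Nat.card V = p ^ 3) (ρ : G →* MulAut V)
    (hρ : Function.Injective ρ) {H₀ : Subgroup G} (hH : IsStronglyPEmbedded p H₀)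
    (T : Subgroup G) (hT : Nat.card T = p ^ 2) : False := by
  have hp' : p.Prime := hp.out
  have hTp : IsPGroup p T := IsPGroup.of_card hT
  have hTc : ∀ x y : T, x * y = y * x := IsPGroup.commutative_of_card_eq_prime_sq hT
  obtain ⟨Z, M, hZM, hZ, hM, h1, h2, h3⟩ := exists_flag hV hc ρ hTp
  -- a transvection in `T`
  obtain ⟨x₀, -, hx₀⟩ : ∃ x ∈ (⊤ : Subgroup V), x ∉ M := SetLike.exists_of_lt (lt_top_iff_ne_top.mpr fun e => by
    rw [e, Subgroup.card_top, hc] at hM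
    exact absurd (Nat.pow_right_injective hp'.two_le hM) (by norm_num))
  let φ : T →* M.map (QuotientGroup.mk' Z) :=
    { toFun := fun t => ⟨QuotientGroup.mk' Z (x₀⁻¹ * ρ t x₀), _, h3 t t.2 x₀, rfl⟩
      map_one' := Subtype.ext (show QuotientGroup.mk' Z (x₀⁻¹ * ρ ((1 : T) : G) x₀) = 1 by simp)
      map_mul' := fun a b => Subtype.ext (by
        show QuotientGroup.mk' Z (x₀⁻¹ * ρ ((a : G) * b) x₀) =
          QuotientGroup.mk' Z (x₀⁻¹ * ρ a x₀) * QuotientGroup.mk' Z (x₀⁻¹ * ρ b x₀)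
        have hm := h3 b b.2 x₀
        have hz := h2 a a.2 _ hm
        rw [← map_mul, QuotientGroup.mk'_apply, QuotientGroup.mk'_apply, QuotientGroup.eq]
        have e : (x₀⁻¹ * ρ ((a : G) * b) x₀)⁻¹ * (x₀⁻¹ * ρ a x₀ * (x₀⁻¹ * ρ b x₀)) =
            ((x₀⁻¹ * ρ b x₀)⁻¹ * ρ a (x₀⁻¹ * ρ b x₀))⁻¹ := by
          rw [map_mul ρ, MulAut.mul_apply, map_mul (ρ (a : G)), map_inv]
          apply Additive.ofMul.injective
          simp only [ofMul_mul, ofMul_inv]
          abel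
        rw [e]
        exact Z.inv_mem hz) }
  obtain ⟨t, htk, ht1⟩ : ∃ t ∈ φ.ker, t ≠ 1 := by
    refine (Subgroup.bot_or_exists_ne_one _).resolve_left fun e => ?_
    have h := CfsgLib.Coprime.card_map_mul_inf_ker (QuotientGroup.mk' Z) M
    rw [QuotientGroup.ker_mk', inf_eq_left.mpr hZM, hZ, hM, pow_two] at h
    have h' := Nat.eq_of_mul_eq_mul_right hp'.pos h
    have := Nat.card_le_card_of_injective φ ((MonoidHom.ker_eq_bot_iff _).mp e)
    rw [hT, h', pow_two] at this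
    exact absurd this (not_le.mpr (lt_mul_of_one_lt_left hp'.pos hp'.one_lt))
  have hrle : (nu ρ (t : G)).range ≤ Z := by
    have hk : (⊤ : Subgroup V) ≤ Z.comap (nu ρ (t : G)) := by
      have hx : x₀ ∈ Z.comap (nu ρ (t : G)) := by
        have h : QuotientGroup.mk' Z (x₀⁻¹ * ρ (t : G) x₀) = 1 :=
          congrArg Subtype.val (MonoidHom.mem_ker.mp htk)
        exact (QuotientGroup.eq_one_iff (N := Z) (x₀⁻¹ * ρ (t : G) x₀)).mp h
      have hle : M ≤ Z.comap (nu ρ (t : G)) := fun x hx => h2 t t.2 x hx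
      refine (Subgroup.eq_top_of_le_card _ ?_).ge
      have hlt : M < Z.comap (nu ρ (t : G)) := lt_of_le_of_ne hle fun e => hx₀ (e.symm ▸ hx)
      have := CfsgLib.FusionFourth.card_lt_mul (p := p) (K := V) hc hlt
      rwa [hM, ← pow_succ, ← hc] at this
    rintro _ ⟨x, rfl⟩; exact hk (Subgroup.mem_top x)
  have hρ1 : ρ (t : G) ≠ 1 := fun e => ht1 (Subtype.ext (hρ (e.trans (map_one ρ).symm)))
  have hrt : Nat.card (nu ρ (t : G)).range = p := by
    rcases hp'.eq_one_or_self_of_dvd _ (hZ ▸ Subgroup.card_dvd_of_le hrle) with h | h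
    · refine absurd (MulEquiv.ext fun v => ?_) hρ1
      have : nu ρ (t : G) v = 1 := Subgroup.mem_bot.mp (Subgroup.card_eq_one.mp h ▸ ⟨v, rfl⟩)
      rw [app_eq ρ (t : G) v, this, mul_one]; rfl
    · exact h
  have hrZ : (nu ρ (t : G)).range = Z := Subgroup.eq_of_le_of_card_ge hrle (by rw [hrt, hZ])
  obtain ⟨R, H, hd, hne, hTH⟩ := exists_data hH hTp
  obtain ⟨k, hk⟩ := hTp t
  have htk' : (t : G) ^ p ^ k = 1 := congrArg Subtype.val hk
  have htne : (t : G) ≠ 1 := fun e => ht1 (Subtype.ext e)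
  obtain ⟨g, hg⟩ := exists_conj_notMem hd hne htk' (hTH t.2) htne
  set s := g * (t : G) * g⁻¹ with hs
  have hsk : s ^ p ^ k = 1 := by rw [hs, conj_pow, htk', mul_one, mul_inv_cancel]
  have hrs : Nat.card (nu ρ s).range = p := by rw [hs, card_range_conj, hrt]
  have hd' := hd.map_conj g
  set H' := H.map (MulAut.conj g).toMonoidHom
  have hsH' : s ∈ H' := ⟨t, hTH t.2, rfl⟩
  have hs1 : s ≠ 1 := fun e => hg (e ▸ H.one_mem)
  obtain ⟨b, hb, hb1⟩ : ∃ b ∈ (nu ρ s).range, b ≠ 1 := by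
    refine (Subgroup.bot_or_exists_ne_one _).resolve_left fun e => ?_
    rw [e, Subgroup.card_bot] at hrs; exact hp'.ne_one hrs.symm
  -- conjugates of `s` under `T` are far apart
  have hfar : ∀ x : T, x ≠ 1 → ρ s (ρ (x : G) b) ≠ ρ (x : G) b := by
    intro x hx1 hfix
    obtain ⟨l, hl⟩ := hTp x
    have hxs : (x : G) * s * (x : G)⁻¹ ∈ H' := by
      refine mem_of_fix hV ρ hρ hd' hsH' hs1 (l := k) hsk (by rw [conj_pow, hsk, mul_one, mul_inv_cancel]) hrs
        (by rw [card_range_conj, hrs]) (Or.inl ?_)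
      refine line_fix ρ (by rw [card_range_conj, hrs]) ?_ (fun e => hb1 ?_) hfix
      · rw [range_conj]; exact ⟨b, hb, rfl⟩
      · exact (ρ (x : G)).injective (e.trans (map_one _).symm)
    have hxH' : (x : G) ∈ H' := by
      refine hd'.mem_of_conj (Subgroup.zpowers_le.mpr hsH') ?_ (by simpa using hs1) ?_
      · exact IsPGroup.of_card_dvd_pow (n := k) (by rw [Nat.card_zpowers]; exact orderOf_dvd_of_pow_eq_one hsk)
      · rintro _ ⟨i, rfl⟩
        show (x : G) * s ^ i * (x : G)⁻¹ ∈ H'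
        rw [show (x : G) * s ^ i * (x : G)⁻¹ = MulAut.conj (x : G) (s ^ i) from rfl, map_zpow]
        exact H'.zpow_mem hxs i
    obtain ⟨y, hy, hyx⟩ := hxH'
    refine hg ?_
    have hy' : g * y * g⁻¹ = x := hyx
    have hgH : g ∈ H := by
      refine hd.mem_of_conj (A := Subgroup.zpowers y) (Subgroup.zpowers_le.mpr hy) ?_ ?_ ?_
      · refine IsPGroup.of_card_dvd_pow (n := l) ?_
        rw [Nat.card_zpowers, ← MulEquiv.orderOf_eq (MulAut.conj g) y]
        exact orderOf_dvd_of_pow_eq_one (by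
          rw [show MulAut.conj g y = x from hy']; exact congrArg Subtype.val hl)
      · intro e
        rw [Subgroup.zpowers_eq_bot] at e
        rw [e, mul_one, mul_inv_cancel] at hy'
        exact hx1 (Subtype.ext hy'.symm)
      · rintro _ ⟨i, rfl⟩
        show g * y ^ i * g⁻¹ ∈ H
        rw [show g * y ^ i * g⁻¹ = MulAut.conj g (y ^ i) from rfl, map_zpow, show MulAut.conj g y = x from hy']
        exact H.zpow_mem (hTH x.2) i
    exact H.mul_mem (H.mul_mem hgH (hTH t.2)) (H.inv_mem hgH)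
  -- counting
  let f : T → (nu ρ (t : G)).ker := fun x => ⟨b⁻¹ * ρ (x : G) b, by
    rw [MonoidHom.mem_ker, map_mul, map_inv]
    have hx : ρ (t : G) (ρ (x : G) b) = ρ (x : G) (ρ (t : G) b) := by
      rw [← MulAut.mul_apply, ← map_mul, ← MulAut.mul_apply, ← map_mul]
      exact congrArg (fun w : G => ρ w b) (congrArg Subtype.val (hTc t x))
    have hfx : ρ (x : G) (nu ρ (t : G) b) = nu ρ (t : G) b := h1 x x.2 _ (hrle ⟨b, rfl⟩)
    have : nu ρ (t : G) (ρ (x : G) b) = nu ρ (t : G) b := by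
      rw [← hfx, nu_apply, nu_apply, map_mul, map_inv, hx]
    rw [this, inv_mul_cancel]⟩
  have hinj : Function.Injective f := by
    intro x y hxy
    by_contra hne'
    have hxy' : ρ (x : G) b = ρ (y : G) b := mul_left_cancel (congrArg Subtype.val hxy)
    refine hfar (y⁻¹ * x) (fun e => hne' (inv_mul_eq_one.mp e).symm) ?_
    have : ρ ((y⁻¹ * x : T) : G) b = b := by
      rw [Subgroup.coe_mul, Subgroup.coe_inv, map_mul, MulAut.mul_apply, hxy', ← MulAut.mul_apply, ← map_mul,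
        inv_mul_cancel, map_one, MulAut.one_apply]
    rw [this]
    exact fix_range ρ hsk hrs b hb
  have hbij := (Nat.bijective_iff_injective_and_card f).mpr ⟨hinj, by rw [hT, card_ker ρ hc hrt]⟩
  obtain ⟨m, hm, hm1⟩ : ∃ m ∈ (nu ρ s).ker ⊓ (nu ρ (t : G)).ker, m ≠ 1 := by
    refine (Subgroup.bot_or_exists_ne_one _).resolve_left fun e => ?_
    have h := CfsgLib.Coprime.card_map_mul_inf_ker (QuotientGroup.mk' (nu ρ s).ker) (nu ρ (t : G)).ker
    rw [QuotientGroup.ker_mk', e, Subgroup.card_bot, mul_one, card_ker ρ hc hrt] at h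
    have h2 := Subgroup.card_le_card_group ((nu ρ (t : G)).ker.map (QuotientGroup.mk' (nu ρ s).ker))
    rw [h, ← Subgroup.index_eq_card, Subgroup.index_ker, hrs] at h2
    exact absurd ((Nat.pow_le_pow_iff_right hp'.one_lt).mp (h2.trans (pow_one p).ge)) (by norm_num)
  obtain ⟨x, hx⟩ := hbij.2 ⟨m, hm.2⟩
  have hxb : ρ (x : G) b = b * m := by
    have hx' : b⁻¹ * ρ (x : G) b = m := congrArg Subtype.val hx
    rw [← hx', mul_inv_cancel_left]
  refine hfar x (fun e => hm1 ?_) ?_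
  · rw [e] at hxb
    simpa using hxb
  · rw [hxb, map_mul, fix_range ρ hsk hrs b hb, mem_ker_nu.mp hm.1]

/-- A transvection generates, with a conjugate, a group containing a torus. -/
theorem transvection_torus (hV : ∀ v : V, v ^ p = 1) (hc : Nat.card V = p ^ 3) (ρ : G →* MulAut V)
    (hρ : Function.Injective ρ) {H₀ : Subgroup G} (hH : IsStronglyPEmbedded p H₀) {t : G} {k : ℕ}
    (htk : t ^ p ^ k = 1) (hrt : Nat.card (nu ρ t).range = p) :
    ∃ a b c : V, Subgroup.closure {a, b, c} = ⊤ ∧ ρ t a = a ∧ ρ t b = b * a ∧ ρ t c = c ∧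
      (∃ s : G, ρ s a = a * b ∧ ρ s b = b ∧ ρ s c = c) ∧
      ∀ i j : ℤ, (p : ℤ) ∣ i * j - 1 → ∃ h : G, ρ h a = a ^ i ∧ ρ h b = b ^ j ∧ ρ h c = c := by
  have hp' : p.Prime := hp.out
  have ht1 : t ≠ 1 := fun e => by
    have hbot : (nu ρ t).range = ⊥ := eq_bot_iff.mpr (by
      rintro _ ⟨v, rfl⟩
      rw [Subgroup.mem_bot, nu_apply, e, map_one, MulAut.one_apply, inv_mul_cancel])
    rw [hbot, Subgroup.card_bot] at hrt
    exact hp'.ne_one hrt.symm
  obtain ⟨R, H, hd, hne, hTH⟩ := exists_data hH (T := Subgroup.zpowers t)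
    (IsPGroup.of_card_dvd_pow (n := k) (by rw [Nat.card_zpowers]; exact orderOf_dvd_of_pow_eq_one htk))
  have htH : t ∈ H := hTH (Subgroup.mem_zpowers t)
  obtain ⟨g, hg⟩ := exists_conj_notMem hd hne htk htH ht1
  set s₀ := g * t * g⁻¹ with hs₀
  have hsk : s₀ ^ p ^ k = 1 := by rw [hs₀, conj_pow, htk, mul_one, mul_inv_cancel]
  have hrs : Nat.card (nu ρ s₀).range = p := by rw [hs₀, card_range_conj, hrt]
  set A := (nu ρ t).range
  set B := (nu ρ s₀).range
  have htA := fix_range ρ htk hrt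
  have hsB := fix_range ρ hsk hrs
  obtain ⟨b, hb, hbfix⟩ : ∃ b ∈ B, ρ t b ≠ b := by
    by_contra! h; exact hg (mem_of_fix hV ρ hρ hd htH ht1 htk hsk hrt hrs (Or.inl h))
  set a := nu ρ t b with ha
  have ha1 : a ≠ 1 := fun e => hbfix (mem_ker_nu.mp e)
  have haA : a ∈ A := ⟨b, rfl⟩
  have hsa : ρ s₀ a ≠ a := fun h =>
    hg (mem_of_fix hV ρ hρ hd htH ht1 htk hsk hrt hrs (Or.inr (line_fix ρ hrt haA ha1 h)))
  have hd1 : nu ρ s₀ a ≠ 1 := fun e => hsa (mem_ker_nu.mp e)
  obtain ⟨i₀, hi₀⟩ : b ∈ Subgroup.zpowers (nu ρ s₀ a) := by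
    rw [zpow_gen hrs ⟨a, rfl⟩ hd1]; exact hb
  obtain ⟨n, hn⟩ : ∃ n : ℕ, nu ρ s₀ a ^ n = b := by
    refine ⟨(i₀ % p).toNat, ?_⟩
    rw [← hi₀, ← zpow_natCast, Int.toNat_of_nonneg (Int.emod_nonneg _ (by exact_mod_cast hp'.ne_zero))]
    exact (zpow_eq_zpow_emod' i₀ (hV _)).symm
  obtain ⟨c, hc', hc1⟩ : ∃ c ∈ (nu ρ t).ker ⊓ (nu ρ s₀).ker, c ≠ 1 := by
    refine (Subgroup.bot_or_exists_ne_one _).resolve_left fun e => ?_
    have h := CfsgLib.Coprime.card_map_mul_inf_ker (QuotientGroup.mk' (nu ρ t).ker) (nu ρ s₀).ker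
    rw [QuotientGroup.ker_mk', e, Subgroup.card_bot, mul_one, card_ker ρ hc hrs] at h
    have h2 := Subgroup.card_le_card_group ((nu ρ s₀).ker.map (QuotientGroup.mk' (nu ρ t).ker))
    rw [h, ← Subgroup.index_eq_card, Subgroup.index_ker, hrt] at h2
    exact absurd ((Nat.pow_le_pow_iff_right hp'.one_lt).mp (h2.trans (pow_one p).ge)) (by norm_num)
  have htc : ρ t c = c := mem_ker_nu.mp hc'.1
  have hsc : ρ s₀ c = c := mem_ker_nu.mp hc'.2
  have hta : ρ t a = a := htA a haA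
  have hs_a : ρ (s₀ ^ n) a = a * b := by
    rw [app_pow ρ s₀ (hsB _ ⟨a, rfl⟩), hn]
  have hfixpow : ∀ (u : G) (v : V), ρ u v = v → ∀ m : ℕ, ρ (u ^ m) v = v := fun u v h m => by
    induction m with
    | zero => simp
    | succ m ih => rw [pow_succ, map_mul, MulAut.mul_apply, h, ih]
  refine ⟨a, b, c, ?_, hta, by rw [ha, ← app_eq], htc, ⟨s₀ ^ n, hs_a, hfixpow _ _ (hsB b hb) n,
    hfixpow _ _ hsc n⟩, ?_⟩
  · -- generation
    set U := Subgroup.closure ({a, b, c} : Set V)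
    have haU : a ∈ U := Subgroup.subset_closure (by simp)
    have hbU : b ∈ U := Subgroup.subset_closure (by simp)
    have hcU : c ∈ U := Subgroup.subset_closure (by simp)
    set K₁ := Subgroup.zpowers c
    set K₂ := K₁ ⊔ Subgroup.zpowers a
    have hac : a ∉ K₁ := fun h => by
      obtain ⟨m, hm⟩ := h
      exact hsa (by rw [← hm]; show ρ s₀ (c ^ m) = c ^ m; rw [map_zpow, hsc])
    have hbK : b ∉ K₂ := fun h => hbfix (by
      have hle : K₂ ≤ (nu ρ t).ker := sup_le (Subgroup.zpowers_le.mpr hc'.1)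
        (Subgroup.zpowers_le.mpr (mem_ker_nu.mpr hta))
      exact mem_ker_nu.mp (hle h))
    have l1 : K₁ < K₂ := lt_of_le_of_ne le_sup_left fun e =>
      hac (e.symm ▸ Subgroup.mem_sup_right (Subgroup.mem_zpowers a))
    have l2 : K₂ < U := lt_of_le_of_ne (sup_le (Subgroup.zpowers_le.mpr hcU) (Subgroup.zpowers_le.mpr haU))
      fun e => hbK (e.symm ▸ hbU)
    have s1 := CfsgLib.FusionFourth.card_lt_mul (p := p) (K := V) hc l1
    have s2 := CfsgLib.FusionFourth.card_lt_mul (p := p) (K := V) hc l2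
    rw [show Nat.card K₁ = p by rw [Nat.card_zpowers, orderOf_eq_prime (hV c) hc1]] at s1
    refine Subgroup.eq_top_of_le_card _ ?_
    rw [hc]
    calc p ^ 3 = p * p * p := by ring
      _ ≤ Nat.card K₂ * p := Nat.mul_le_mul_right _ s1
      _ ≤ _ := s2
  · intro i j hij
    -- elementary matrices
    have hel : ∀ m : ℤ, (∃ u : G, ρ u a = a ∧ ρ u b = b * a ^ m ∧ ρ u c = c) ∧
        (∃ u : G, ρ u a = a * b ^ m ∧ ρ u b = b ∧ ρ u c = c) := by
      intro m
      obtain ⟨e, he⟩ : ∃ e : ℕ, ∀ v : V, v ^ e = v ^ m := by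
        refine ⟨(m % p).toNat, fun v => ?_⟩
        rw [← zpow_natCast, Int.toNat_of_nonneg (Int.emod_nonneg _ (by exact_mod_cast hp'.ne_zero))]
        exact (zpow_eq_zpow_emod' m (hV _)).symm
      refine ⟨⟨t ^ e, hfixpow _ _ hta e, ?_, hfixpow _ _ htc e⟩, ⟨(s₀ ^ n) ^ e, ?_,
        hfixpow _ _ (hfixpow _ _ (hsB b hb) n) e, hfixpow _ _ (hfixpow _ _ hsc n) e⟩⟩
      · rw [app_pow ρ t (htA _ ⟨b, rfl⟩), he]
      · have hnu : nu ρ (s₀ ^ n) a = b := by rw [nu_apply, hs_a, inv_mul_cancel_left]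
        rw [app_pow ρ (s₀ ^ n) (by rw [hnu]; exact hfixpow _ _ (hsB b hb) n), hnu, he]
    have hw : ∀ l l' : ℤ, (p : ℤ) ∣ l * l' - 1 → ∃ w : G, ρ w a = b ^ (-l') ∧ ρ w b = a ^ l ∧ ρ w c = c := by
      intro l l' hl
      obtain ⟨u, u1, u2, u3⟩ := (hel l).1
      obtain ⟨v, v1, v2, v3⟩ := (hel (-l')).2
      have hpow : ∀ (x : V) (e e' : ℤ), (p : ℤ) ∣ e - e' → x ^ e = x ^ e' := fun x e e' h => by
        obtain ⟨q, hq⟩ := h
        rw [show e = e' + (p : ℤ) * q by linarith, zpow_add, zpow_mul, zpow_natCast, hV, one_zpow, mul_one]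
      refine ⟨u * v * u, ?_, ?_, ?_⟩ <;> simp only [map_mul, MulAut.mul_apply]
      · rw [u1, v1, map_mul, map_zpow, u1, u2, mul_zpow, ← zpow_mul, mul_left_comm, mul_comm a,
          ← zpow_add_one]
        rw [hpow a (l * -l' + 1) 0 (by rw [sub_zero, show l * -l' + 1 = -(l * l' - 1) by ring]; exact hl.neg_right),
          zpow_zero, mul_one]
      · rw [u2, map_mul, map_zpow, v1, v2, map_mul, map_zpow, map_mul, map_zpow, u1, u2]
        rw [mul_zpow, ← zpow_mul, mul_zpow, ← zpow_mul]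
        rw [hpow b (-l' * l) (-1) (by rw [show -l' * l - -1 = -(l * l' - 1) by ring]; exact hl.neg_right),
          hpow a (l * (-l' * l)) (-l) (by
            rw [show l * (-l' * l) - -l = -(l * (l * l' - 1)) by ring]
            exact (dvd_mul_of_dvd_right hl l).neg_right)]
        rw [zpow_neg, zpow_neg, zpow_one]
        simp [mul_comm, mul_left_comm]
      · rw [u3, v3, u3]
    obtain ⟨w₁, a1, b1, c1⟩ := hw i j hij
    obtain ⟨w₂, a2, b2, c2⟩ := hw (-1) (-1) (by norm_num)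
    refine ⟨w₁ * w₂, ?_, ?_, ?_⟩ <;> simp only [map_mul, MulAut.mul_apply]
    · rw [a2, map_zpow, b1, neg_neg, zpow_one]
    · rw [b2, map_zpow, a1, zpow_neg, zpow_neg, zpow_one, inv_inv]
    · rw [c2, c1]

/-- A group containing a regular unipotent element fixes no line. -/
theorem no_invariant_line (hV : ∀ v : V, v ^ p = 1) (hc : Nat.card V = p ^ 3) (h2 : p ≠ 2) (ρ : G →* MulAut V)
    (hρ : Function.Injective ρ) {H₀ : Subgroup G} (hH : IsStronglyPEmbedded p H₀) {t : G} {k : ℕ}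
    (htk : t ^ p ^ k = 1) (hrt : Nat.card (nu ρ t).range = p ^ 2) (F : Subgroup V) (hF : Nat.card F = p)
    (hinv : ∀ g, ∀ x ∈ F, ρ g x ∈ F) : False := by
  have hp' : p.Prime := hp.out
  have htp : IsPGroup p (Subgroup.zpowers t) :=
    IsPGroup.of_card_dvd_pow (n := k) (by rw [Nat.card_zpowers]; exact orderOf_dvd_of_pow_eq_one htk)
  have ht1 : t ≠ 1 := fun e => by
    have hbot : (nu ρ t).range = ⊥ := eq_bot_iff.mpr (by
      rintro _ ⟨v, rfl⟩
      rw [Subgroup.mem_bot, nu_apply, e, map_one, MulAut.one_apply, inv_mul_cancel])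
    rw [hbot, Subgroup.card_bot] at hrt
    exact absurd hrt (Nat.one_lt_pow (by norm_num) hp'.one_lt).ne
  obtain ⟨R, H, hd, hne, hTH⟩ := exists_data hH htp
  have htH : t ∈ H := hTH (Subgroup.mem_zpowers t)
  obtain ⟨Z, M, hZM, hZ, hM, f1, f2, f3⟩ := exists_flag hV hc ρ htp
  have hrange : (nu ρ t).range = M :=
    Subgroup.eq_of_le_of_card_ge (by rintro _ ⟨v, rfl⟩; exact f3 t (Subgroup.mem_zpowers t) v)
      (by rw [hrt, hM])
  have hker : (nu ρ t).ker = F := by
    have hFk : F ≤ (nu ρ t).ker := fun x hx => mem_ker_nu.mpr (fix_line htk hF (hinv t) x hx)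
    refine (Subgroup.eq_of_le_of_card_ge hFk ?_).symm
    have h := (nu ρ t).ker.card_mul_index
    rw [Subgroup.index_ker, hrt, hc] at h
    rw [hF]
    exact (Nat.eq_of_mul_eq_mul_right (pow_pos hp'.pos 2) (h.trans (by ring))).le
  have hZF : Z = F := by
    refine Subgroup.eq_of_le_of_card_ge ?_ (by rw [hZ, hF])
    rw [← hker]; exact fun x hx => mem_ker_nu.mpr (f1 t (Subgroup.mem_zpowers t) x hx)
  rw [hZF] at hZM f2
  -- no nontrivial element stabilises the series through `F`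
  have hkill : ∀ u : G, (∀ x ∈ F, ρ u x = x) → (∀ x, x⁻¹ * ρ u x ∈ F) → u = 1 := by
    intro u u1 u2
    by_contra hu
    let W : Subgroup G :=
      { carrier := {u | (∀ x ∈ F, ρ u x = x) ∧ ∀ x, x⁻¹ * ρ u x ∈ F}
        one_mem' := ⟨by simp, by simp⟩
        mul_mem' := by
          rintro a b ⟨a1, a2⟩ ⟨b1, b2⟩
          refine ⟨fun x hx => by rw [map_mul, MulAut.mul_apply, b1 x hx, a1 x hx], fun x => ?_⟩
          have := F.mul_mem (b2 x) (a2 (ρ b x))
          rwa [mul_assoc, mul_inv_cancel_left, ← MulAut.mul_apply, ← map_mul] at this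
        inv_mem' := by
          rintro a ⟨a1, a2⟩
          refine ⟨fun x hx => ?_, fun x => ?_⟩
          · conv_lhs => rw [← a1 x hx]
            rw [← MulAut.mul_apply, ← map_mul, inv_mul_cancel, map_one, MulAut.one_apply]
          · have := F.inv_mem (a2 (ρ a⁻¹ x))
            rwa [← MulAut.mul_apply, ← map_mul, mul_inv_cancel, map_one, MulAut.one_apply, mul_inv_rev,
              inv_inv] at this }
    have hWn : W.Normal := ⟨fun a ha g => ⟨fun x hx => by
        rw [map_mul, map_mul, MulAut.mul_apply, MulAut.mul_apply, ha.1 _ (hinv g⁻¹ x hx),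
          ← MulAut.mul_apply, ← map_mul, mul_inv_cancel, map_one, MulAut.one_apply], fun x => by
        have h := hinv g _ (ha.2 (ρ g⁻¹ x))
        rwa [map_mul, map_inv, ← MulAut.mul_apply, ← map_mul, mul_inv_cancel, map_one, MulAut.one_apply,
          ← MulAut.mul_apply, ← map_mul, ← MulAut.mul_apply, ← map_mul] at h⟩⟩
    have hWp : IsPGroup p W := by
      intro a
      let L : ℕ → Subgroup V := fun i => if i = 0 then F else ⊤
      obtain ⟨l, hl⟩ := exists_pow_eq_one_of_stabilizes (X := V) (p := p) (fun v => ⟨1, by rw [pow_one]; exact hV v⟩) L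
        (n := 1) (fun i hi => by interval_cases i; simp [L]) (by simp [L]) (α := ρ (a : G))
        ⟨0, fun x hx => by rw [pow_zero, pow_one]; exact a.2.1 x hx⟩
        (fun i hi x _ => by interval_cases i; exact a.2.2 x)
      exact ⟨l, Subtype.ext (hρ (by rw [SubmonoidClass.coe_pow, map_pow, hl]; simp))⟩
    have hWne : W ≠ ⊥ := fun e => hu (Subgroup.mem_bot.mp (e ▸ (⟨u1, u2⟩ : u ∈ W)))
    have hle : Subgroup.normalizer (W : Set G) ≤ H := hd.normalizer_le W (hWp.le_sylow_of_normal R) hWne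
    rw [Subgroup.normalizer_eq_top] at hle
    exact hne (top_le_iff.mp hle)
  obtain ⟨g, hg⟩ := exists_conj_notMem hd hne htk htH ht1
  set s := g * t * g⁻¹ with hs
  have hgg : ∀ x, ρ g (ρ g⁻¹ x) = x := fun x => by
    rw [← MulAut.mul_apply, ← map_mul, mul_inv_cancel, map_one, MulAut.one_apply]
  have hsF : ∀ x ∈ F, ρ s x = x := fun x hx => by
    rw [hs, map_mul, map_mul, MulAut.mul_apply, MulAut.mul_apply,
      mem_ker_nu.mp (hker.ge (hinv g⁻¹ x hx)), hgg]
  set M' := M.map (ρ g).toMonoidHom with hM'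
  have hM'c : Nat.card M' = p ^ 2 := by rw [hM', Subgroup.card_map_of_injective (ρ g).injective, hM]
  have hsr : ∀ x, x⁻¹ * ρ s x ∈ M' := fun x => by
    rw [← nu_apply, hM', ← hrange, ← range_conj]; exact ⟨x, rfl⟩
  have hsM : ∀ x ∈ M', x⁻¹ * ρ s x ∈ F := by
    rintro _ ⟨x, hx, rfl⟩
    have h := hinv g _ (f2 t (Subgroup.mem_zpowers t) x hx)
    rwa [← nu_apply, ← nu_conj, nu_apply] at h
  have hFM' : F ≤ M' := fun x hx => ⟨ρ g⁻¹ x, hZM (hinv g⁻¹ x hx), hgg x⟩
  have hMne : M ≠ M' := fun e => hg (by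
    refine mem_of_series hV ρ hρ hd htH ht1 F M hZM ?_
    rintro u (rfl | rfl)
    · exact ⟨fun x hx => mem_ker_nu.mp (hker.ge hx), fun x hx => f2 _ (Subgroup.mem_zpowers _) x hx,
        fun x => f3 _ (Subgroup.mem_zpowers _) x⟩
    · exact ⟨hsF, fun x hx => hsM x (e ▸ hx), fun x => e ▸ hsr x⟩)
  obtain ⟨b, hb, hbM⟩ : ∃ b ∈ M', b ∉ M := SetLike.not_le_iff_exists.mp fun h =>
    hMne (Subgroup.eq_of_le_of_card_ge h (by rw [hM, hM'c])).symm
  set a := nu ρ t b with ha
  have haM : a ∈ M := hrange.le ⟨b, rfl⟩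
  have haF : a ∉ F := by
    intro haF
    have hle : ⊤ ≤ F.comap (nu ρ t) := by
      refine (Subgroup.eq_top_of_le_card _ ?_).ge
      have hlt : M < M ⊔ Subgroup.zpowers b := lt_of_le_of_ne le_sup_left fun e =>
        hbM (e.symm ▸ Subgroup.mem_sup_right (Subgroup.mem_zpowers b))
      have h1 : M ⊔ Subgroup.zpowers b ≤ F.comap (nu ρ t) :=
        sup_le (fun x hx => f2 t (Subgroup.mem_zpowers t) x hx) (Subgroup.zpowers_le.mpr haF)
      have := CfsgLib.FusionFourth.card_lt_mul (p := p) (K := V) hc hlt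
      rw [hM, ← pow_succ, ← hc] at this
      exact this.trans (Subgroup.card_le_of_le h1)
    have : (nu ρ t).range ≤ F := by rintro _ ⟨x, rfl⟩; exact hle (Subgroup.mem_top x)
    have h := Subgroup.card_le_of_le this
    rw [hrt, hF] at h
    exact absurd ((Nat.pow_le_pow_iff_right hp'.one_lt).mp (h.trans (pow_one p).ge)) (by norm_num)
  -- a power of `s` sending `a` to `a b` modulo `F`
  obtain ⟨s', hs'F, hs'a, hs'b⟩ : ∃ s' : G, (∀ x ∈ F, ρ s' x = x) ∧ a⁻¹ * ρ s' a * b⁻¹ ∈ F ∧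
      b⁻¹ * ρ s' b ∈ F := by
    have hsa : a⁻¹ * ρ s a ∉ F := by
      intro h
      have hle : ⊤ ≤ F.comap (nu ρ s) := by
        refine (Subgroup.eq_top_of_le_card _ ?_).ge
        have haM' : a ∉ M' := fun haM' => by
          have : M ⊓ M' = F := by
            refine (Subgroup.eq_of_le_of_card_ge (le_inf hZM hFM') ?_).symm
            have hlt : M ⊓ M' < M := lt_of_le_of_ne inf_le_left fun e =>
              hMne (Subgroup.eq_of_le_of_card_ge (e ▸ inf_le_right) (by rw [hM, hM'c]))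
            have := CfsgLib.FusionFourth.card_lt_mul (p := p) (K := V) hc hlt
            rw [hM, pow_two] at this
            rw [hF]
            exact Nat.le_of_mul_le_mul_right this hp'.pos
          exact haF (this.le ⟨haM, haM'⟩)
        have hlt : M' < M' ⊔ Subgroup.zpowers a := lt_of_le_of_ne le_sup_left fun e =>
          haM' (e.symm ▸ Subgroup.mem_sup_right (Subgroup.mem_zpowers a))
        have h1 : M' ⊔ Subgroup.zpowers a ≤ F.comap (nu ρ s) :=
          sup_le (fun x hx => hsM x hx) (Subgroup.zpowers_le.mpr h)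
        have := CfsgLib.FusionFourth.card_lt_mul (p := p) (K := V) hc hlt
        rw [hM'c, ← pow_succ, ← hc] at this
        exact this.trans (Subgroup.card_le_of_le h1)
      have : (nu ρ s).range ≤ F := by rintro _ ⟨x, rfl⟩; exact hle (Subgroup.mem_top x)
      have h := Subgroup.card_le_of_le this
      rw [hs, card_range_conj, hrt, hF] at h
      exact absurd ((Nat.pow_le_pow_iff_right hp'.one_lt).mp (h.trans (pow_one p).ge)) (by norm_num)
    set d := a⁻¹ * ρ s a with hdd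
    let π := QuotientGroup.mk' F
    have hMq : Nat.card (M'.map π) = p := by
      have h := CfsgLib.Coprime.card_map_mul_inf_ker π M'
      rw [QuotientGroup.ker_mk', inf_eq_left.mpr hFM', hF, hM'c, pow_two] at h
      exact Nat.eq_of_mul_eq_mul_right hp'.pos h
    have hd1 : π d ≠ 1 := fun e => hsa ((QuotientGroup.eq_one_iff _).mp e)
    have hq : ∀ q : V ⧸ F, q ^ p = 1 := fun q => by
      obtain ⟨q, rfl⟩ := QuotientGroup.mk'_surjective F q
      rw [← map_pow, hV, map_one]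
    obtain ⟨m, hm⟩ : π b ∈ Subgroup.zpowers (π d) := by
      rw [show Subgroup.zpowers (π d) = M'.map π from Subgroup.eq_of_le_of_card_ge
        (Subgroup.zpowers_le.mpr ⟨d, hsr a, rfl⟩) (by rw [hMq, Nat.card_zpowers, orderOf_eq_prime (hq _) hd1])]
      exact ⟨b, hb, rfl⟩
    obtain ⟨e, he⟩ : ∃ e : ℕ, π d ^ e = π b := by
      refine ⟨(m % p).toNat, ?_⟩
      rw [← hm, ← zpow_natCast, Int.toNat_of_nonneg (Int.emod_nonneg _ (by exact_mod_cast hp'.ne_zero))]
      exact (zpow_eq_zpow_emod' m (hq _)).symm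
    have hmodF : ∀ v ∈ M', π (ρ s v) = π v := fun v hv => by
      rw [app_eq ρ s v, map_mul, show π (nu ρ s v) = 1 from (QuotientGroup.eq_one_iff _).mpr (hsM v hv), mul_one]
    have hit : ∀ e : ℕ, π (ρ (s ^ e) a) = π a * π d ^ e ∧ ∀ v ∈ M', π (ρ (s ^ e) v) = π v := by
      intro e
      induction e with
      | zero => simp
      | succ e ih =>
        refine ⟨?_, fun v hv => ?_⟩
        · rw [pow_succ, map_mul, MulAut.mul_apply, show ρ s a = a * d by rw [hdd, mul_inv_cancel_left], map_mul,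
            map_mul, ih.1, ih.2 d (hsr a), pow_succ, mul_assoc]
        · rw [pow_succ, map_mul, MulAut.mul_apply]
          have hv' : ρ s v ∈ M' := by rw [app_eq ρ s v]; exact M'.mul_mem hv (hsr v)
          rw [ih.2 _ hv', hmodF v hv]
    refine ⟨s ^ e, fun x hx => ?_, ?_, ?_⟩
    · clear hit he
      induction e with
      | zero => simp
      | succ e ih => rw [pow_succ, map_mul, MulAut.mul_apply, hsF x hx, ih]
    · rw [← QuotientGroup.eq_one_iff]
      show π _ = 1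
      rw [map_mul, map_mul, map_inv, map_inv, (hit e).1, he, inv_mul_cancel_left, mul_inv_cancel]
    · rw [← QuotientGroup.eq_one_iff]
      show π _ = 1
      rw [map_mul, map_inv, (hit e).2 b hb, inv_mul_cancel]
  -- an element inverting `V/F` and fixing `F`
  set w := t * s'⁻¹ * t
  set τ := w * w
  have htF : ∀ x ∈ F, ρ t x = x := fun x hx => mem_ker_nu.mp (hker.ge hx)
  have hs'F' : ∀ x ∈ F, ρ s'⁻¹ x = x := fun x hx => by
    conv_lhs => rw [← hs'F x hx]
    rw [← MulAut.mul_apply, ← map_mul, inv_mul_cancel, map_one, MulAut.one_apply]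
  have hτF : ∀ x ∈ F, ρ τ x = x := fun x hx => by
    simp only [τ, w, map_mul, MulAut.mul_apply]
    rw [htF x hx, hs'F' x hx, htF x hx, htF x hx, hs'F' x hx, htF x hx]
  let π := QuotientGroup.mk' F
  have mapF : ∀ (u : G) (x y : V), π x = π y → π (ρ u x) = π (ρ u y) := fun u x y h => by
    rw [QuotientGroup.mk'_apply, QuotientGroup.mk'_apply, QuotientGroup.eq] at h ⊢
    rw [← map_inv, ← map_mul]; exact hinv u _ h
  have hta : π (ρ t a) = π a := by
    rw [app_eq ρ t a, map_mul, show π (nu ρ t a) = 1 from (QuotientGroup.eq_one_iff _).mpr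
      (f2 t (Subgroup.mem_zpowers t) a haM), mul_one]
  have htb : π (ρ t b) = π b * π a := by rw [← map_mul, ha, ← app_eq]
  have hs'a' : π (ρ s' a) = π a * π b := by
    have h := (QuotientGroup.eq_one_iff (N := F) _).mpr hs'a
    change π _ = 1 at h
    rw [map_mul, map_mul, map_inv, map_inv, mul_inv_eq_one, inv_mul_eq_iff_eq_mul] at h
    exact h
  have hs'b' : π (ρ s' b) = π b := by
    have h := (QuotientGroup.eq_one_iff (N := F) _).mpr hs'b
    change π _ = 1 at h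
    rw [map_mul, map_inv, inv_mul_eq_one] at h
    exact h.symm
  have hcancel : ∀ v, ρ s'⁻¹ (ρ s' v) = v := fun v => by
    rw [← MulAut.mul_apply, ← map_mul, inv_mul_cancel, map_one, MulAut.one_apply]
  have hib : π (ρ s'⁻¹ b) = π b := by
    have := mapF s'⁻¹ _ _ hs'b'
    rw [hcancel] at this; exact this.symm
  have hia : π (ρ s'⁻¹ a) = π a * (π b)⁻¹ := by
    have := mapF s'⁻¹ (ρ s' a) (a * b) (by rw [hs'a', map_mul])
    rw [hcancel, map_mul, map_mul, hib] at this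
    exact eq_mul_inv_of_mul_eq this.symm
  have hwa : π (ρ w a) = (π b)⁻¹ := by
    simp only [w, map_mul, MulAut.mul_apply]
    rw [mapF t _ (ρ s'⁻¹ a) (mapF s'⁻¹ _ _ hta)]
    rw [mapF t _ (a * b⁻¹) (by rw [hia, map_mul, map_inv]), map_mul, map_inv, map_mul, map_inv, hta, htb,
      mul_inv, mul_left_comm, mul_inv_cancel, mul_one]
  have hwb : π (ρ w b) = π a := by
    simp only [w, map_mul, MulAut.mul_apply]
    rw [mapF t _ (ρ s'⁻¹ (b * a)) (mapF s'⁻¹ _ _ (by rw [htb, map_mul]))]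
    rw [mapF t _ a (by rw [map_mul, map_mul, hib, hia, mul_left_comm, mul_inv_cancel, mul_one]), hta]
  have hτab : ∀ v, π (ρ τ v) = (π v)⁻¹ := by
    let f : V →* V ⧸ F := π.comp (ρ τ).toMonoidHom
    let f' : V →* V ⧸ F := π⁻¹
    have hle : ⊤ ≤ f.eqLocus f' := by
      have ha' : a ∈ f.eqLocus f' := by
        show π (ρ τ a) = (π a)⁻¹
        simp only [τ, map_mul, MulAut.mul_apply]
        rw [mapF w _ b⁻¹ (by rw [hwa, map_inv]), map_inv, map_inv, hwb]
      have hb' : b ∈ f.eqLocus f' := by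
        show π (ρ τ b) = (π b)⁻¹
        simp only [τ, map_mul, MulAut.mul_apply]
        rw [mapF w _ a hwb, hwa]
      have hF' : F ≤ f.eqLocus f' := fun x hx => by
        show π (ρ τ x) = (π x)⁻¹
        rw [hτF x hx, show π x = 1 from (QuotientGroup.eq_one_iff _).mpr hx, inv_one]
      refine (Subgroup.eq_top_of_le_card _ ?_).ge
      have hMle : F ⊔ Subgroup.zpowers a ≤ M := sup_le hZM (Subgroup.zpowers_le.mpr haM)
      have l1 : F < F ⊔ Subgroup.zpowers a := lt_of_le_of_ne le_sup_left fun e =>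
        haF (e.symm ▸ Subgroup.mem_sup_right (Subgroup.mem_zpowers a))
      have l2 : F ⊔ Subgroup.zpowers a < F ⊔ Subgroup.zpowers a ⊔ Subgroup.zpowers b :=
        lt_of_le_of_ne le_sup_left fun e => hbM (hMle (e.symm ▸ Subgroup.mem_sup_right (Subgroup.mem_zpowers b)))
      have s1 := CfsgLib.FusionFourth.card_lt_mul (p := p) (K := V) hc l1
      have s2 := CfsgLib.FusionFourth.card_lt_mul (p := p) (K := V) hc l2
      rw [hF] at s1
      rw [hc]
      calc p ^ 3 = p * p * p := by ring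
        _ ≤ Nat.card (F ⊔ Subgroup.zpowers a : Subgroup V) * p := Nat.mul_le_mul_right _ s1
        _ ≤ _ := s2
        _ ≤ _ := Subgroup.card_le_of_le (sup_le (sup_le hF' (Subgroup.zpowers_le.mpr ha')) (Subgroup.zpowers_le.mpr hb'))
    exact fun v => hle (Subgroup.mem_top v)
  have hττ : τ * τ = 1 := hkill _ (fun x hx => by rw [map_mul, MulAut.mul_apply, hτF x hx, hτF x hx]) fun x => by
    rw [← QuotientGroup.eq_one_iff]
    show π _ = 1
    rw [map_mul, map_inv, map_mul ρ, MulAut.mul_apply, hτab, hτab, inv_inv, inv_mul_cancel]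
  have htτ : ∀ v, ρ τ (ρ t v) = ρ t (ρ τ v) := by
    have h1 : τ * t * τ * t⁻¹ = 1 := hkill _ (fun x hx => by
        have ht' : ρ t⁻¹ x = x := by
          conv_lhs => rw [← htF x hx]
          rw [← MulAut.mul_apply, ← map_mul, inv_mul_cancel, map_one, MulAut.one_apply]
        simp only [map_mul, MulAut.mul_apply]
        rw [ht', hτF x hx, htF x hx, hτF x hx]) fun x => by
      rw [← QuotientGroup.eq_one_iff]
      show π _ = 1
      simp only [map_mul, MulAut.mul_apply, map_inv]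
      rw [hτab, mapF t _ ((ρ t⁻¹ x)⁻¹) (by rw [hτab, map_inv π]; simp [map_inv]), map_inv (ρ t), map_inv π, inv_inv]
      rw [← MulAut.mul_apply, ← map_mul ρ, mul_inv_cancel, map_one, MulAut.one_apply, inv_mul_cancel]
    intro v
    have h2 : τ * t = t * τ := by
      have h3 : τ * t * τ = t := mul_inv_eq_one.mp h1
      calc τ * t = τ * t * (τ * τ) := by rw [hττ, mul_one]
        _ = t * τ := by rw [← mul_assoc, h3]
    rw [← MulAut.mul_apply, ← map_mul, h2, map_mul, MulAut.mul_apply]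
  -- the subgroup inverted by `τ`
  let I : Subgroup V :=
    { carrier := {v | ρ τ v = v⁻¹}
      one_mem' := by simp
      mul_mem' := fun {x y} hx hy => by
        show ρ τ (x * y) = (x * y)⁻¹
        rw [map_mul, (hx : ρ τ x = x⁻¹), (hy : ρ τ y = y⁻¹), mul_inv]
      inv_mem' := fun {x} hx => by show ρ τ x⁻¹ = x⁻¹⁻¹; rw [map_inv, (hx : ρ τ x = x⁻¹)] }
  have hodd : ∀ v : V, v ^ 2 = 1 → v = 1 := fun v h => orderOf_eq_one_iff.mp (Nat.dvd_one.mp (by
    have hg : Nat.gcd 2 p = 1 := (Nat.coprime_primes Nat.prime_two hp').mpr (Ne.symm h2)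
    rw [← hg]
    exact Nat.dvd_gcd (orderOf_dvd_of_pow_eq_one h) (orderOf_dvd_of_pow_eq_one (hV v))))
  have hIne : I ≠ ⊥ := fun e => by
    have hq : b * (ρ τ b)⁻¹ ∈ I := by
      show ρ τ (b * (ρ τ b)⁻¹) = (b * (ρ τ b)⁻¹)⁻¹
      rw [map_mul, map_inv, ← MulAut.mul_apply, ← map_mul, hττ, map_one, MulAut.one_apply, mul_inv, inv_inv, mul_comm]
    rw [e, Subgroup.mem_bot] at hq
    have h := congrArg π hq
    rw [map_mul, map_inv, hτab, inv_inv, map_one] at h
    have hb2 : π (b ^ 2) = 1 := by rw [map_pow, pow_two]; exact h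
    have hb2' : b ^ 2 ∈ M := hZM ((QuotientGroup.eq_one_iff _).mp hb2)
    obtain ⟨q, hq'⟩ := (hp'.odd_of_ne_two h2)
    refine hbM ?_
    have : b = b ^ p * ((b ^ 2) ^ q)⁻¹ := by
      rw [← pow_mul, show p = 2 * q + 1 from hq', pow_succ, mul_comm (b ^ (2 * q)) b, mul_inv_cancel_right]
    rw [this, hV, one_mul]
    exact M.inv_mem (M.pow_mem hb2' q)
  obtain ⟨z, hzI, hz1, hz⟩ := exists_fixed hV ρ htp hIne (fun u hu x hx => by
    obtain ⟨i, rfl⟩ := hu
    show ρ τ (ρ (t ^ i) x) = (ρ (t ^ i) x)⁻¹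
    have hc' : τ * t = t * τ := hρ (MulEquiv.ext fun v => by
      rw [map_mul ρ τ t, map_mul ρ t τ, MulAut.mul_apply, MulAut.mul_apply]; exact htτ v)
    rw [← MulAut.mul_apply, ← map_mul, ((show Commute τ t from hc').zpow_right i).eq, map_mul, MulAut.mul_apply,
      (hx : ρ τ x = x⁻¹), map_inv])
  have hzF : z ∈ F := by rw [← hker]; exact mem_ker_nu.mpr (hz t (Subgroup.mem_zpowers t))
  have : z⁻¹ = z := (hzI : ρ τ z = z⁻¹).symm.trans (hτF z hzF)
  exact hz1 (hodd z (by rw [pow_two]; nth_rewrite 1 [← this]; exact inv_mul_cancel z))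

end CfsgLib.FusionRankThree
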