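import Cfsg.Agent.Lib.Fusion.EssentialFourth
import Cfsg.Agent.Lib.TwoGroups85.RankFourPairs
import Cfsg.Agent.Lib.PGroup.Class2

/-!
Commutator layers of `p`-groups of small sectional rank.
-/

set_option autoImplicit false

namespace CfsgLib.FusionRankThree

open Cfsg
open scoped commutatorElement

variable {p : ℕ} [hp : Fact p.Prime] {K : Type*} [Group K]

/-- The subgroup generated by the `p`-th powers of the elements of `H`. -/
def pw (p : ℕ) (H : Subgroup K) : Subgroup K := Subgroup.closure {w | ∃ x ∈ H, x ^ p = w}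

omit hp in
theorem pow_mem_pw {H : Subgroup K} {x : K} (hx : x ∈ H) : x ^ p ∈ pw p H :=
  Subgroup.subset_closure ⟨x, hx, rfl⟩

omit hp in
theorem pw_le {H L : Subgroup K} (h : ∀ x ∈ H, x ^ p ∈ L) : pw p H ≤ L :=
  (Subgroup.closure_le _).mpr (by rintro _ ⟨x, hx, rfl⟩; exact h x hx)

omit hp in
theorem pw_le_self (H : Subgroup K) : pw p H ≤ H := pw_le fun _ hx => H.pow_mem hx p

omit hp in
theorem pw_mono {H L : Subgroup K} (h : H ≤ L) : pw p H ≤ pw p L := pw_le fun _ hx => pow_mem_pw (h hx)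

omit hp in
theorem pw_map {L : Type*} [Group L] (f : K →* L) (H : Subgroup K) : (pw p H).map f = pw p (H.map f) := by
  rw [pw, MonoidHom.map_closure]
  congr 1
  ext w
  constructor
  · rintro ⟨_, ⟨x, hx, rfl⟩, rfl⟩; exact ⟨f x, ⟨x, hx, rfl⟩, (map_pow f x p).symm⟩
  · rintro ⟨_, ⟨x, hx, rfl⟩, rfl⟩; exact ⟨x ^ p, ⟨x, hx, rfl⟩, map_pow f x p⟩

omit hp in
theorem pw_aut {H : Subgroup K} {a : MulAut K} (h : ∀ x ∈ H, a x ∈ H) {w : K} (hw : w ∈ pw p H) :
    a w ∈ pw p H := by
  have : pw p H ≤ (pw p H).comap (a : K →* K) := pw_le fun x hx => by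
    show a (x ^ p) ∈ pw p H
    rw [map_pow]; exact pow_mem_pw (h x hx)
  exact this hw

omit hp in
instance pw_normal (H : Subgroup K) [hH : H.Normal] : (pw p H).Normal :=
  ⟨fun _ hw g => pw_aut (a := MulAut.conj g) (fun x hx => hH.conj_mem x hx g) hw⟩

omit hp in
theorem aut_commutator {H L : Subgroup K} {a : MulAut K} (hH : ∀ x ∈ H, a x ∈ H) (hL : ∀ x ∈ L, a x ∈ L)
    {w : K} (hw : w ∈ ⁅H, L⁆) : a w ∈ ⁅H, L⁆ := by
  have : ⁅H, L⁆ ≤ (⁅H, L⁆).comap (a : K →* K) := by
    rw [Subgroup.commutator_le]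
    intro x hx y hy
    show a ⁅x, y⁆ ∈ ⁅H, L⁆
    rw [map_commutatorElement]
    exact Subgroup.commutator_mem_commutator (hH x hx) (hL y hy)
  exact this hw

omit hp in
/-- Modulo a normal subgroup, nothing nontrivial is reproduced by commutation in a nilpotent group. -/
theorem le_of_le_sup_commutator [Group.IsNilpotent K] {W U : Subgroup K} [hU : U.Normal]
    (h : W ≤ U ⊔ ⁅W, ⊤⁆) : W ≤ U := by
  let f := QuotientGroup.mk' U
  have hh : W.map f ≤ ⁅W.map f, (⊤ : Subgroup (K ⧸ U))⁆ := by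
    refine (Subgroup.map_mono h).trans ?_
    rw [Subgroup.map_sup, QuotientGroup.map_mk'_self, bot_sup_eq, Subgroup.map_commutator,
      Subgroup.map_top_of_surjective f (QuotientGroup.mk'_surjective U)]
  have : Group.IsNilpotent (K ⧸ U) := Group.nilpotent_of_surjective f (QuotientGroup.mk'_surjective U)
  obtain ⟨m, hm⟩ := Subgroup.nilpotent_iff_lowerCentralSeries.mp (inferInstance : Group.IsNilpotent (K ⧸ U))
  have hle : ∀ n, W.map f ≤ (⊤ : Subgroup (K ⧸ U)).lowerCentralSeries n := by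
    intro n
    induction n with
    | zero => exact le_top
    | succ n ih =>
      rw [Subgroup.lowerCentralSeries_succ]
      exact hh.trans (Subgroup.commutator_mono ih le_rfl)
  have hbot := le_bot_iff.mp (hm ▸ hle m)
  rwa [Subgroup.map_eq_bot_iff, QuotientGroup.ker_mk'] at hbot

omit hp in
/-- Iterating a conjugation that is unipotent of degree three. -/
theorem conj_pow_iter {g b c w r : K} (hb : g * b * g⁻¹ = b * c) (hc : g * c * g⁻¹ = c * w)
    (hw : g * w * g⁻¹ = w * r) (hr : g * r * g⁻¹ = r) (hcw : Commute c w) (hcr : Commute c r)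
    (hwr : Commute w r) (n : ℕ) :
    g ^ n * b * (g ^ n)⁻¹ = b * c ^ n * w ^ n.choose 2 * r ^ n.choose 3 := by
  induction n with
  | zero => simp
  | succ n ih =>
    have h2 : g ^ (n + 1) * b * (g ^ (n + 1))⁻¹ = MulAut.conj g (g ^ n * b * (g ^ n)⁻¹) := by
      rw [MulAut.conj_apply, pow_succ']; group
    rw [h2, ih, map_mul, map_mul, map_mul, map_pow, map_pow, map_pow, MulAut.conj_apply, MulAut.conj_apply,
      MulAut.conj_apply, MulAut.conj_apply, hb, hc, hw, hr, hcw.mul_pow, hwr.mul_pow]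
    have hA : (n + 1).choose 2 = n + n.choose 2 := by rw [Nat.choose_succ_succ']; simp
    have hB : (n + 1).choose 3 = n.choose 2 + n.choose 3 := Nat.choose_succ_succ' n 2
    rw [hA, hB, pow_succ' c, pow_add w, pow_add r]
    simp only [mul_assoc]

variable [Finite K]

omit hp in
theorem mem_closure_center {a b : K} {R : Subgroup K} [R.Normal] (hcen : commutator K ≤ Subgroup.center K)
    (hgen : commutator K ⊔ Subgroup.zpowers a ⊔ Subgroup.zpowers b = ⊤) (hab : ⁅a, b⁆ ∈ R) : commutator K ≤ R := by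
  have hD : ∀ d ∈ commutator K, ∀ g : K, g * d = d * g := fun d hd => Subgroup.mem_center_iff.mp (hcen hd)
  let π := QuotientGroup.mk' R
  have hπ : π a * π b = π b * π a := commutatorElement_eq_one_iff_mul_comm.mp (by
    rw [← map_commutatorElement]; exact (QuotientGroup.eq_one_iff _).mpr hab)
  let C : K → Subgroup K := fun x => (Subgroup.centralizer ({π x} : Set (K ⧸ R))).comap π
  have hC : ∀ x w, w ∈ C x ↔ π w * π x = π x * π w := fun x w => Subgroup.mem_centralizer_singleton_iff
  have hdall : ∀ x, commutator K ≤ C x := fun x d hd => (hC x d).mpr (by rw [← map_mul, ← map_mul, hD d hd x])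
  have hAll : ∀ x w : K, π w * π x = π x * π w := by
    have h : ∀ x ∈ ({a, b} : Set K), ∀ w, π w * π x = π x * π w := by
      rintro x (rfl | rfl) w
      · exact (hC x w).mp ((sup_le (sup_le (hdall x) (Subgroup.zpowers_le.mpr ((hC x x).mpr rfl)))
          (Subgroup.zpowers_le.mpr ((hC x b).mpr hπ.symm))) (hgen.ge (Subgroup.mem_top w)))
      · exact (hC x w).mp ((sup_le (sup_le (hdall x) (Subgroup.zpowers_le.mpr ((hC x a).mpr hπ)))
          (Subgroup.zpowers_le.mpr ((hC x x).mpr rfl))) (hgen.ge (Subgroup.mem_top w)))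
    intro x w
    exact (hC x w).mp ((sup_le (sup_le (hdall x) (Subgroup.zpowers_le.mpr ((hC x a).mpr (h a (Or.inl rfl) x).symm)))
      (Subgroup.zpowers_le.mpr ((hC x b).mpr (h b (Or.inr rfl) x).symm))) (hgen.ge (Subgroup.mem_top w)))
  rw [commutator_def, Subgroup.commutator_le]
  intro x _ y _
  rw [← QuotientGroup.eq_one_iff]
  show π _ = 1
  rw [map_commutatorElement]
  exact commutatorElement_eq_one_iff_mul_comm.mpr (hAll y x)

/-- A group of exponent `p` and rank at most three, generated by three elements modulo a central derived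
subgroup, has derived subgroup of order at most `p`. -/
theorem card_commutator_le (hexp : ∀ x : K, x ^ p = 1) (hcen : commutator K ≤ Subgroup.center K)
    (hidx : (commutator K).index ≤ p ^ 3) (hrk : PRankLE p 3 K) : Nat.card (commutator K) ≤ p := by
  have hp' : p.Prime := hp.out
  have hP : IsPGroup p K := fun x => ⟨1, by rw [pow_one]; exact hexp x⟩
  by_contra hlt
  push Not at hlt
  set D := commutator K with hD
  obtain ⟨n, hn⟩ := IsPGroup.iff_card.mp hP
  have hDpow : ∃ m, Nat.card D = p ^ m := IsPGroup.iff_card.mp (hP.to_subgroup D)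
  obtain ⟨m, hm⟩ := hDpow
  have hm2 : 2 ≤ m := by
    by_contra h
    rw [hm] at hlt
    have := Nat.pow_le_pow_right hp'.pos (show m ≤ 1 by omega)
    rw [pow_one] at this; omega
  have hc : ∀ a b : K, ⁅a, b⁆ ∈ Subgroup.center K := fun a b =>
    hcen (Subgroup.commutator_mem_commutator (Subgroup.mem_top a) (Subgroup.mem_top b))
  have hzA : ∀ z ∈ D, ∀ g : K, g * z = z * g := fun z hz => Subgroup.mem_center_iff.mp (hcen hz)
  have habel : ∀ X : Subgroup K, (∀ a ∈ X, ∀ b ∈ X, a * b = b * a) → Nat.card X ≤ p ^ 3 := fun X hX =>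
    hrk X ⟨⟨fun a b => Subtype.ext (hX a a.2 b b.2)⟩⟩ fun a _ => hexp a
  have hone : ∀ u, ∀ a ∈ D ⊔ Subgroup.zpowers u, ∀ b ∈ D ⊔ Subgroup.zpowers u, a * b = b * a := by
    intro u a ha b hb
    have h1 : ∀ w : K, w * u = u * w → D ⊔ Subgroup.zpowers u ≤ Subgroup.centralizer ({w} : Set K) := fun w hw =>
      sup_le (fun z hz => Subgroup.mem_centralizer_singleton_iff.mpr (hzA z hz w).symm)
        (Subgroup.zpowers_le.mpr (Subgroup.mem_centralizer_singleton_iff.mpr hw.symm))
    have h2 : a * u = u * a := Subgroup.mem_centralizer_singleton_iff.mp (h1 u rfl ha)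
    exact (Subgroup.mem_centralizer_singleton_iff.mp (h1 a h2 hb)).symm
  -- no two independent commuting elements
  have hpair : ∀ u v : K, u ∉ D → v ∉ D ⊔ Subgroup.zpowers u → u * v ≠ v * u := by
    intro u v hu hv huv
    set X := D ⊔ Subgroup.zpowers u ⊔ Subgroup.zpowers v
    have key : ∀ w : K, w * u = u * w → w * v = v * w → X ≤ Subgroup.centralizer ({w} : Set K) :=
      fun w h1 h2 => sup_le (sup_le (fun z hz => Subgroup.mem_centralizer_singleton_iff.mpr (hzA z hz w).symm)
        (Subgroup.zpowers_le.mpr (Subgroup.mem_centralizer_singleton_iff.mpr h1.symm)))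
        (Subgroup.zpowers_le.mpr (Subgroup.mem_centralizer_singleton_iff.mpr h2.symm))
    have h := habel X fun a ha b hb => by
      have h1 : a * u = u * a := Subgroup.mem_centralizer_singleton_iff.mp (key u rfl huv ha)
      have h2 : a * v = v * a := Subgroup.mem_centralizer_singleton_iff.mp (key v huv.symm rfl ha)
      exact (Subgroup.mem_centralizer_singleton_iff.mp (key a h1 h2 hb)).symm
    have s1 := CfsgLib.FusionFourth.card_lt_mul (p := p) hn (lt_of_le_of_ne (le_sup_left : D ≤ D ⊔ Subgroup.zpowers u)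
      fun e => hu (e.symm ▸ Subgroup.mem_sup_right (Subgroup.mem_zpowers u)))
    have s2 := CfsgLib.FusionFourth.card_lt_mul (p := p) hn (lt_of_le_of_ne (le_sup_left : D ⊔ Subgroup.zpowers u ≤ X)
      fun e => hv (e.symm ▸ Subgroup.mem_sup_right (Subgroup.mem_zpowers v)))
    have h5 : p ^ 4 ≤ Nat.card X := by
      calc p ^ 4 = p ^ 2 * p * p := by ring
        _ ≤ Nat.card D * p * p := by
          rw [hm]; exact Nat.mul_le_mul_right _ (Nat.mul_le_mul_right _ (Nat.pow_le_pow_right hp'.pos hm2))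
        _ ≤ _ := (Nat.mul_le_mul_right _ s1).trans s2
    exact absurd ((Nat.pow_le_pow_iff_right hp'.one_lt).mp (h5.trans h)) (by norm_num)
  have hne : D ≠ ⊤ := fun e => by
    have := hP.isNilpotent
    have h : (⊤ : Subgroup K) ≤ ⊥ ⊔ ⁅(⊤ : Subgroup K), ⊤⁆ := by
      rw [bot_sup_eq]; exact e.ge.trans (le_of_eq (commutator_def K))
    have h2 : D ≤ ⊥ := le_top.trans (le_of_le_sup_commutator h)
    rw [le_bot_iff.mp h2, Subgroup.card_bot] at hlt
    have := hp'.two_le; omega
  obtain ⟨u, -, hu⟩ := SetLike.exists_of_lt hne.lt_top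
  set W := D ⊔ Subgroup.zpowers u with hW
  have hDW : D < W := lt_of_le_of_ne le_sup_left fun e => hu (e.symm ▸ Subgroup.mem_sup_right (Subgroup.mem_zpowers u))
  have s0 := CfsgLib.FusionFourth.card_lt_mul (p := p) hn hDW
  -- the derived subgroup has order `p²`
  obtain rfl : m = 2 := by
    by_contra hm'
    have h := s0.trans (habel W (hone u))
    rw [hm, ← pow_succ] at h
    have := (Nat.pow_le_pow_iff_right hp'.one_lt).mp h; omega
  let φ : K →* D :=
    { toFun := fun v => ⟨⁅v, u⁆, Subgroup.commutator_mem_commutator (Subgroup.mem_top v) (Subgroup.mem_top u)⟩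
      map_one' := Subtype.ext (by simp)
      map_mul' := fun v w => Subtype.ext (CfsgLib.PGroup.commutatorElement_mul_left_of_central v w u (hc w u)) }
  have hker : φ.ker = W := by
    refine le_antisymm (fun v hv => by_contra fun hv' =>
      hpair u v hu hv' (commutatorElement_eq_one_iff_mul_comm.mp (congrArg Subtype.val hv)).symm) ?_
    refine sup_le (fun d hd => Subtype.ext ?_) (Subgroup.zpowers_le.mpr (Subtype.ext (commutatorElement_self u)))
    exact commutatorElement_eq_one_iff_mul_comm.mpr (hzA d hd u).symm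
  have hsurj : φ.range = ⊤ := by
    refine Subgroup.eq_top_of_le_card _ ?_
    rw [hm]
    by_contra hsmall
    push Not at hsmall
    obtain ⟨a, -, ha⟩ : ∃ a ∈ (⊤ : Subgroup K), a ∉ W := SetLike.exists_of_lt (lt_top_iff_ne_top.mpr fun e => by
      have h := habel (⊤ : Subgroup K) (e ▸ hone u)
      have : D = ⊥ := by
        rw [eq_bot_iff, hD, commutator_def, Subgroup.commutator_le]
        intro x _ y _
        exact Subgroup.mem_bot.mpr (commutatorElement_eq_one_iff_mul_comm.mpr
          (hone u x (e.ge (Subgroup.mem_top x) : x ∈ W) y (e.ge (Subgroup.mem_top y) : y ∈ W)))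
      rw [this, Subgroup.card_bot] at hlt
      have := hp'.two_le; omega)
    obtain ⟨i, hi⟩ := hP.index W
    have hWi : W.index = Nat.card φ.range := by rw [← hker, Subgroup.index_ker]
    rw [← hWi, hi] at hsmall
    have hi1 : i ≤ 1 := by have := (Nat.pow_lt_pow_iff_right hp'.one_lt).mp hsmall; omega
    have hgen : D ⊔ Subgroup.zpowers u ⊔ Subgroup.zpowers a = ⊤ := by
      refine Subgroup.eq_top_of_le_card _ ?_
      have := CfsgLib.FusionFourth.card_lt_mul (p := p) hn (lt_of_le_of_ne (le_sup_left : W ≤ W ⊔ Subgroup.zpowers a)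
        fun e => ha (e.symm ▸ Subgroup.mem_sup_right (Subgroup.mem_zpowers a)))
      refine le_trans ?_ this
      calc Nat.card K = Nat.card W * W.index := W.card_mul_index.symm
        _ ≤ _ := Nat.mul_le_mul_left _ (by rw [hi]; exact (Nat.pow_le_pow_right hp'.pos hi1).trans (pow_one p).le)
    set R := Subgroup.zpowers ⁅u, a⁆ with hR
    have hRn : R.Normal := ⟨fun x hx g => by
      rw [Subgroup.mem_center_iff.mp (Subgroup.zpowers_le.mpr (hc u a) hx) g, mul_inv_cancel_right]; exact hx⟩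
    have h := Subgroup.card_le_of_le (mem_closure_center (R := R) hcen hgen (Subgroup.mem_zpowers _))
    rw [hR, Nat.card_zpowers] at h
    have h2 : orderOf ⁅u, a⁆ ≤ p := Nat.le_of_dvd hp'.pos (orderOf_dvd_of_pow_eq_one (hexp _))
    exact absurd (h.trans h2) (not_le.mpr hlt)
  obtain ⟨z₁, hz₁, hz1⟩ : ∃ z ∈ D, z ≠ 1 := (Subgroup.bot_or_exists_ne_one D).resolve_left fun e => by
    rw [e, Subgroup.card_bot] at hlt; have := hp'.two_le; omega
  have hz₁c : Nat.card (Subgroup.zpowers z₁) = p := by rw [Nat.card_zpowers, orderOf_eq_prime (hexp _) hz1]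
  obtain ⟨z₂, hz₂, hz2⟩ : ∃ z ∈ D, z ∉ Subgroup.zpowers z₁ := SetLike.exists_of_lt
    (lt_of_le_of_ne (Subgroup.zpowers_le.mpr hz₁) fun e => by rw [← e, hz₁c] at hlt; omega)
  have hZn : (Subgroup.zpowers z₁).Normal := ⟨fun x hx g => by
    rw [Subgroup.mem_center_iff.mp (Subgroup.zpowers_le.mpr (hcen hz₁) hx) g, mul_inv_cancel_right]; exact hx⟩
  have hspan : Subgroup.zpowers z₁ ⊔ Subgroup.zpowers z₂ = D := by
    refine Subgroup.eq_of_le_of_card_ge (sup_le (Subgroup.zpowers_le.mpr hz₁) (Subgroup.zpowers_le.mpr hz₂)) ?_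
    have := CfsgLib.FusionFourth.card_lt_mul (p := p) hn (lt_of_le_of_ne (le_sup_left :
      Subgroup.zpowers z₁ ≤ Subgroup.zpowers z₁ ⊔ Subgroup.zpowers z₂)
        fun e => hz2 (e.symm ▸ Subgroup.mem_sup_right (Subgroup.mem_zpowers z₂)))
    rw [hz₁c] at this
    rw [hm, pow_two]
    exact this
  obtain ⟨v, hv⟩ : (⟨z₁, hz₁⟩ : D) ∈ φ.range := hsurj ▸ Subgroup.mem_top _
  obtain ⟨w, hw⟩ : (⟨z₂, hz₂⟩ : D) ∈ φ.range := hsurj ▸ Subgroup.mem_top _
  have hv' : ⁅v, u⁆ = z₁ := congrArg Subtype.val hv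
  have hw' : ⁅w, u⁆ = z₂ := congrArg Subtype.val hw
  obtain ⟨x₁, ⟨α, rfl⟩, x₂, ⟨β, rfl⟩, hwv⟩ := Subgroup.mem_sup_of_normal_left.mp
    (hspan.ge (Subgroup.commutator_mem_commutator (Subgroup.mem_top w) (Subgroup.mem_top v)))
  have hl : ∀ x y z : K, ⁅x * y, z⁆ = ⁅x, z⁆ * ⁅y, z⁆ := fun x y z =>
    CfsgLib.PGroup.commutatorElement_mul_left_of_central x y z (hc y z)
  have hr : ∀ x y z : K, ⁅x, y * z⁆ = ⁅x, y⁆ * ⁅x, z⁆ := fun x y z =>
    CfsgLib.PGroup.commutatorElement_mul_right_of_central x y z (hc x z)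
  let adL : K → (K →* K) := fun z => MonoidHom.mk' (fun x => ⁅x, z⁆) fun x y => hl x y z
  let adR : K → (K →* K) := fun x => MonoidHom.mk' (fun z => ⁅x, z⁆) fun y z => hr x y z
  set a := v * u ^ (-β)
  set b := w * u ^ α
  have hau : ⁅a, u⁆ = z₁ := by
    show adL u (v * u ^ (-β)) = z₁
    rw [map_mul, map_zpow]
    show ⁅v, u⁆ * ⁅u, u⁆ ^ (-β) = z₁
    rw [hv', commutatorElement_self, one_zpow, mul_one]
  have hbu : ⁅b, u⁆ = z₂ := by
    show adL u (w * u ^ α) = z₂
    rw [map_mul, map_zpow]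
    show ⁅w, u⁆ * ⁅u, u⁆ ^ α = z₂
    rw [hw', commutatorElement_self, one_zpow, mul_one]
  have haD : a ∉ D := fun h => hz1 (by
    rw [← hau]; exact commutatorElement_eq_one_iff_mul_comm.mpr (hzA a h u).symm)
  have hba : b ∉ D ⊔ Subgroup.zpowers a := fun h => hz2 (by
    have hle : D ⊔ Subgroup.zpowers a ≤ (Subgroup.zpowers z₁).comap (adL u) := sup_le (fun d hd => by
      show ⁅d, u⁆ ∈ Subgroup.zpowers z₁
      rw [commutatorElement_eq_one_iff_mul_comm.mpr (hzA d hd u).symm]; exact one_mem _)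
      (Subgroup.zpowers_le.mpr (show ⁅a, u⁆ ∈ Subgroup.zpowers z₁ by rw [hau]; exact Subgroup.mem_zpowers _))
    rw [← hbu]
    exact hle h)
  refine hpair a b haD hba (commutatorElement_eq_one_iff_mul_comm.mp ?_).symm
  show adL a (w * u ^ α) = 1
  rw [map_mul, map_zpow]
  show adR w (v * u ^ (-β)) * (adR u (v * u ^ (-β))) ^ α = 1
  rw [map_mul, map_zpow, map_mul, map_zpow]
  show ⁅w, v⁆ * ⁅w, u⁆ ^ (-β) * (⁅u, v⁆ * ⁅u, u⁆ ^ (-β)) ^ α = 1
  rw [commutatorElement_self, one_zpow, mul_one, hw', ← commutatorElement_inv v u, hv', ← hwv]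
  simp [mul_assoc]

/-- A group of order `p⁴` and exponent `p` with derived subgroup of order `p` has centre of order `p²`. -/
theorem card_center_of_exponent (hK : Nat.card K = p ^ 4) (hexp : ∀ x : K, x ^ p = 1)
    (hD : Nat.card (commutator K) = p) :
    Nat.card (Subgroup.center K) = p ^ 2 ∧ commutator K ≤ Subgroup.center K := by
  have hp' : p.Prime := hp.out
  have hP : IsPGroup p K := IsPGroup.of_card hK
  have hna : ¬ IsMulCommutative K := fun h => by
    have : commutator K = ⊥ := by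
      rw [eq_bot_iff, commutator_def, Subgroup.commutator_le]
      intro a _ b _
      exact Subgroup.mem_bot.mpr (commutatorElement_eq_one_iff_mul_comm.mpr (h.is_comm.comm a b))
    rw [this, Subgroup.card_bot] at hD
    exact hp'.ne_one hD.symm
  have hcen : commutator K ≤ Subgroup.center K := CfsgLib.SoftSubgroup.le_center_of_card_eq hP _ hD
  refine ⟨?_, hcen⟩
  set Z := Subgroup.center K with hZ
  obtain ⟨i, hi, hi'⟩ := (Nat.dvd_prime_pow hp').mp (hK ▸ Subgroup.card_subgroup_dvd_card Z)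
  have hidx : Z.index = p ^ (4 - i) := by
    have h := Z.card_mul_index
    rw [hK, hi'] at h
    refine Nat.eq_of_mul_eq_mul_left (pow_pos hp'.pos i) (h.trans ?_)
    rw [← pow_add]; congr 1; omega
  have h3 : i ≤ 2 := by
    by_contra h
    have : IsCyclic (K ⧸ Z) := isCyclic_of_card_dvd_prime (p := p) (by
      rw [← Subgroup.index_eq_card, hidx]
      exact (pow_dvd_pow p (show 4 - i ≤ 1 by omega)).trans (pow_one p).dvd)
    exact hna ⟨⟨commutative_of_cyclic_center_quotient (QuotientGroup.mk' Z) (by rw [QuotientGroup.ker_mk'])⟩⟩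
  rcases (show i = 2 ∨ i ≤ 1 by omega) with rfl | h1
  · exact hi'
  exfalso
  -- two elements whose centralisers meet in more than the derived subgroup
  obtain ⟨u, v, huv⟩ : ∃ u v : K, ⁅u, v⁆ ≠ 1 := by
    by_contra! h; exact hna ⟨⟨fun a b => commutatorElement_eq_one_iff_mul_comm.mp (h a b)⟩⟩
  have hDZ : commutator K = Z := by
    refine Subgroup.eq_of_le_of_card_ge hcen ?_
    rw [hD, hi']
    exact (Nat.pow_le_pow_right hp'.pos h1).trans (pow_one p).le
  have hc : ∀ a b : K, ⁅a, b⁆ ∈ Subgroup.center K := fun a b =>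
    hcen (Subgroup.commutator_mem_commutator (Subgroup.mem_top a) (Subgroup.mem_top b))
  let φ : K →* commutator K × commutator K :=
    { toFun := fun w => (⟨⁅w, u⁆, Subgroup.commutator_mem_commutator (Subgroup.mem_top w) (Subgroup.mem_top u)⟩,
        ⟨⁅w, v⁆, Subgroup.commutator_mem_commutator (Subgroup.mem_top w) (Subgroup.mem_top v)⟩)
      map_one' := Prod.ext (Subtype.ext (by simp)) (Subtype.ext (by simp))
      map_mul' := fun x y => Prod.ext
        (Subtype.ext (CfsgLib.PGroup.commutatorElement_mul_left_of_central x y u (hc y u)))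
        (Subtype.ext (CfsgLib.PGroup.commutatorElement_mul_left_of_central x y v (hc y v))) }
  have hk : p ^ 2 ≤ Nat.card φ.ker := by
    have h := φ.ker.card_mul_index
    rw [Subgroup.index_ker, hK] at h
    have h2 : Nat.card φ.range ≤ p ^ 2 := (Subgroup.card_le_card_group φ.range).trans
      (by rw [Nat.card_prod, hD, pow_two])
    refine Nat.le_of_mul_le_mul_right ?_ (pow_pos hp'.pos 2)
    calc p ^ 2 * p ^ 2 = p ^ 4 := by ring
      _ ≤ _ := by rw [← h]; exact Nat.mul_le_mul_left _ h2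
  obtain ⟨r, hr, hrZ⟩ : ∃ r ∈ φ.ker, r ∉ Z := by
    by_contra! hle
    have h := hk.trans (Subgroup.card_le_of_le hle)
    rw [hi'] at h
    have := (Nat.pow_le_pow_iff_right hp'.one_lt).mp h; omega
  have hru : r * u = u * r := commutatorElement_eq_one_iff_mul_comm.mp
    (congrArg Subtype.val (congrArg Prod.fst (MonoidHom.mem_ker.mp hr)))
  have hrv : r * v = v * r := commutatorElement_eq_one_iff_mul_comm.mp
    (congrArg Subtype.val (congrArg Prod.snd (MonoidHom.mem_ker.mp hr)))
  set C := Subgroup.centralizer ({r} : Set K) with hC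
  have huC : u ∈ C := Subgroup.mem_centralizer_singleton_iff.mpr hru.symm
  have hvC : v ∈ C := Subgroup.mem_centralizer_singleton_iff.mpr hrv.symm
  have hZC : Z ≤ C := fun z hz => Subgroup.mem_centralizer_singleton_iff.mpr (Subgroup.mem_center_iff.mp hz r).symm
  have hCne : C ≠ ⊤ := fun e => hrZ (Subgroup.mem_center_iff.mpr fun g =>
    Subgroup.mem_centralizer_singleton_iff.mp (e ▸ Subgroup.mem_top g : g ∈ C))
  have hrC : r ∈ C := Subgroup.mem_centralizer_singleton_iff.mpr rfl
  have hCc : Nat.card C ≤ p ^ 3 := by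
    obtain ⟨j, hj, hj'⟩ := (Nat.dvd_prime_pow hp').mp (hK ▸ Subgroup.card_subgroup_dvd_card C)
    rw [hj']
    refine Nat.pow_le_pow_right hp'.pos ?_
    by_contra h
    obtain rfl : j = 4 := by omega
    exact hCne (Subgroup.eq_top_of_card_eq C (hj'.trans hK.symm))
  -- the group generated by `u` and `v` has trivial radical
  set U := Z ⊔ Subgroup.zpowers u
  set W := U ⊔ Subgroup.zpowers v
  have l1 : Z < U := lt_of_le_of_ne le_sup_left fun e => huv (commutatorElement_eq_one_iff_mul_comm.mpr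
    (Subgroup.mem_center_iff.mp (e.symm ▸ Subgroup.mem_sup_right (Subgroup.mem_zpowers u) : u ∈ Z) v).symm)
  have l2 : U < W := lt_of_le_of_ne le_sup_left fun e => huv (commutatorElement_eq_one_iff_mul_comm.mpr (by
    have hle : U ≤ Subgroup.centralizer ({u} : Set K) := sup_le
      (fun z hz => Subgroup.mem_centralizer_singleton_iff.mpr (Subgroup.mem_center_iff.mp hz u).symm)
      (Subgroup.zpowers_le.mpr (Subgroup.mem_centralizer_singleton_iff.mpr rfl))
    exact (Subgroup.mem_centralizer_singleton_iff.mp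
      (hle (e.symm ▸ Subgroup.mem_sup_right (Subgroup.mem_zpowers v)))).symm))
  have s1 := CfsgLib.FusionFourth.card_lt_mul (p := p) hK l1
  have s2 := CfsgLib.FusionFourth.card_lt_mul (p := p) hK l2
  have hWC : W = C := by
    refine Subgroup.eq_of_le_of_card_ge (sup_le (sup_le hZC (Subgroup.zpowers_le.mpr huC)) (Subgroup.zpowers_le.mpr hvC)) ?_
    refine hCc.trans ?_
    calc p ^ 3 = p * p * p := by ring
      _ ≤ Nat.card Z * p * p := by
        refine Nat.mul_le_mul_right _ (Nat.mul_le_mul_right _ ?_)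
        rw [← hD, ← hDZ]
      _ ≤ Nat.card U * p := Nat.mul_le_mul_right _ s1
      _ ≤ _ := s2
  have hna' : ¬ IsMulCommutative C := fun h => huv (commutatorElement_eq_one_iff_mul_comm.mpr
    (congrArg Subtype.val (h.is_comm.comm ⟨u, huC⟩ ⟨v, hvC⟩)))
  have hC3 : Nat.card C = p ^ 3 := by
    refine le_antisymm hCc ?_
    rw [← hWC]
    calc p ^ 3 = Nat.card Z * p * p := by rw [← hDZ, hD]; ring
      _ ≤ Nat.card U * p := Nat.mul_le_mul_right _ s1
      _ ≤ _ := s2
  have hCex := CfsgLib.FusionFourth.extraspecial_of_exponent hC3 hna' (fun x => Subtype.ext (hexp x))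
  have hle : Z.subgroupOf C ⊔ Subgroup.zpowers ⟨r, hrC⟩ ≤ Subgroup.center C := by
    refine sup_le (fun z hz => Subgroup.mem_center_iff.mpr fun g => Subtype.ext (Subgroup.mem_center_iff.mp hz g))
      (Subgroup.zpowers_le.mpr (Subgroup.mem_center_iff.mpr fun g => Subtype.ext ?_))
    exact Subgroup.mem_centralizer_singleton_iff.mp g.2
  have hlt : Z.subgroupOf C < Z.subgroupOf C ⊔ Subgroup.zpowers ⟨r, hrC⟩ :=
    lt_of_le_of_ne le_sup_left fun e => hrZ
      (e.symm ▸ Subgroup.mem_sup_right (Subgroup.mem_zpowers _) : (⟨r, hrC⟩ : C) ∈ Z.subgroupOf C)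
  have s3 := (CfsgLib.FusionFourth.card_lt_mul (p := p) hC3 hlt).trans (Subgroup.card_le_of_le hle)
  rw [hCex.2, Nat.card_congr (Subgroup.subgroupOfEquivOfLe hZC).toEquiv, ← hDZ, hD] at s3
  have := hp'.two_le
  nlinarith

end CfsgLib.FusionRankThree
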