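import Cfsg.Agent.Lib.Fusion.RankThree.Module
import Cfsg.Agent.Lib.Fusion.RankThree.Tools

/-!
A subgroup of index `p` whose Frattini quotient has order `p³` and carries a strongly embedded group.
-/

set_option autoImplicit false

namespace CfsgLib.FusionRankThree

open Cfsg
open scoped commutatorElement

variable {p : ℕ} [hp : Fact p.Prime]

/-- The Frattini quotient of a `p`-group as a commutative group. -/
abbrev frattiniCommGroup {E : Type*} [Group E] [Finite E] (hP : IsPGroup p E) : CommGroup (E ⧸ frattini E) :=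
  { (inferInstance : Group (E ⧸ frattini E)) with
    mul_comm := fun a b => by
      obtain ⟨x, rfl⟩ := QuotientGroup.mk'_surjective _ a
      obtain ⟨y, rfl⟩ := QuotientGroup.mk'_surjective _ b
      rw [← commutatorElement_eq_one_iff_mul_comm, ← map_commutatorElement]
      exact (QuotientGroup.eq_one_iff _).2
        (CfsgLib.PGroup.commutator_le_frattini hP
          (Subgroup.commutator_mem_commutator (Subgroup.mem_top x) (Subgroup.mem_top y))) }

theorem aut_mem_frattini {E : Type*} [Group E] (a : MulAut E) {x : E} (hx : x ∈ frattini E) :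
    a x ∈ frattini E := by
  have h : (frattini E).comap a.toMonoidHom = frattini E := (inferInstance : (frattini E).Characteristic).fixed a
  exact (h.ge hx)

/-- The first layer of the Frattini subgroup modulo powers has order at most `p`. -/
theorem card_layer_le {E : Type*} [Group E] [Finite E] (hP : IsPGroup p E) (hidx : (frattini E).index = p ^ 3)
    (hrk : SectionalPRankLE p 3 E) (N : Subgroup E) [N.Normal]
    (hN : pw p ⊤ ⊔ ⁅frattini E, ⊤⁆ ≤ N) : Nat.card ((frattini E).map (QuotientGroup.mk' N)) ≤ p := by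
  let π := QuotientGroup.mk' N
  have hs : Function.Surjective π := QuotientGroup.mk'_surjective N
  have hexp : ∀ x : E ⧸ N, x ^ p = 1 := fun x => by
    obtain ⟨x, rfl⟩ := hs x
    rw [← map_pow]
    exact (QuotientGroup.eq_one_iff _).mpr (hN (Subgroup.mem_sup_left (pow_mem_pw (Subgroup.mem_top x))))
  have hC : commutator (E ⧸ N) = (commutator E).map π := by
    rw [commutator_def, commutator_def, Subgroup.map_commutator, Subgroup.map_top_of_surjective π hs]
  have hΦ : (frattini E).map π = commutator (E ⧸ N) := by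
    rw [hC]
    refine le_antisymm ?_ (Subgroup.map_mono (CfsgLib.PGroup.commutator_le_frattini hP))
    rw [Subgroup.map_le_iff_le_comap]
    refine CfsgLib.PGroup.frattini_le_of (p := p) _ (Subgroup.le_comap_map π (commutator E)) fun x => ?_
    show π (x ^ p) ∈ (commutator E).map π
    rw [map_pow, hexp]; exact one_mem _
  have hcen : commutator (E ⧸ N) ≤ Subgroup.center (E ⧸ N) := by
    rw [← hΦ]
    rintro _ ⟨z, hz, rfl⟩
    refine Subgroup.mem_center_iff.mpr fun q => ?_
    obtain ⟨q, rfl⟩ := hs q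
    refine (commutatorElement_eq_one_iff_mul_comm.mp ?_).symm
    rw [← map_commutatorElement]
    exact (QuotientGroup.eq_one_iff _).mpr (hN (Subgroup.mem_sup_right
      (Subgroup.commutator_mem_commutator hz (Subgroup.mem_top q))))
  have hi : (commutator (E ⧸ N)).index ≤ p ^ 3 := by
    rw [← hΦ, ← hidx]
    exact Nat.le_of_dvd (Nat.pos_of_ne_zero Subgroup.index_ne_zero_of_finite) (Subgroup.index_map_dvd _ hs)
  rw [hΦ]
  refine card_commutator_le hexp hcen hi (CfsgLib.TwoGroups85.pRankLE_of_section hrk ⊤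
    (π.comp (⊤ : Subgroup E).subtype) ?_)
  intro q
  obtain ⟨q, rfl⟩ := hs q
  exact ⟨⟨q, Subgroup.mem_top q⟩, rfl⟩

/-- If the layer is trivial the Frattini subgroup consists of `p`-th powers. -/
theorem frattini_le_of_layer {E : Type*} [Group E] [Finite E] (hP : IsPGroup p E) (N : Subgroup E) [N.Normal]
    (h : frattini E ≤ N ⊔ ⁅frattini E, ⊤⁆) : frattini E ≤ N :=
  have := hP.isNilpotent
  le_of_le_sup_commutator h

/-- The setting: `E` has index `p` in the `p`-group `K`, its Frattini quotient has order `p³` and carries a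
faithful group with a strongly embedded subgroup, containing the conjugations by `K`. -/
structure Setup (p : ℕ) {K : Type*} [Group K] [Finite K] (E : Subgroup K) [E.Normal] where
  five : 5 ≤ p
  isP : IsPGroup p K
  rank : SectionalPRankLE p 3 K
  index : E.index = p
  rank3 : (frattini E).index = p ^ 3
  X : Type*
  [grp : Group X]
  [fin : Finite X]
  ρ : X →* MulAut (E ⧸ frattini E)
  inj : Function.Injective ρ
  H₀ : Subgroup X
  emb : IsStronglyPEmbedded p H₀
  φ : K →* X
  conj : ∀ (k : K) (e : E), ρ (φ k) (QuotientGroup.mk' (frattini E) e) =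
    QuotientGroup.mk' (frattini E) (MulAut.conjNormal k e)
  lift : ∀ g : X, ∃ a : MulAut E, ∀ e : E, ρ g (QuotientGroup.mk' (frattini E) e) =
    QuotientGroup.mk' (frattini E) (a e)
  ne : ∀ k : K, k ∉ E → φ k ≠ 1

attribute [instance] Setup.grp Setup.fin

variable {K : Type*} [Group K] [Finite K] {E : Subgroup K} [E.Normal] (S : Setup p E)

include S

theorem Setup.isPE : IsPGroup p E := S.isP.to_subgroup E

theorem Setup.rankE : SectionalPRankLE p 3 E := by
  intro H N _
  refine CfsgLib.TwoGroups85.pRankLE_of_section S.rank (H.map E.subtype)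
    ((QuotientGroup.mk' N).comp (H.equivMapOfInjective E.subtype E.subtype_injective).symm.toMonoidHom) ?_
  exact (QuotientGroup.mk'_surjective N).comp (H.equivMapOfInjective E.subtype E.subtype_injective).symm.surjective

theorem Setup.two : p ≠ 2 := fun h => by have := S.five; omega

theorem Setup.exp_quot (v : E ⧸ frattini E) : v ^ p = 1 := by
  obtain ⟨x, rfl⟩ := QuotientGroup.mk'_surjective _ v
  rw [← map_pow]
  exact (QuotientGroup.eq_one_iff _).2 (CfsgLib.PGroup.pow_mem_frattini S.isPE x)

theorem Setup.card_quot : Nat.card (E ⧸ frattini E) = p ^ 3 := by rw [← Subgroup.index_eq_card, S.rank3]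

theorem Setup.range_isP : IsPGroup p S.φ.range := by
  have h := (IsPGroup.of_injective S.isP (⊤ : Subgroup K).subtype Subtype.val_injective).map S.φ
  rwa [← MonoidHom.range_eq_map] at h

theorem Setup.exists_pow (g : K) : ∃ k, S.φ g ^ p ^ k = 1 := by
  obtain ⟨k, hk⟩ := S.isP g
  exact ⟨k, by rw [← map_pow, hk, map_one]⟩

/-- The image of `E`'s Frattini subgroup in `K`. -/
@[nolint unusedArguments]
def Setup.Q : Subgroup K :=
  let _ := S
  (frattini E).map E.subtype

theorem Setup.Q_le : S.Q ≤ E := Subgroup.map_subtype_le _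

theorem Setup.mem_Q {e : E} : (e : K) ∈ S.Q ↔ QuotientGroup.mk' (frattini E) e = 1 := by
  constructor
  · rintro ⟨x, hx, hxe⟩
    exact (QuotientGroup.eq_one_iff _).mpr (Subtype.ext hxe ▸ hx)
  · exact fun h => ⟨e, (QuotientGroup.eq_one_iff _).mp h, rfl⟩

instance Setup.Q_normal : S.Q.Normal := ⟨fun x hx g => by
  obtain ⟨x, hx, rfl⟩ := hx
  exact ⟨MulAut.conjNormal g x, aut_mem_frattini _ hx, MulAut.conjNormal_apply _ _⟩⟩

theorem Setup.card_E : Nat.card E = Nat.card S.Q * p ^ 3 := by
  rw [Setup.Q, Subgroup.card_map_of_injective E.subtype_injective, ← S.rank3, Subgroup.card_mul_index]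

theorem Setup.decomp {y : K} (hy : y ∉ E) (n : K) : ∃ e ∈ E, ∃ j : ℕ, n = e * y ^ j := by
  have hq : Nat.card (K ⧸ E) = p := by rw [← Subgroup.index_eq_card, S.index]
  have hne : QuotientGroup.mk' E y ≠ 1 := fun e => hy ((QuotientGroup.eq_one_iff y).mp e)
  obtain ⟨j, hj⟩ := Submonoid.mem_powers_iff _ _ |>.mp
    (mem_powers_of_prime_card hq hne (g' := QuotientGroup.mk' E n))
  refine ⟨n * (y ^ j)⁻¹, (QuotientGroup.eq_one_iff _).mp ?_, j, by rw [inv_mul_cancel_right]⟩
  show QuotientGroup.mk' E (n * (y ^ j)⁻¹) = 1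
  rw [map_mul, map_inv, map_pow, hj, mul_inv_cancel]

theorem Setup.pow_mem_E (n : K) : n ^ p ∈ E := by
  have h := Subgroup.pow_index_mem E n
  rwa [S.index] at h

/-- The endomorphism `v ↦ v⁻¹ (g v g⁻¹)` of the Frattini quotient is nilpotent of degree three. -/
theorem Setup.nu_cube (g : K) :
    letI := frattiniCommGroup S.isPE
    ∀ v, nu S.ρ (S.φ g) (nu S.ρ (S.φ g) (nu S.ρ (S.φ g) v)) = 1 := by
  let _ := frattiniCommGroup S.isPE
  intro v
  obtain ⟨Z, M, hZM, -, -, h1, h2, h3⟩ := exists_flag S.exp_quot S.card_quot S.ρ S.range_isP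
  have hg : S.φ g ∈ S.φ.range := ⟨g, rfl⟩
  have e1 : nu S.ρ (S.φ g) v ∈ M := h3 _ hg v
  have e2 : nu S.ρ (S.φ g) (nu S.ρ (S.φ g) v) ∈ Z := h2 _ hg _ e1
  rw [nu_apply _ _ (nu S.ρ (S.φ g) (nu S.ρ (S.φ g) v)), h1 _ hg _ e2, inv_mul_cancel]

/-- Multiplying by an element of `E` does not change `p`-th powers modulo the Frattini subgroup. -/
theorem Setup.pow_mul_mem (e : E) (g : K) : ((e : K) * g) ^ p * (g ^ p)⁻¹ ∈ S.Q := by
  let _ := frattiniCommGroup S.isPE
  have hp' : p.Prime := hp.out
  let π := QuotientGroup.mk' (frattini E)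
  set t := S.φ g with ht
  set v := π e with hv
  have h3 := S.nu_cube g v
  rw [← ht] at h3
  have hind : ∀ n : ℕ, ∃ m : E, ((e : K) * g) ^ n = m * g ^ n ∧
      π m = v ^ n * nu S.ρ t v ^ n.choose 2 * nu S.ρ t (nu S.ρ t v) ^ n.choose 3 := by
    intro n
    induction n with
    | zero => exact ⟨1, by simp, by simp⟩
    | succ n ih =>
      obtain ⟨m, hm, hm'⟩ := ih
      refine ⟨e * MulAut.conjNormal g m, ?_, ?_⟩
      · rw [pow_succ', hm, Subgroup.coe_mul, MulAut.conjNormal_apply, pow_succ']
        group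
      · rw [map_mul, ← S.conj, ← ht, hm', map_mul, map_mul, map_pow, map_pow, map_pow, app_eq S.ρ t v,
          app_eq S.ρ t (nu S.ρ t v), app_eq S.ρ t (nu S.ρ t (nu S.ρ t v)), h3, mul_one, ← hv]
        have hA : (n + 1).choose 2 = n + n.choose 2 := by rw [Nat.choose_succ_succ']; simp
        have hB : (n + 1).choose 3 = n.choose 2 + n.choose 3 := Nat.choose_succ_succ' n 2
        rw [hA, hB, pow_succ' v, pow_add, pow_add, mul_pow, mul_pow]
        apply Additive.ofMul.injective
        simp only [ofMul_mul]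
        abel
  obtain ⟨m, hm, hm'⟩ := hind p
  rw [hm, mul_inv_cancel_right, S.mem_Q]
  rw [show QuotientGroup.mk' (frattini E) m = π m from rfl, hm']
  obtain ⟨a, ha⟩ := hp'.dvd_choose_self (k := 2) (by norm_num) (by have := S.five; omega)
  obtain ⟨b, hb⟩ := hp'.dvd_choose_self (k := 3) (by norm_num) (by have := S.five; omega)
  rw [ha, hb, pow_mul, pow_mul, S.exp_quot, S.exp_quot, S.exp_quot, one_pow, one_pow, one_mul, one_mul]

end CfsgLib.FusionRankThree
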