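import Cfsg.Agent.Lib.Fusion.RankThree.Regular
import Cfsg.Agent.Lib.H82.AutFrattini

/-!
The case of a transvection: `E` is fixed by the `p`-automorphisms of `K` coming from a rank three situation.
-/

set_option autoImplicit false
set_option maxHeartbeats 1600000

namespace CfsgLib.FusionRankThree

open Cfsg
open scoped commutatorElement

universe u

variable {p : ℕ} [hp : Fact p.Prime]

theorem dvd_of_zpow_eq {W : Type*} [Group W] {x : W} (hx : x ^ p = 1) (hx1 : x ≠ 1) {i j : ℤ}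
    (h : x ^ i = x ^ j) : (p : ℤ) ∣ i - j := by
  refine zpow_val_eq_one hx hx1 ?_
  rw [zpow_sub, h, mul_inv_cancel]

theorem zpow_congr {W : Type*} [Group W] {x : W} (hx : x ^ p = 1) {i j : ℤ}
    (h : (p : ℤ) ∣ i - j) : x ^ i = x ^ j := by
  obtain ⟨q, hq⟩ := h
  rw [show i = (p : ℤ) * q + j by linarith, zpow_add, zpow_mul, zpow_natCast, hx, one_zpow, one_mul]

/-- A scalar of order `p - 1`. -/
theorem exists_scalar (h5 : 5 ≤ p) : ∃ L L' : ℤ, (p : ℤ) ∣ L * L' - 1 ∧ ¬ (p : ℤ) ∣ L - 1 ∧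
    ¬ (p : ℤ) ∣ L ^ 2 - 1 ∧ ¬ (p : ℤ) ∣ L ^ 3 - 1 ∧ ¬ (p : ℤ) ∣ L ^ 5 - 1 := by
  have hp' : p.Prime := hp.out
  obtain ⟨g, hg⟩ := (inferInstance : IsCyclic (ZMod p)ˣ).exists_generator
  have ho : orderOf g = p - 1 := by
    rw [orderOf_eq_card_of_forall_mem_zpowers hg, Nat.card_units, Nat.card_zmod]
  refine ⟨((g : ZMod p).val : ℤ), (((g⁻¹ : (ZMod p)ˣ) : ZMod p).val : ℤ), ?_, ?_⟩
  · rw [← ZMod.intCast_zmod_eq_zero_iff_dvd]
    push_cast
    rw [ZMod.natCast_zmod_val, ZMod.natCast_zmod_val, mul_inv_cancel₀ (Units.ne_zero g), sub_self]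
  have key : ∀ n : ℕ, (p : ℤ) ∣ ((g : ZMod p).val : ℤ) ^ n - 1 → p - 1 ∣ n := fun n h => by
    rw [← ho]
    refine orderOf_dvd_of_pow_eq_one (Units.ext ?_)
    rw [← ZMod.intCast_zmod_eq_zero_iff_dvd] at h
    push_cast at h
    rw [ZMod.natCast_zmod_val] at h
    rw [Units.val_pow_eq_pow_val, Units.val_one]
    exact sub_eq_zero.mp h
  refine ⟨fun h => ?_, fun h => ?_, fun h => ?_, fun h => ?_⟩
  · have := Nat.le_of_dvd (by norm_num) (key 1 (by rwa [pow_one])); omega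
  · have := Nat.le_of_dvd (by norm_num) (key 2 h); omega
  · have := Nat.le_of_dvd (by norm_num) (key 3 h); omega
  · rcases (Nat.dvd_prime Nat.prime_five).mp (key 5 h) with h1 | h1
    · omega
    · have : p = 6 := by omega
      exact absurd (this ▸ hp') (by norm_num)

/-- Moving the fixed line of a `p`-element onto an eigenline of a semisimple one. -/
theorem exists_conj_fix {W : Type*} [CommGroup W] [Finite W] (hW : ∀ w : W, w ^ p = 1)
    (hc : Nat.card W = p ^ 2) {G : Type*} [Group G] [Finite G] (ψ : G →* MulAut W) {e₀ b₀ : W} (he : e₀ ≠ 1)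
    (hb : b₀ ∉ Subgroup.zpowers e₀) {β : G} {i j : ℤ} (hβe : ψ β e₀ = e₀ ^ i) (hβb : ψ β b₀ = b₀ ^ j)
    (hij : ¬ (p : ℤ) ∣ i - j) {ξ : G} {k : ℕ} (hξ : ξ ^ p ^ k = 1)
    (hmove : ψ ξ e₀ ∉ Subgroup.zpowers e₀) :
    ∃ g ∈ Subgroup.closure ({β, ξ} : Set G), ψ (g * ξ * g⁻¹) b₀ = b₀ ∧
      ψ (g * ξ * g⁻¹) e₀ ∉ Subgroup.zpowers e₀ := by
  have hp' : p.Prime := hp.out
  have hb1 : b₀ ≠ 1 := fun h => hb (h ▸ one_mem _)
  have hord : ∀ w : W, w ≠ 1 → Nat.card (Subgroup.zpowers w) = p := fun w hw => by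
    rw [Nat.card_zpowers, orderOf_eq_prime (hW w) hw]
  have hspan : ∀ u v : W, u ≠ 1 → v ∉ Subgroup.zpowers u → ∀ w, ∃ a c : ℤ, w = u ^ a * v ^ c := by
    intro u v hu hv w
    have htop : Subgroup.zpowers u ⊔ Subgroup.zpowers v = ⊤ := by
      refine Subgroup.eq_top_of_le_card _ ?_
      have := CfsgLib.FusionFourth.card_lt_mul (p := p) (K := W) hc (lt_of_le_of_ne
        (le_sup_left : Subgroup.zpowers u ≤ Subgroup.zpowers u ⊔ Subgroup.zpowers v)
        fun e => hv (e.symm ▸ Subgroup.mem_sup_right (Subgroup.mem_zpowers v)))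
      rw [hord u hu, ← pow_two] at this
      rwa [hc]
    obtain ⟨_, ⟨a, rfl⟩, _, ⟨c, rfl⟩, h⟩ := Subgroup.mem_sup_of_normal_left.mp (htop.ge (Subgroup.mem_top w))
    exact ⟨a, c, h.symm⟩
  -- a `p`-element fixing two lines is trivial
  have htriv : ∀ (u : G) (k : ℕ), u ^ p ^ k = 1 → ∀ l : W, l ≠ 1 → ψ u l ∈ Subgroup.zpowers l → ψ u l = l := by
    intro u k hu l hl h
    refine fix_line hu (hord l hl) ?_ l (Subgroup.mem_zpowers l)
    rintro _ ⟨a, rfl⟩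
    show ψ u (l ^ a) ∈ _
    rw [map_zpow]; exact Subgroup.zpow_mem _ h a
  -- the fixed line of `ξ`
  obtain ⟨l, -, hl1, hl⟩ := exists_fixed hW ψ (T := Subgroup.zpowers ξ) (I := (⊤ : Subgroup W))
    (IsPGroup.of_card_dvd_pow (n := k) (by rw [Nat.card_zpowers]; exact orderOf_dvd_of_pow_eq_one hξ))
    (fun e => he (Subgroup.mem_bot.mp (e ▸ Subgroup.mem_top e₀))) (fun _ _ _ _ => Subgroup.mem_top _)
  have hξl : ψ ξ l = l := hl ξ (Subgroup.mem_zpowers ξ)
  have hle : ∀ a : ℤ, l ≠ e₀ ^ a := fun a ha => by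
    refine hmove ?_
    have ha' : ¬ (p : ℤ) ∣ a := fun ⟨q, hq⟩ => hl1 (by rw [ha, hq, zpow_mul, zpow_natCast, hW, one_zpow])
    have hco : IsCoprime a (p : ℤ) := by
      rw [Int.isCoprime_iff_gcd_eq_one, Int.gcd_comm]
      exact (Nat.Prime.coprime_iff_not_dvd hp').mpr fun hd => ha' (Int.natCast_dvd.mpr hd)
    obtain ⟨s, q, hsq⟩ := hco
    have : e₀ = l ^ s := by
      rw [ha, ← zpow_mul]
      conv_lhs => rw [← zpow_one e₀]
      exact zpow_congr (hW e₀) ⟨q, by linarith⟩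
    rw [this, map_zpow, hξl]; exact Subgroup.mem_zpowers _
  by_cases hlb : ψ ξ b₀ = b₀
  · exact ⟨1, one_mem _, by simpa using hlb, by simpa using hmove⟩
  have hlb' : ∀ a : ℤ, l ≠ b₀ ^ a := fun a ha => by
    refine hlb ?_
    have ha' : ¬ (p : ℤ) ∣ a := fun ⟨q, hq⟩ => hl1 (by rw [ha, hq, zpow_mul, zpow_natCast, hW, one_zpow])
    have hco : IsCoprime a (p : ℤ) := by
      rw [Int.isCoprime_iff_gcd_eq_one, Int.gcd_comm]
      exact (Nat.Prime.coprime_iff_not_dvd hp').mpr fun hd => ha' (Int.natCast_dvd.mpr hd)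
    obtain ⟨s, q, hsq⟩ := hco
    have : b₀ = l ^ s := by
      rw [ha, ← zpow_mul]
      conv_lhs => rw [← zpow_one b₀]
      exact zpow_congr (hW b₀) ⟨q, by linarith⟩
    rw [this, map_zpow, hξl]
  set ξ₁ := β * ξ * β⁻¹ with hξ₁
  set l₀ := ψ β l with hl₀
  have hl₀1 : l₀ ≠ 1 := fun h => hl1 ((ψ β).injective (h.trans (map_one _).symm))
  have hll₀ : l₀ ∉ Subgroup.zpowers l := by
    rintro ⟨m, hm⟩
    obtain ⟨x, z, hxz⟩ := hspan e₀ b₀ he hb l
    have h1 : e₀ ^ (i * x) * b₀ ^ (j * z) = e₀ ^ (x * m) * b₀ ^ (z * m) := by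
      have : l₀ = l ^ m := hm.symm
      rw [hl₀, hxz, map_mul, map_zpow, map_zpow, hβe, hβb, mul_zpow, ← zpow_mul, ← zpow_mul, ← zpow_mul,
        ← zpow_mul] at this
      exact this
    have hindep : ∀ u v : ℤ, e₀ ^ u * b₀ ^ v = 1 → (p : ℤ) ∣ u ∧ (p : ℤ) ∣ v := by
      intro u v h
      have hv : (p : ℤ) ∣ v := by
        by_contra hv
        have hco : IsCoprime v (p : ℤ) := by
          rw [Int.isCoprime_iff_gcd_eq_one, Int.gcd_comm]
          exact (Nat.Prime.coprime_iff_not_dvd hp').mpr fun hd => hv (Int.natCast_dvd.mpr hd)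
        obtain ⟨s, q, hsq⟩ := hco
        refine hb ⟨-u * s, ?_⟩
        show e₀ ^ (-u * s) = b₀
        rw [zpow_mul, zpow_neg, inv_eq_of_mul_eq_one_right h, ← zpow_mul]
        conv_rhs => rw [← zpow_one b₀]
        exact zpow_congr (hW b₀) ⟨-q, by linarith⟩
      refine ⟨?_, hv⟩
      rw [zpow_congr (hW b₀) (show (p : ℤ) ∣ v - 0 by simpa using hv), zpow_zero, mul_one] at h
      exact zpow_val_eq_one (hW _) he h
    have h2 := hindep (i * x - x * m) (j * z - z * m) (by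
      rw [zpow_sub, zpow_sub, mul_mul_mul_comm, h1, ← mul_inv, mul_inv_cancel])
    have hx : ¬ (p : ℤ) ∣ x := fun hx => hlb' z (by
      rw [hxz, zpow_congr (hW e₀) (show (p : ℤ) ∣ x - 0 by simpa using hx), zpow_zero, one_mul])
    have hz : ¬ (p : ℤ) ∣ z := fun hz => hle x (by
      rw [hxz, zpow_congr (hW b₀) (show (p : ℤ) ∣ z - 0 by simpa using hz), zpow_zero, mul_one])
    have hpi := Nat.prime_iff_prime_int.mp hp'
    have h3 : (p : ℤ) ∣ i - m := by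
      rcases hpi.dvd_or_dvd (show (p : ℤ) ∣ x * (i - m) by rw [mul_sub, mul_comm x i]; exact h2.1) with h | h
      · exact absurd h hx
      · exact h
    have h4 : (p : ℤ) ∣ j - m := by
      rcases hpi.dvd_or_dvd (show (p : ℤ) ∣ z * (j - m) by rw [mul_sub, mul_comm z j]; exact h2.2) with h | h
      · exact absurd h hz
      · exact h
    exact hij (by have := dvd_sub h3 h4; rwa [sub_sub_sub_cancel_right] at this)
  have hξ₁k : ξ₁ ^ p ^ k = 1 := by rw [hξ₁, conj_pow, hξ, mul_one, mul_inv_cancel]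
  have hξ₁l₀ : ψ ξ₁ l₀ = l₀ := by
    rw [hξ₁, hl₀, ← MulAut.mul_apply, ← map_mul, inv_mul_cancel_right, map_mul, MulAut.mul_apply, hξl]
  -- `ξ₁` translates the other lines
  have hL₀ : Nat.card (Subgroup.zpowers l₀) = p := hord _ hl₀1
  have hstep : ∀ w, w⁻¹ * ψ ξ₁ w ∈ Subgroup.zpowers l₀ := fun w => by
    refine CfsgLib.FusionFlag.stabilizes_step (p := p) (K := Subgroup.zpowers l₀) le_top
      (by rw [Subgroup.card_top, hc, hL₀, pow_two]) (u := ψ ξ₁) (k := k) (by rw [← map_pow, hξ₁k, map_one])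
      (fun _ _ => Subgroup.mem_top _) (fun y hy => ?_) w (Subgroup.mem_top _)
    obtain ⟨a, rfl⟩ := hy
    show ψ ξ₁ (l₀ ^ a) ∈ _
    rw [map_zpow, hξ₁l₀]; exact Subgroup.zpow_mem _ (Subgroup.mem_zpowers _) _
  set d := l⁻¹ * ψ ξ₁ l with hd
  have hd1 : d ≠ 1 := by
    intro h
    have hfix : ψ ξ₁ l = l := (inv_mul_eq_one.mp h).symm
    -- then `ξ₁` is trivial, hence so is `ξ`
    have hall : ∀ w, ψ ξ₁ w = w := fun w => by
      obtain ⟨a, c, rfl⟩ := hspan l l₀ hl1 hll₀ w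
      rw [map_mul, map_zpow, map_zpow, hfix, hξ₁l₀]
    refine hmove ?_
    have := hall (ψ β e₀)
    rw [hξ₁, ← MulAut.mul_apply, ← map_mul, inv_mul_cancel_right, map_mul, MulAut.mul_apply] at this
    rw [(ψ β).injective this]; exact Subgroup.mem_zpowers _
  obtain ⟨a, c, hac⟩ := hspan l₀ l hl₀1 (fun h => hll₀ (by
    obtain ⟨m, hm⟩ := h
    have hm' : ¬ (p : ℤ) ∣ m := fun ⟨q, hq⟩ => hl1 (by
      rw [← hm]; show l₀ ^ m = 1; rw [hq, zpow_mul, zpow_natCast, hW, one_zpow])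
    have hco : IsCoprime m (p : ℤ) := by
      rw [Int.isCoprime_iff_gcd_eq_one, Int.gcd_comm]
      exact (Nat.Prime.coprime_iff_not_dvd hp').mpr fun hd => hm' (Int.natCast_dvd.mpr hd)
    obtain ⟨s, q, hsq⟩ := hco
    refine ⟨s, ?_⟩
    show l ^ s = l₀
    rw [← hm, ← zpow_mul]
    conv_rhs => rw [← zpow_one l₀]
    exact zpow_congr (hW _) ⟨-q, by linarith⟩)) b₀
  have hc0 : ¬ (p : ℤ) ∣ c := by
    intro hcd
    rw [zpow_congr (hW l) (show (p : ℤ) ∣ c - 0 by simpa using hcd), zpow_zero, mul_one] at hac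
    -- `b₀` would span the fixed line of `ξ₁`
    have h : ψ ξ₁ b₀ = b₀ := by rw [hac, map_zpow, hξ₁l₀]
    refine hlb ?_
    rw [hξ₁, map_mul, map_mul, MulAut.mul_apply, MulAut.mul_apply, map_inv] at h
    have h2 : (ψ β)⁻¹ b₀ ∈ Subgroup.zpowers b₀ := by
      have hj : ¬ (p : ℤ) ∣ j := fun ⟨q, hq⟩ => hb1 ((ψ β).injective (by
        rw [hβb, hq, zpow_mul, zpow_natCast, hW, one_zpow, map_one]))
      have hco : IsCoprime j (p : ℤ) := by
        rw [Int.isCoprime_iff_gcd_eq_one, Int.gcd_comm]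
        exact (Nat.Prime.coprime_iff_not_dvd hp').mpr fun hd => hj (Int.natCast_dvd.mpr hd)
      obtain ⟨s, q, hsq⟩ := hco
      refine ⟨s, (ψ β).injective ?_⟩
      show ψ β (b₀ ^ s) = ψ β ((ψ β)⁻¹ b₀)
      rw [map_zpow, hβb, ← zpow_mul, MulAut.apply_inv_self]
      conv_rhs => rw [← zpow_one b₀]
      exact zpow_congr (hW _) ⟨-q, by linarith⟩
    obtain ⟨s, hs⟩ := h2
    have h3 : ψ β (ψ ξ ((ψ β)⁻¹ b₀)) = ψ β ((ψ β)⁻¹ b₀) := by rw [h, MulAut.apply_inv_self]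
    have h4 := (ψ β).injective h3
    rw [← hs] at h4
    have hs1 : ¬ (p : ℤ) ∣ s := fun ⟨q, hq⟩ => hb1 (by
      have : (ψ β)⁻¹ b₀ = 1 := by
        rw [← hs]; show b₀ ^ s = 1
        rw [hq, zpow_mul, zpow_natCast, hW, one_zpow]
      have := congrArg (ψ β) this
      rwa [MulAut.apply_inv_self, map_one] at this)
    have hco : IsCoprime s (p : ℤ) := by
      rw [Int.isCoprime_iff_gcd_eq_one, Int.gcd_comm]
      exact (Nat.Prime.coprime_iff_not_dvd hp').mpr fun hd => hs1 (Int.natCast_dvd.mpr hd)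
    obtain ⟨s', q, hsq⟩ := hco
    have hb' : b₀ = (b₀ ^ s) ^ s' := by
      rw [← zpow_mul]
      conv_lhs => rw [← zpow_one b₀]
      exact zpow_congr (hW _) ⟨q, by linarith⟩
    conv_lhs => rw [hb']
    rw [map_zpow, show ψ ξ (b₀ ^ s) = b₀ ^ s from h4, ← hb']
  obtain ⟨n, hn⟩ : ∃ n : ℕ, ψ (ξ₁ ^ n) l = l₀ ^ a * l ^ c * l ^ (1 - c) := by
    obtain ⟨m, hm⟩ : l₀ ^ a ∈ Subgroup.zpowers d := by
      rw [zpow_gen hL₀ (hstep l) hd1]; exact Subgroup.zpow_mem _ (Subgroup.mem_zpowers _) a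
    refine ⟨(m % p).toNat, ?_⟩
    have hdd : ψ ξ₁ d = d := by
      obtain ⟨q, hq⟩ := hstep l
      rw [hd, ← hq]
      show ψ ξ₁ (l₀ ^ q) = l₀ ^ q
      rw [map_zpow, hξ₁l₀]
    rw [app_pow ψ ξ₁ (v := l) (by rw [nu_apply]; exact hdd), nu_apply, ← hd, ← zpow_natCast,
      Int.toNat_of_nonneg (Int.emod_nonneg _ (by exact_mod_cast hp'.ne_zero)),
      zpow_congr (hW d) (show (p : ℤ) ∣ m % p - m from (Int.ModEq.dvd (Int.mod_modEq m p).symm)),
      show d ^ m = l₀ ^ a from hm, mul_assoc, ← zpow_add, add_sub_cancel, zpow_one, mul_comm]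
  -- rescale: the image of a suitable multiple of `l` spans the line of `b₀`
  have hco : IsCoprime c (p : ℤ) := by
    rw [Int.isCoprime_iff_gcd_eq_one, Int.gcd_comm]
    exact (Nat.Prime.coprime_iff_not_dvd hp').mpr fun hd => hc0 (Int.natCast_dvd.mpr hd)
  obtain ⟨s, q, hsq⟩ := hco
  obtain ⟨N, hN⟩ : ∃ N : ℕ, ψ (ξ₁ ^ N) l = l₀ ^ (a * s) * l := by
    obtain ⟨m, hm⟩ : l₀ ^ (a * s) ∈ Subgroup.zpowers d := by
      rw [zpow_gen hL₀ (hstep l) hd1]; exact Subgroup.zpow_mem _ (Subgroup.mem_zpowers _) _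
    refine ⟨(m % p).toNat, ?_⟩
    have hdd : ψ ξ₁ d = d := by
      obtain ⟨q, hq⟩ := hstep l
      rw [hd, ← hq]
      show ψ ξ₁ (l₀ ^ q) = l₀ ^ q
      rw [map_zpow, hξ₁l₀]
    rw [app_pow ψ ξ₁ (v := l) (by rw [nu_apply]; exact hdd), nu_apply, ← hd, ← zpow_natCast,
      Int.toNat_of_nonneg (Int.emod_nonneg _ (by exact_mod_cast hp'.ne_zero)),
      zpow_congr (hW d) (show (p : ℤ) ∣ m % p - m from (Int.ModEq.dvd (Int.mod_modEq m p).symm)),
      show d ^ m = l₀ ^ (a * s) from hm, mul_comm]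
  clear hn n
  set g := ξ₁ ^ N with hg
  have hgb : ψ g (l ^ c) = b₀ := by
    rw [map_zpow, hg, hN, mul_zpow, ← zpow_mul, hac,
      zpow_congr (hW l₀) (show (p : ℤ) ∣ a * s * c - a from ⟨-(a * q), by linear_combination a * hsq⟩)]
  refine ⟨g, ?_, ?_, ?_⟩
  · have hβm : β ∈ Subgroup.closure ({β, ξ} : Set G) := Subgroup.subset_closure (Or.inl rfl)
    have hξm : ξ ∈ Subgroup.closure ({β, ξ} : Set G) := Subgroup.subset_closure (Or.inr rfl)
    exact Subgroup.pow_mem _ (Subgroup.mul_mem _ (Subgroup.mul_mem _ hβm hξm) (Subgroup.inv_mem _ hβm)) N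
  · conv_lhs => rw [← hgb]
    rw [← MulAut.mul_apply, ← map_mul, inv_mul_cancel_right, map_mul, MulAut.mul_apply, map_zpow (ψ ξ), hξl, hgb]
  · intro hmem
    have hgk : (g * ξ * g⁻¹) ^ p ^ k = 1 := by rw [conj_pow, hξ, mul_one, mul_inv_cancel]
    have hfix := htriv _ k hgk e₀ he hmem
    have hb' : ψ (g * ξ * g⁻¹) b₀ = b₀ := by
      conv_lhs => rw [← hgb]
      rw [← MulAut.mul_apply, ← map_mul, inv_mul_cancel_right, map_mul, MulAut.mul_apply, map_zpow (ψ ξ), hξl, hgb]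
    have hall : ∀ w, ψ (g * ξ * g⁻¹) w = w := fun w => by
      obtain ⟨x, z, rfl⟩ := hspan e₀ b₀ he hb w
      rw [map_mul (ψ (g * ξ * g⁻¹)), map_zpow, map_zpow, hfix, hb']
    refine hmove ?_
    have := hall (ψ g e₀)
    rw [← MulAut.mul_apply, ← map_mul, inv_mul_cancel_right, map_mul, MulAut.mul_apply] at this
    rw [(ψ g).injective this]; exact Subgroup.mem_zpowers _

/-- The automorphisms stabilising a series. -/
def seriesStab {W : Type*} [Group W] [Finite W] (L : ℕ → Subgroup W) (n : ℕ) (hL : ∀ i < n, L i ≤ L (i + 1)) :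
    Subgroup (MulAut W) where
  carrier := {u | ∀ i < n, ∀ x ∈ L (i + 1), x⁻¹ * u x ∈ L i}
  one_mem' := fun i _ x _ => by simp
  mul_mem' := by
    intro a b ha hb i hi x hx
    have hbx : b x ∈ L (i + 1) := by
      have := (L (i + 1)).mul_mem hx (hL i hi (hb i hi x hx))
      rwa [mul_inv_cancel_left] at this
    have := (L i).mul_mem (hb i hi x hx) (ha i hi _ hbx)
    rwa [mul_assoc, mul_inv_cancel_left] at this
  inv_mem' := by
    intro a ha i hi x hx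
    have hfwd : ∀ z : L (i + 1), a z ∈ L (i + 1) := fun z => by
      have := (L (i + 1)).mul_mem z.2 (hL i hi (ha i hi z z.2))
      rwa [mul_inv_cancel_left] at this
    obtain ⟨z, hz⟩ := Finite.surjective_of_injective (f := fun z : L (i + 1) => (⟨a z, hfwd z⟩ : L (i + 1)))
      (fun u v h => Subtype.ext (a.injective (congrArg Subtype.val h))) ⟨x, hx⟩
    have hzx : a (z : W) = x := congrArg Subtype.val hz
    have h := (L i).inv_mem (ha i hi z z.2)
    rw [mul_inv_rev, inv_inv, hzx] at h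
    rwa [← hzx, MulAut.inv_apply_self, hzx]

theorem mem_seriesStab {W : Type*} [Group W] [Finite W] {L : ℕ → Subgroup W} {n : ℕ}
    {hL : ∀ i < n, L i ≤ L (i + 1)} {u : MulAut W} :
    u ∈ seriesStab L n hL ↔ ∀ i < n, ∀ x ∈ L (i + 1), x⁻¹ * u x ∈ L i := Iff.rfl

end CfsgLib.FusionRankThree
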