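import Cfsg.Agent.Lib.Fusion.RankThree.Transvection

/-!
The case of a transvection: `E` is fixed by the available `p`-automorphisms of `K`.
-/

set_option autoImplicit false
set_option maxHeartbeats 3200000

namespace CfsgLib.FusionRankThree

open Cfsg
open scoped commutatorElement

universe u

variable {p : ℕ} [hp : Fact p.Prime] {K : Type u} [Group K] [Finite K] {E : Subgroup K} [E.Normal]

omit [Finite K] in
theorem prime_dvd_cases {i j : ℤ} (h : (p : ℤ) ∣ i * j) (hj : ¬ (p : ℤ) ∣ j) : (p : ℤ) ∣ i :=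
  ((Nat.prime_iff_prime_int.mp hp.out).dvd_or_dvd h).resolve_right hj

/-- The transvection case: no `p`-automorphism from `B` moves `E`. -/
theorem false_of_transvection (S : Setup p E) {y : K} (hy : y ∉ E)
    (hr : letI := frattiniCommGroup S.isPE; Nat.card (nu S.ρ (S.φ y)).range = p)
    (B : Subgroup (MulAut K))
    (hext : ∀ g : S.X, (∀ x ∈ S.φ.range, g * x * g⁻¹ ∈ S.φ.range) → ∃ β ∈ B, ∀ e : E, ∃ h : β e ∈ E,
      S.ρ g (QuotientGroup.mk' (frattini E) e) = QuotientGroup.mk' (frattini E) ⟨β e, h⟩)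
    (hinner : ∀ k, MulAut.conj k ∈ B)
    (hM : ∀ U : Subgroup (MulAut K), U ≤ B → IsPGroup p U → (∀ k, MulAut.conj k ∈ U) → ∀ β ∈ B,
      (∀ u ∈ U, β * u * β⁻¹ ∈ U) →
      ∃ (M : Type u) (_ : Group M) (_ : Finite M) (ι : K →* M) (c : M →* MulAut K) (β' : MulAut M),
        IsPGroup p M ∧ SectionalPRankLE p 3 M ∧ Function.Injective ι ∧
        (∀ m k, m * ι k * m⁻¹ = ι (c m k)) ∧ c.range = U ∧
        (∀ m, (∀ e ∈ E, c m e ∈ E) → m ∈ ι.range) ∧ ∀ k, β' (ι k) = ι (β k))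
    (ξ : MulAut K) (hξB : ξ ∈ B) {k₀ : ℕ} (hξ : ξ ^ p ^ k₀ = 1) (hne : E.map ξ.toMonoidHom ≠ E) : False := by
  let _ := frattiniCommGroup S.isPE
  have hp' : p.Prime := hp.out
  have hpi := Nat.prime_iff_prime_int.mp hp'
  have hP := S.isP
  have hPE := S.isPE
  set π := QuotientGroup.mk' (frattini E) with hπ
  have hπs : Function.Surjective π := QuotientGroup.mk'_surjective _
  have hπ1 : ∀ x : E, π x = 1 ↔ x ∈ frattini E := fun x => QuotientGroup.eq_one_iff x
  have hV := S.exp_quot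
  set t := S.φ y with ht
  obtain ⟨l₀, hl₀⟩ := S.exists_pow y
  -- the conjugations by `E` are trivial on the quotient
  have hφE : ∀ e ∈ E, S.φ e = 1 := fun e he => S.inj (MulEquiv.ext fun v => by
    obtain ⟨x, rfl⟩ := hπs v
    rw [S.conj, map_one, MulAut.one_apply]
    show π _ = π x
    rw [show MulAut.conjNormal e x = (⟨e, he⟩ : E) * x * (⟨e, he⟩ : E)⁻¹ from
      Subtype.ext (MulAut.conjNormal_apply _ _), map_mul, map_mul, map_inv, mul_comm (π ⟨e, he⟩),
      mul_inv_cancel_right])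
  have ht1 : t ≠ 1 := S.ne y hy
  have htp : t ^ p = 1 := by rw [ht, ← map_pow]; exact hφE _ (S.pow_mem_E y)
  obtain ⟨a, b, c, hgen, hta, htb, htc, ⟨s, hsa, hsb, hsc⟩, htorus⟩ :=
    transvection_torus hV S.card_quot S.ρ S.inj S.emb hl₀ hr
  replace hta : S.ρ t a = a := hta
  replace htb : S.ρ t b = b * a := htb
  replace htc : S.ρ t c = c := htc
  replace hsa : S.ρ s a = a * b := hsa
  replace hsb : S.ρ s b = b := hsb
  replace hsc : S.ρ s c = c := hsc
  -- endomorphisms are determined on `a`, `b`, `c`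
  have hextV : ∀ f g : (E ⧸ frattini E) →* (E ⧸ frattini E), f a = g a → f b = g b → f c = g c → f = g := by
    intro f g h1 h2 h3
    refine MonoidHom.eq_of_eqOn_dense hgen ?_
    rintro x (rfl | rfl | rfl) <;> assumption
  have ha1 : a ≠ 1 := fun h => ht1 (S.inj (MulEquiv.ext fun v => by
    have := hextV (S.ρ t).toMonoidHom (MonoidHom.id _) hta (by show S.ρ t b = b; rw [htb, h, mul_one]) htc
    rw [map_one, MulAut.one_apply]
    exact DFunLike.congr_fun this v))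
  have hb1 : b ≠ 1 := fun h => ha1 (by rw [h, map_one, one_mul] at htb; exact htb.symm)
  have hcard3 : ∀ u v : E ⧸ frattini E, Subgroup.closure ({u, v} : Set (E ⧸ frattini E)) ≠ ⊤ := by
    intro u v h
    have hle : Subgroup.closure ({u, v} : Set (E ⧸ frattini E)) ≤ Subgroup.zpowers u ⊔ Subgroup.zpowers v := by
      rw [Subgroup.closure_le]
      rintro x (rfl | rfl)
      · exact Subgroup.mem_sup_left (Subgroup.mem_zpowers x)
      · exact Subgroup.mem_sup_right (Subgroup.mem_zpowers x)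
    let f : Subgroup.zpowers u × Subgroup.zpowers v →* E ⧸ frattini E :=
      MonoidHom.noncommCoprod (Subgroup.zpowers u).subtype (Subgroup.zpowers v).subtype fun _ _ => Commute.all _ _
    have hf : f.range = ⊤ := by
      refine top_le_iff.mp ?_
      rw [← h]
      refine hle.trans (le_of_eq ?_)
      exact ((MonoidHom.noncommCoprod_range _ _ _).trans (by rw [Subgroup.range_subtype, Subgroup.range_subtype])).symm
    have h2 := Nat.le_of_dvd Nat.card_pos (Subgroup.card_range_dvd f)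
    rw [hf, Subgroup.card_top, S.card_quot, Nat.card_prod, Nat.card_zpowers, Nat.card_zpowers] at h2
    have e1 : orderOf u ≤ p := Nat.le_of_dvd hp'.pos (orderOf_dvd_of_pow_eq_one (hV u))
    have e2 : orderOf v ≤ p := Nat.le_of_dvd hp'.pos (orderOf_dvd_of_pow_eq_one (hV v))
    have := h2.trans (Nat.mul_le_mul e1 e2)
    rw [← pow_two] at this
    exact absurd ((Nat.pow_le_pow_iff_right hp'.one_lt).mp this) (by norm_num)
  have hc1 : c ≠ 1 := fun h => hcard3 a b (top_le_iff.mp (hgen.ge.trans (by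
    rw [Subgroup.closure_le]
    rintro x (rfl | rfl | rfl)
    · exact Subgroup.subset_closure (by simp)
    · exact Subgroup.subset_closure (by simp)
    · rw [h]; exact one_mem _)))
  have hindep : ∀ i j k : ℤ, a ^ i * b ^ j * c ^ k = 1 → (p : ℤ) ∣ i ∧ (p : ℤ) ∣ j ∧ (p : ℤ) ∣ k := by
    intro i j k h
    have h1 : a ^ j = 1 := by
      have := congrArg (fun v => v⁻¹ * S.ρ t v) h
      simp only [map_mul, map_zpow, hta, htb, htc, mul_zpow, map_one, inv_one, one_mul, inv_mul_eq_one] at this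
      apply Additive.ofMul.injective
      have h' := congrArg Additive.ofMul this
      simp only [ofMul_mul, ofMul_inv, ofMul_one, ofMul_zpow] at h' ⊢
      rw [← sub_eq_zero] at h'
      rw [← neg_eq_zero, ← h']
      abel
    have hj : (p : ℤ) ∣ j := zpow_val_eq_one (hV _) ha1 h1
    have h2 : b ^ i = 1 := by
      have := congrArg (fun v => v⁻¹ * S.ρ s v) h
      simp only [map_mul, map_zpow, hsa, hsb, hsc, mul_zpow, map_one, inv_one, one_mul, inv_mul_eq_one] at this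
      apply Additive.ofMul.injective
      have h' := congrArg Additive.ofMul this
      simp only [ofMul_mul, ofMul_inv, ofMul_one, ofMul_zpow] at h' ⊢
      rw [← sub_eq_zero] at h'
      rw [← neg_eq_zero, ← h']
      abel
    have hi : (p : ℤ) ∣ i := zpow_val_eq_one (hV _) hb1 h2
    refine ⟨hi, hj, ?_⟩
    rw [zpow_congr (hV a) (show (p : ℤ) ∣ i - 0 by simpa using hi),
      zpow_congr (hV b) (show (p : ℤ) ∣ j - 0 by simpa using hj), zpow_zero, zpow_zero, one_mul, one_mul] at h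
    exact zpow_val_eq_one (hV _) hc1 h
  have hspan : ∀ v : E ⧸ frattini E, ∃ i j k : ℤ, v = a ^ i * b ^ j * c ^ k := by
    intro v
    have hv : v ∈ Subgroup.closure ({a, b, c} : Set (E ⧸ frattini E)) := hgen ▸ Subgroup.mem_top v
    induction hv using Subgroup.closure_induction with
    | mem x hx =>
      rcases hx with rfl | rfl | rfl
      · exact ⟨1, 0, 0, by simp⟩
      · exact ⟨0, 1, 0, by simp⟩
      · exact ⟨0, 0, 1, by simp⟩
    | one => exact ⟨0, 0, 0, by simp⟩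
    | mul x z _ _ hx hz =>
      obtain ⟨i, j, k, rfl⟩ := hx
      obtain ⟨i', j', k', rfl⟩ := hz
      exact ⟨i + i', j + j', k + k', by simp only [zpow_add]; ac_rfl⟩
    | inv x _ hx =>
      obtain ⟨i, j, k, rfl⟩ := hx
      exact ⟨-i, -j, -k, by simp only [zpow_neg, mul_inv]⟩
  -- the semisimple element
  obtain ⟨L, L', hLL, hL1, hL2, hL3, hL5⟩ := exists_scalar (p := p) S.five
  have hL0 : ¬ (p : ℤ) ∣ L := fun h => hpi.not_dvd_one (by
    have := dvd_sub (dvd_mul_of_dvd_left h L') hLL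
    rwa [sub_sub_cancel] at this)
  obtain ⟨h, hha, hhb, hhc⟩ := htorus L L' hLL
  replace hha : S.ρ h a = a ^ L := hha
  replace hhb : S.ρ h b = b ^ L' := hhb
  replace hhc : S.ρ h c = c := hhc
  obtain ⟨n, hnL⟩ : ∃ n : ℕ, (p : ℤ) ∣ n - L ^ 2 := ⟨(L ^ 2 % p).toNat, by
    rw [Int.toNat_of_nonneg (Int.emod_nonneg _ (by exact_mod_cast hp'.ne_zero))]
    exact Int.ModEq.dvd (Int.mod_modEq _ _).symm⟩
  have hn1 : ¬ (p : ℤ) ∣ n - 1 := fun hd => hL2 (by
    have := dvd_sub hd hnL; rwa [show (n : ℤ) - 1 - (n - L ^ 2) = L ^ 2 - 1 by ring] at this)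
  have hnL' : ¬ (p : ℤ) ∣ n - L' := fun hd => hL3 (by
    have h1 := dvd_add (dvd_mul_of_dvd_right (dvd_sub hd hnL) L) hLL
    rwa [show L * ((n : ℤ) - L' - (n - L ^ 2)) + (L * L' - 1) = L ^ 3 - 1 by ring] at h1)
  have htpow : ∀ m : ℕ, S.ρ (t ^ m) a = a ∧ S.ρ (t ^ m) b = b * a ^ m ∧ S.ρ (t ^ m) c = c := by
    intro m
    have hnu : nu S.ρ t b = a := by rw [nu_apply, htb, inv_mul_cancel_left]
    refine ⟨?_, ?_, ?_⟩
    · rw [app_pow S.ρ t (by simp [nu_apply, hta]), nu_apply, hta, inv_mul_cancel, one_pow, mul_one]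
    · rw [app_pow S.ρ t (by rw [hnu]; exact hta), hnu]
    · rw [app_pow S.ρ t (by simp [nu_apply, htc]), nu_apply, htc, inv_mul_cancel, one_pow, mul_one]
  have hht : h * t = t ^ n * h := by
    refine S.inj ?_
    have e : (S.ρ (h * t)).toMonoidHom = (S.ρ (t ^ n * h)).toMonoidHom := by
      obtain ⟨n1, n2, n3⟩ := htpow n
      refine hextV _ _ ?_ ?_ ?_ <;>
        simp only [MulEquiv.coe_toMonoidHom, map_mul, MulAut.mul_apply]
      · rw [hta, hha, map_zpow, n1]
      · rw [htb, map_mul, hha, hhb, map_zpow, n2, mul_zpow, ← zpow_natCast a n, ← zpow_mul,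
          zpow_congr (hV a) (show (p : ℤ) ∣ (n : ℤ) * L' - L by
            have h1 := dvd_add (dvd_mul_of_dvd_left hnL L') (dvd_mul_of_dvd_right hLL L)
            rwa [show ((n : ℤ) - L ^ 2) * L' + L * (L * L' - 1) = n * L' - L by ring] at h1)]
      · rw [htc, hhc, n3]
    exact MulEquiv.ext fun v => DFunLike.congr_fun e v
  have hrange : ∀ x ∈ S.φ.range, ∃ j : ℕ, x = t ^ j := by
    rintro _ ⟨k, rfl⟩
    obtain ⟨e, he, j, rfl⟩ := S.decomp hy k
    exact ⟨j, by rw [map_mul, hφE e he, one_mul, map_pow]⟩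
  obtain ⟨β, hβB, hβE⟩ := hext h fun x hx => by
    obtain ⟨j, rfl⟩ := hrange x hx
    rw [← conj_pow, show h * t * h⁻¹ = t ^ n by rw [hht, mul_inv_cancel_right], ← pow_mul, ht, ← map_pow]
    exact ⟨_, rfl⟩
  choose hβmem hβπ using hβE
  let βE : E → E := fun e => ⟨β e, hβmem e⟩
  have hπβ : ∀ e, π (βE e) = S.ρ h (π e) := fun e => (hβπ e).symm
  have hφβ : ∀ k, S.φ (β k) * h = h * S.φ k := fun k => by
    refine S.inj (MulEquiv.ext fun v => ?_)
    obtain ⟨e, rfl⟩ := hπs v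
    rw [map_mul, map_mul, MulAut.mul_apply, MulAut.mul_apply, ← hπβ, S.conj, S.conj, ← hπβ]
    exact congrArg π (Subtype.ext (by simp [βE, MulAut.conjNormal_apply]))
  have hφβy : S.φ (β y) = t ^ n := mul_right_cancel ((hφβ y).trans hht)
  obtain ⟨eβ, heβ, hβy⟩ : ∃ e ∈ E, β y = e * y ^ n := by
    refine ⟨β y * (y ^ n)⁻¹, ?_, by rw [inv_mul_cancel_right]⟩
    by_contra hcon
    exact S.ne _ hcon (by rw [map_mul, map_inv, hφβy, map_pow, mul_inv_cancel])
  have hβQ : ∀ q ∈ S.Q, β q ∈ S.Q := by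
    rintro _ ⟨q, hq, rfl⟩
    exact ⟨βE q, (hπ1 _).mp (by rw [hπβ, (hπ1 q).mpr hq, map_one]), rfl⟩
  -- all `p`-th powers lie in the Frattini subgroup
  set f := y ^ p with hf
  have hfE : f ∈ E := S.pow_mem_E y
  have hfQ : f ∈ S.Q := by
    obtain ⟨i, j, k, hv⟩ := hspan (π ⟨f, hfE⟩)
    have hfix : S.ρ t (π ⟨f, hfE⟩) = π ⟨f, hfE⟩ := by
      rw [ht, S.conj]
      refine congrArg π (Subtype.ext ?_)
      rw [MulAut.conjNormal_apply]
      show y * f * y⁻¹ = f
      rw [(show Commute y f from (Commute.refl y).pow_right p).eq, mul_inv_cancel_right]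
    have hj : (p : ℤ) ∣ j := by
      have h1 : a ^ j * b ^ (0 : ℤ) * c ^ (0 : ℤ) = 1 := by
        rw [hv] at hfix
        simp only [map_mul, map_zpow, hta, htb, htc, mul_zpow] at hfix
        simp only [zpow_zero, mul_one]
        apply Additive.ofMul.injective
        have h' := congrArg Additive.ofMul hfix
        simp only [ofMul_mul, ofMul_one, ofMul_zpow] at h' ⊢
        rw [← sub_eq_zero] at h'
        rw [← h']
        abel
      exact (hindep _ _ _ h1).1
    have hpow : S.ρ h (π ⟨f, hfE⟩) = π ⟨f, hfE⟩ ^ n := by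
      rw [← hπβ, ← map_pow]
      have h1 := S.pow_mul_mem ⟨eβ, heβ⟩ (y ^ n)
      rw [← hβy, ← map_pow β] at h1
      have h2 : (QuotientGroup.mk' (frattini E)) (⟨β f * (((y ^ n) ^ p))⁻¹, S.Q_le h1⟩ : E) = 1 :=
        (S.mem_Q (e := ⟨β f * (((y ^ n) ^ p))⁻¹, S.Q_le h1⟩)).mp h1
      rw [show (⟨β f * (((y ^ n) ^ p))⁻¹, S.Q_le h1⟩ : E) = βE ⟨f, hfE⟩ * ((⟨f, hfE⟩ : E) ^ n)⁻¹ from
        Subtype.ext (by simp [βE, hf, ← pow_mul, mul_comm n p]), map_mul, map_inv, mul_inv_eq_one] at h2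
      exact h2
    rw [hv, zpow_congr (hV b) (show (p : ℤ) ∣ j - 0 by simpa using hj), zpow_zero, mul_one] at hpow
    simp only [map_mul, map_zpow, hha, hhc, mul_pow, ← zpow_natCast, ← zpow_mul] at hpow
    have h0 : a ^ (L * i - i * n) * b ^ (0 : ℤ) * c ^ (k - k * n) = 1 := by
      rw [zpow_zero, mul_one, zpow_sub, zpow_sub, mul_mul_mul_comm, hpow, ← mul_inv, mul_zpow, ← zpow_mul, ← zpow_mul, mul_inv_cancel]
    obtain ⟨h1, -, h3⟩ := hindep _ _ _ h0
    have hi : (p : ℤ) ∣ i := by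
      refine prime_dvd_cases (j := L - L ^ 2) ?_ fun hd => ?_
      · have := dvd_add h1 (dvd_mul_of_dvd_right hnL i)
        rwa [show L * i - i * n + i * ((n : ℤ) - L ^ 2) = i * (L - L ^ 2) by ring] at this
      · rw [show L - L ^ 2 = (L - 1) * (-L) by ring] at hd
        exact hL1 (prime_dvd_cases hd fun hd' => hL0 (dvd_neg.mp hd'))
    have hk : (p : ℤ) ∣ k := prime_dvd_cases (j := 1 - (n : ℤ))
      (by rwa [show k * (1 - (n : ℤ)) = k - k * n by ring])
      fun hd => hn1 (by rw [← dvd_neg, neg_sub]; exact hd)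
    have : π ⟨f, hfE⟩ = 1 := by
      rw [hv, zpow_congr (hV a) (show (p : ℤ) ∣ i - 0 by simpa using hi),
        zpow_congr (hV b) (show (p : ℤ) ∣ j - 0 by simpa using hj),
        zpow_congr (hV c) (show (p : ℤ) ∣ k - 0 by simpa using hk), zpow_zero, zpow_zero, zpow_zero, mul_one, mul_one]
    exact (S.mem_Q (e := ⟨f, hfE⟩)).mpr this
  have hpowQ : ∀ x : K, x ^ p ∈ S.Q := fun x => by
    obtain ⟨e, he, j, rfl⟩ := S.decomp hy x
    have h1 := S.pow_mul_mem ⟨e, he⟩ (y ^ j)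
    rw [← pow_mul, mul_comm j, pow_mul, ← hf] at h1
    have := S.Q.mul_mem h1 (S.Q.pow_mem hfQ j)
    rwa [inv_mul_cancel_right] at this
  have hEQ : ∀ x ∈ E, ∀ w ∈ E, ⁅x, w⁆ ∈ S.Q := fun x hx w hw =>
    ⟨⁅(⟨x, hx⟩ : E), ⟨w, hw⟩⁆, CfsgLib.PGroup.commutator_le_frattini hPE
      (Subgroup.commutator_mem_commutator (Subgroup.mem_top _) (Subgroup.mem_top _)), rfl⟩
  obtain ⟨ae, hae⟩ := hπs a
  obtain ⟨be, hbe⟩ := hπs b
  obtain ⟨ce, hce⟩ := hπs c
  -- the Frattini subgroup is generated by the powers in `K`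
  set P := pw p (⊤ : Subgroup K) with hPdef
  have hQP : S.Q ≤ P := by
    set PE := P.subgroupOf E
    have hPEp : pw p (⊤ : Subgroup E) ≤ PE := pw_le fun x _ => pow_mem_pw (Subgroup.mem_top (x : K))
    suffices hΦ : frattini E ≤ PE by rintro _ ⟨x, hx, rfl⟩; exact hΦ hx
    set N := pw p (⊤ : Subgroup E) ⊔ ⁅frattini E, (⊤ : Subgroup E)⁆ with hN
    by_cases hΦN : frattini E ≤ N
    · exact (frattini_le_of_layer hPE _ hΦN).trans hPEp
    have hNinv : ∀ α : MulAut E, ∀ x ∈ N, α x ∈ N := by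
      intro α
      have : N ≤ N.comap (α : E →* E) := sup_le
        (fun x hx => Subgroup.mem_sup_left (pw_aut (fun w _ => Subgroup.mem_top _) hx))
        (fun x hx => Subgroup.mem_sup_right (aut_commutator (fun w hw => aut_mem_frattini α hw)
          (fun w _ => Subgroup.mem_top _) hx))
      exact this
    let σE := QuotientGroup.mk' N
    have hσEs : Function.Surjective σE := QuotientGroup.mk'_surjective N
    have hlayer := card_layer_le hPE S.rank3 S.rankE N le_rfl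
    have hNΦ : N ≤ frattini E := sup_le (pw_le fun x _ => CfsgLib.PGroup.pow_mem_frattini hPE x)
      (Subgroup.commutator_le_left _ _)
    have hlc : Nat.card ((frattini E).map σE) = p := by
      refine le_antisymm hlayer ?_
      obtain ⟨i, hi⟩ := IsPGroup.iff_card.mp (hPE.to_quotient N |>.to_subgroup ((frattini E).map σE))
      rw [hi]
      refine Nat.le_self_pow (fun h0 => hΦN ?_) p
      have hbot := Subgroup.card_eq_one.mp (show Nat.card ((frattini E).map σE) = 1 by rw [hi, h0, pow_zero])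
      rwa [Subgroup.map_eq_bot_iff, QuotientGroup.ker_mk'] at hbot
    by_cases hPN : PE ≤ N
    swap
    · -- powers fill the layer
      refine frattini_le_of_layer hPE PE ?_
      intro x hx
      have hlt : (⊥ : Subgroup (E ⧸ N)) < PE.map σE := bot_lt_iff_ne_bot.mpr fun e => hPN (by
        rwa [Subgroup.map_eq_bot_iff, QuotientGroup.ker_mk'] at e)
      have hPEΦ : PE ≤ frattini E := fun z hz => by
        have h1 : P ≤ S.Q := pw_le fun w _ => hpowQ w
        obtain ⟨w, hw, hwz⟩ := h1 hz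
        exact Subtype.ext hwz ▸ hw
      obtain ⟨m, hm⟩ := IsPGroup.iff_card.mp (hPE.to_quotient N)
      have hge := CfsgLib.FusionFourth.card_lt_mul (p := p) hm hlt
      rw [Subgroup.card_bot, one_mul] at hge
      have heq : PE.map σE = (frattini E).map σE :=
        Subgroup.eq_of_le_of_card_ge (Subgroup.map_mono hPEΦ) (by rw [hlc]; exact hge)
      obtain ⟨z, hz, hzx⟩ := heq.ge ⟨x, hx, rfl⟩
      have h1 : z⁻¹ * x ∈ N := QuotientGroup.eq.mp hzx
      have h2 : N ≤ PE ⊔ ⁅frattini E, (⊤ : Subgroup E)⁆ := sup_le (hPEp.trans le_sup_left) le_sup_right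
      have := (PE ⊔ ⁅frattini E, (⊤ : Subgroup E)⁆).mul_mem (Subgroup.mem_sup_left hz) (h2 h1)
      rwa [mul_inv_cancel_left] at this
    exfalso
    set NK := N.map E.subtype with hNK
    have hNKn : NK.Normal := ⟨fun x hx g => by
      obtain ⟨x, hx, rfl⟩ := hx
      exact ⟨MulAut.conjNormal g x, hNinv _ _ hx, MulAut.conjNormal_apply _ _⟩⟩
    let σ := QuotientGroup.mk' NK
    have hσ1 : ∀ e : E, σ e = 1 ↔ e ∈ N := fun e => by
      rw [show σ (e : K) = QuotientGroup.mk (e : K) from rfl, QuotientGroup.eq_one_iff]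
      exact Subgroup.mem_map_iff_mem E.subtype_injective
    have hexp : ∀ q : K ⧸ NK, q ^ p = 1 := fun q => by
      obtain ⟨x, rfl⟩ := QuotientGroup.mk'_surjective NK q
      rw [← map_pow]
      have hxE : x ^ p ∈ E := S.pow_mem_E x
      exact (hσ1 ⟨x ^ p, hxE⟩).mpr (hPN (pow_mem_pw (Subgroup.mem_top x)))
    set QK := S.Q.map σ with hQK
    have hQKc : Nat.card QK = p := by
      have h1 := CfsgLib.Coprime.card_map_mul_inf_ker σ S.Q
      rw [QuotientGroup.ker_mk', inf_eq_left.mpr (show NK ≤ S.Q from Subgroup.map_mono hNΦ)] at h1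
      have h2 := CfsgLib.Coprime.card_map_mul_inf_ker σE (frattini E)
      rw [QuotientGroup.ker_mk', inf_eq_left.mpr hNΦ, hlc] at h2
      have e1 : Nat.card S.Q = Nat.card (frattini E) := Subgroup.card_map_of_injective E.subtype_injective
      have e2 : Nat.card NK = Nat.card N := Subgroup.card_map_of_injective E.subtype_injective
      rw [e1, e2, ← h2] at h1
      exact Nat.eq_of_mul_eq_mul_right Nat.card_pos h1
    have hQKn : QK.Normal := Subgroup.Normal.map inferInstance σ (QuotientGroup.mk'_surjective NK)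
    have hQKcen := CfsgLib.SoftSubgroup.le_center_of_card_eq (hP.to_quotient NK) QK hQKc
    have hEK : ∀ x ∈ E, ∀ w ∈ E, σ ⁅x, w⁆ ∈ Subgroup.center (K ⧸ NK) := fun x hx w hw =>
      hQKcen ⟨_, hEQ x hx w hw, rfl⟩
    -- the bilinear map on `E`
    let β₂ : E → E → K ⧸ NK := fun x w => σ ⁅(x : K), (w : K)⁆
    have hbl : ∀ x x' w, β₂ (x * x') w = β₂ x w * β₂ x' w := fun x x' w => by
      show σ ⁅(x : K) * x', (w : K)⁆ = σ ⁅(x : K), (w : K)⁆ * σ ⁅(x' : K), (w : K)⁆
      rw [map_commutatorElement, map_mul, CfsgLib.PGroup.commutatorElement_mul_left_of_central _ _ _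
        (by rw [← map_commutatorElement]; exact hEK _ x'.2 _ w.2), map_commutatorElement, map_commutatorElement]
    have hbΦ : ∀ x ∈ frattini E, ∀ w, β₂ x w = 1 := fun x hx w => by
      show σ ((⁅x, w⁆ : E) : K) = 1
      rw [hσ1]
      exact Subgroup.mem_sup_right (Subgroup.commutator_mem_commutator hx (Subgroup.mem_top w))
    have hbπ : ∀ x x' w, π x = π x' → β₂ x w = β₂ x' w := fun x x' w hxx => by
      have h1 : x'⁻¹ * x ∈ frattini E := by rw [← hπ1, map_mul, map_inv, hxx, inv_mul_cancel]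
      rw [show x = x' * (x'⁻¹ * x) by rw [mul_inv_cancel_left], hbl, hbΦ _ h1, mul_one]
    have hswap : ∀ x w, β₂ w x = (β₂ x w)⁻¹ := fun x w => by
      show σ ⁅(w : K), (x : K)⁆ = (σ ⁅(x : K), (w : K)⁆)⁻¹
      rw [← map_inv, commutatorElement_inv]
    have hbπ' : ∀ x w w', π w = π w' → β₂ x w = β₂ x w' := fun x w w' hww => by
      rw [hswap w x, hswap w' x, hbπ w w' x hww]
    have hβN : ∀ (α : MulAut E) x w, β₂ x w = 1 → β₂ (α x) (α w) = 1 := fun α x w hxw => by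
      show σ ((⁅α x, α w⁆ : E) : K) = 1
      rw [hσ1, ← map_commutatorElement]
      exact hNinv α _ ((hσ1 ⁅x, w⁆).mp hxw)
    have hac : β₂ ae ce = 1 := by
      have h1 : σ y * β₂ be ce * (σ y)⁻¹ = β₂ be ce := by
        rw [Subgroup.mem_center_iff.mp (hEK _ be.2 _ ce.2) (σ y), mul_inv_cancel_right]
      have h2 : σ y * β₂ be ce * (σ y)⁻¹ = β₂ (MulAut.conjNormal y be) (MulAut.conjNormal y ce) := by
        show _ = σ ⁅((MulAut.conjNormal y be : E) : K), ((MulAut.conjNormal y ce : E) : K)⁆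
        rw [MulAut.conjNormal_apply, MulAut.conjNormal_apply, ← map_inv, ← map_mul, ← map_mul,
          ← MulAut.conj_apply, ← MulAut.conj_apply, ← MulAut.conj_apply, map_commutatorElement (MulAut.conj y)]
      rw [h2, hbπ _ (be * ae) _ (by rw [← S.conj, ← ht, hbe, map_mul, hbe, hae]; exact htb),
        hbπ' _ _ ce (by rw [← S.conj, ← ht, hce]; exact htc), hbl] at h1
      exact mul_left_cancel (h1.trans (mul_one _).symm)
    have hbc : β₂ be ce = 1 := by
      obtain ⟨α, hα⟩ := S.lift s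
      have h1 := hβN α _ _ hac
      rw [hbπ _ (ae * be) _ (by rw [← hα, hae, map_mul, hae, hbe]; exact hsa),
        hbπ' _ _ ce (by rw [← hα, hce]; exact hsc), hbl, hac, one_mul] at h1
      exact h1
    set z := β₂ be ae with hz
    have hzcen : z ∈ Subgroup.center (K ⧸ NK) := hEK _ be.2 _ ae.2
    have hgens : ∀ x w, ∃ i : ℤ, β₂ x w = z ^ i := by
      intro x w
      obtain ⟨i, j, k, hx⟩ := hspan (π x)
      obtain ⟨i', j', k', hw⟩ := hspan (π w)
      let F : E → (E →* K ⧸ NK) := fun w => MonoidHom.mk' (fun x => β₂ x w) fun x x' => hbl x x' w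
      have hF : ∀ w x, F w x = β₂ x w := fun _ _ => rfl
      have hx' : π x = π (ae ^ i * be ^ j * ce ^ k) := by
        rw [hx, map_mul, map_mul, map_zpow, map_zpow, map_zpow, hae, hbe, hce]
      have hw' : π w = π (ae ^ i' * be ^ j' * ce ^ k') := by
        rw [hw, map_mul, map_mul, map_zpow, map_zpow, map_zpow, hae, hbe, hce]
      rw [hbπ _ _ _ hx', hbπ' _ _ _ hw', ← hF, map_mul, map_mul, map_zpow, map_zpow, map_zpow, hF, hF, hF,
        hswap _ ae, hswap _ be, hswap _ ce]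
      simp only [← hF, map_mul, map_zpow]
      simp only [hF]
      have e1 : β₂ ae ae = 1 := by show σ _ = 1; simp
      have e2 : β₂ be be = 1 := by show σ _ = 1; simp
      have e3 : β₂ ce ce = 1 := by show σ _ = 1; simp
      rw [e1, e2, e3, hswap be ae, hswap ae ce, hswap be ce, hac, hbc, ← hz]
      simp only [inv_one, one_zpow, mul_one, one_mul, inv_zpow', ← zpow_mul, ← zpow_add]
      exact ⟨_, rfl⟩
    have hz1 : z ≠ 1 := by
      intro hz1
      refine hΦN (CfsgLib.PGroup.frattini_le_of (p := p) N ?_ fun x => Subgroup.mem_sup_left (pow_mem_pw (Subgroup.mem_top x)))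
      rw [commutator_def, Subgroup.commutator_le]
      intro x _ w _
      obtain ⟨i, hi⟩ := hgens x w
      rw [hz1, one_zpow] at hi
      exact (hσ1 ⁅x, w⁆).mp hi
    have hQKz : Subgroup.zpowers z = QK := by
      refine Subgroup.eq_of_le_of_card_ge (Subgroup.zpowers_le.mpr ⟨_, hEQ _ be.2 _ ae.2, rfl⟩) ?_
      rw [hQKc, Nat.card_zpowers, orderOf_eq_prime (hexp z) hz1]
    have hEfix : ∀ (e : E), S.ρ t (π e) = π e → ∃ i : ℤ, σ ⁅y, (e : K)⁆ = z ^ i := fun e hfix => by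
      have hmem : ⁅y, (e : K)⁆ ∈ S.Q := by
        rw [ht, S.conj] at hfix
        have h2 : QuotientGroup.mk' (frattini E) (MulAut.conjNormal y e * e⁻¹) = 1 := by
          rw [map_mul, map_inv]; exact mul_inv_eq_one.mpr hfix
        have h3 := (S.mem_Q (e := MulAut.conjNormal y e * e⁻¹)).mpr h2
        simpa [commutatorElement_def] using h3
      obtain ⟨i, hi⟩ : σ ⁅y, (e : K)⁆ ∈ Subgroup.zpowers z := hQKz ▸ ⟨_, hmem, rfl⟩
      exact ⟨i, hi.symm⟩
    obtain ⟨m, hm⟩ := hEfix ae (by rw [hae]; exact hta)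
    set y' : K := ((be : K) ^ m)⁻¹ * y with hy'
    have hy'E : y' ∉ E := fun h' => hy (by
      have := E.mul_mem (E.zpow_mem be.2 m) h'
      rwa [hy', mul_inv_cancel_left] at this)
    have hy'φ : S.φ y' = t := by rw [hy', map_mul, map_inv, hφE _ (E.zpow_mem be.2 m), inv_one, one_mul]
    have hya : Commute (σ y') (σ ae) := by
      refine commutatorElement_eq_one_iff_mul_comm.mp ?_
      rw [hy', map_mul, map_inv, map_zpow]
      rw [map_commutatorElement] at hm
      have hz' : ⁅σ (be : K), σ (ae : K)⁆ = z := (map_commutatorElement σ _ _).symm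
      rw [CfsgLib.PGroup.commutatorElement_mul_left_of_central _ _ _ (by rw [hm]; exact Subgroup.zpow_mem _ hzcen m),
        hm, ← zpow_neg]
      let F : E →* K ⧸ NK := MonoidHom.mk' (fun x => β₂ x ae) fun x x' => hbl x x' ae
      have h1 : ⁅σ (be : K) ^ (-m), σ (ae : K)⁆ = F (be ^ (-m)) := by
        show _ = σ ⁅((be ^ (-m) : E) : K), (ae : K)⁆
        rw [map_commutatorElement, SubgroupClass.coe_zpow, map_zpow]
      rw [h1, map_zpow, show F be = z from rfl, ← zpow_add, neg_add_cancel, zpow_zero]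
    obtain ⟨m', hm'⟩ : ∃ i : ℤ, σ ⁅y', (ce : K)⁆ = z ^ i := by
      have hmem : σ ⁅y', (ce : K)⁆ ∈ QK := by
        refine ⟨_, ?_, rfl⟩
        have h2 : QuotientGroup.mk' (frattini E) (MulAut.conjNormal y' ce * ce⁻¹) = 1 := by
          rw [map_mul, map_inv, ← S.conj, hy'φ]
          refine mul_inv_eq_one.mpr ?_
          show S.ρ t (π ce) = π ce
          rw [hce]; exact htc
        have h3 := (S.mem_Q (e := MulAut.conjNormal y' ce * ce⁻¹)).mpr h2
        simpa [commutatorElement_def] using h3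
      rw [← hQKz] at hmem
      obtain ⟨i, hi⟩ := hmem
      exact ⟨i, hi.symm⟩
    have hyc : Commute (σ y') (σ ce) := by
      refine commutatorElement_eq_one_iff_mul_comm.mp ?_
      rw [← map_commutatorElement, hm']
      -- apply the semisimple element
      let βA : MulAut E := MulEquiv.ofBijective (MonoidHom.mk' βE fun u v => Subtype.ext (by simp [βE]))
        (Finite.injective_iff_bijective.mp fun u v huv => Subtype.ext (β.injective (congrArg Subtype.val huv)))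
      have hβNK : ∀ x ∈ NK, β x ∈ NK := by
        rintro _ ⟨x, hx, rfl⟩
        exact ⟨βA x, hNinv βA x hx, rfl⟩
      let βW : (K ⧸ NK) →* (K ⧸ NK) := QuotientGroup.map NK NK β.toMonoidHom hβNK
      have hβσ : ∀ x, βW (σ x) = σ (β x) := fun _ => rfl
      have hβz : βW z = z := by
        rw [hz]; show βW (σ ⁅(be : K), (ae : K)⁆) = _
        rw [hβσ, map_commutatorElement β, show β be = ((βE be : E) : K) from rfl, show β ae = ((βE ae : E) : K) from rfl]
        show β₂ (βE be) (βE ae) = β₂ be ae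
        rw [hbπ _ (be ^ L') _ (by rw [hπβ, hbe, map_zpow, hbe, hhb]), hbπ' _ _ (ae ^ L) (by rw [hπβ, hae, map_zpow, hae, hha])]
        let F : E → (E →* K ⧸ NK) := fun w => MonoidHom.mk' (fun x => β₂ x w) fun x x' => hbl x x' w
        rw [show β₂ (be ^ L') (ae ^ L) = F (ae ^ L) (be ^ L') from rfl, map_zpow, show F (ae ^ L) be = β₂ be (ae ^ L) from rfl,
          hswap (ae ^ L) be, show β₂ (ae ^ L) be = F be (ae ^ L) from rfl, map_zpow, show F be ae = β₂ ae be from rfl,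
          hswap be ae, ← hz]
        simp only [inv_zpow, inv_inv, ← zpow_mul]
        conv_rhs => rw [← zpow_one z]
        exact zpow_congr (hexp z) (by simpa using hLL)
      obtain ⟨e1, he1, hβy'⟩ : ∃ e ∈ E, β y' = e * y' ^ n := by
        refine ⟨β y' * (y' ^ n)⁻¹, ?_, by rw [inv_mul_cancel_right]⟩
        by_contra hcon
        refine S.ne _ hcon ?_
        have := hφβ y'
        rw [hy'φ, hht] at this
        rw [map_mul, map_inv, mul_right_cancel this, map_pow, hy'φ, mul_inv_cancel]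
      have hcE : ∀ x ∈ E, Commute (σ x) (σ ce) := fun x hx => by
        refine commutatorElement_eq_one_iff_mul_comm.mp ?_
        rw [← map_commutatorElement]
        show β₂ ⟨x, hx⟩ ce = 1
        obtain ⟨i, j, k, hv⟩ := hspan (π ⟨x, hx⟩)
        let F : E →* K ⧸ NK := MonoidHom.mk' (fun x => β₂ x ce) fun x x' => hbl x x' ce
        rw [hbπ _ (ae ^ i * be ^ j * ce ^ k) _ (by rw [hv, map_mul, map_mul, map_zpow, map_zpow, map_zpow, hae, hbe, hce])]
        show F (ae ^ i * be ^ j * ce ^ k) = 1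
        rw [map_mul, map_mul, map_zpow, map_zpow, map_zpow, show F ae = 1 from hac, show F be = 1 from hbc,
          show F ce = 1 from (show σ ⁅(ce : K), (ce : K)⁆ = 1 by simp)]
        simp
      have hit : σ y' ^ n * σ (ce : K) * (σ y' ^ n)⁻¹ = σ (ce : K) * (z ^ m') ^ n := by
        have h1 : σ y' * σ (ce : K) * (σ y')⁻¹ = σ (ce : K) * z ^ m' := by
          rw [← hm', map_commutatorElement, commutatorElement_def]
          have hcen' : ⁅σ y', σ (ce : K)⁆ ∈ Subgroup.center (K ⧸ NK) := by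
            rw [← map_commutatorElement, hm']; exact Subgroup.zpow_mem _ hzcen _
          have := Subgroup.mem_center_iff.mp hcen' (σ (ce : K))
          rw [commutatorElement_def] at this
          rw [this]; group
        have h2 := conj_pow_iter (g := σ y') (b := σ (ce : K)) (c := z ^ m') (w := 1) (r := 1) h1
          (by rw [mul_one, Subgroup.mem_center_iff.mp (Subgroup.zpow_mem _ hzcen m') (σ y'), mul_inv_cancel_right])
          (by simp) (by simp) (Commute.one_right _) (Commute.one_right _) (Commute.one_right _) n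
        simpa using h2
      have hL := congrArg βW hm'
      rw [map_zpow, hβz, hβσ, map_commutatorElement β, hβy'] at hL
      have hβc : σ (β ce) = σ (ce : K) * σ ((ce : K)⁻¹ * β ce) := by rw [← map_mul, mul_inv_cancel_left]
      have hqQ : (ce : K)⁻¹ * β ce ∈ S.Q := ⟨ce⁻¹ * βE ce, by
        show _ ∈ frattini E
        rw [← hπ1, map_mul, map_inv, hπβ, hce, hhc, inv_mul_cancel], rfl⟩
      have hqc : σ ((ce : K)⁻¹ * β ce) ∈ Subgroup.center (K ⧸ NK) := hQKcen ⟨_, hqQ, rfl⟩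
      rw [map_commutatorElement, hβc, map_mul, map_pow] at hL
      have e2 : ⁅σ e1 * σ y' ^ n, σ (ce : K) * σ ((ce : K)⁻¹ * β ce)⁆ = ⁅σ e1 * σ y' ^ n, σ (ce : K)⁆ := by
        rw [CfsgLib.PGroup.commutatorElement_mul_right_of_central _ _ _ (by
          rw [commutatorElement_eq_one_iff_mul_comm.mpr (Subgroup.mem_center_iff.mp hqc _)]; exact one_mem _),
          commutatorElement_eq_one_iff_mul_comm.mpr (Subgroup.mem_center_iff.mp hqc _), mul_one]
      have e3 : ⁅σ e1 * σ y' ^ n, σ (ce : K)⁆ = (z ^ m') ^ n := by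
        rw [commutatorElement_def]
        have hzn : (z ^ m') ^ n ∈ Subgroup.center (K ⧸ NK) := Subgroup.pow_mem _ (Subgroup.zpow_mem _ hzcen _) _
        calc σ e1 * σ y' ^ n * σ (ce : K) * (σ e1 * σ y' ^ n)⁻¹ * (σ (ce : K))⁻¹
            = σ e1 * (σ y' ^ n * σ (ce : K) * (σ y' ^ n)⁻¹) * (σ e1)⁻¹ * (σ (ce : K))⁻¹ := by group
          _ = σ e1 * σ (ce : K) * ((z ^ m') ^ n * (σ e1)⁻¹) * (σ (ce : K))⁻¹ := by rw [hit]; group
          _ = σ e1 * σ (ce : K) * ((σ e1)⁻¹ * (z ^ m') ^ n) * (σ (ce : K))⁻¹ := by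
            rw [Subgroup.mem_center_iff.mp hzn (σ e1)⁻¹]
          _ = σ (ce : K) * σ e1 * ((σ e1)⁻¹ * (z ^ m') ^ n) * (σ (ce : K))⁻¹ := by rw [(hcE e1 he1).eq]
          _ = σ (ce : K) * (z ^ m') ^ n * (σ (ce : K))⁻¹ := by group
          _ = _ := by rw [Subgroup.mem_center_iff.mp hzn (σ (ce : K)), mul_inv_cancel_right]
      rw [e2, e3, ← zpow_natCast, ← zpow_mul] at hL
      have h1 := dvd_of_zpow_eq (hexp z) hz1 hL
      have h2 : (p : ℤ) ∣ m' := prime_dvd_cases (j := (n : ℤ) - 1)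
        (by rwa [show m' * ((n : ℤ) - 1) = m' * n - m' by ring]) hn1
      rw [zpow_congr (hexp z) (show (p : ℤ) ∣ m' - 0 by simpa using h2), zpow_zero]
    -- an elementary abelian section of order `p⁴`
    have hacK : Commute (σ (ae : K)) (σ (ce : K)) := commutatorElement_eq_one_iff_mul_comm.mp (by
      rw [← map_commutatorElement]; exact hac)
    set Xs : Set (K ⧸ NK) := {z, σ (ae : K), σ (ce : K), σ y'} with hXs
    have hcommX : ∀ u ∈ Xs, ∀ v ∈ Xs, Commute u v := by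
      have hzc : ∀ v, Commute z v := fun v => (Subgroup.mem_center_iff.mp hzcen v).symm
      rintro u (rfl | rfl | rfl | rfl) v (rfl | rfl | rfl | rfl) <;>
        first
          | exact Commute.refl _
          | exact hzc _
          | exact (hzc _).symm
          | exact hacK
          | exact hacK.symm
          | exact hya
          | exact hya.symm
          | exact hyc
          | exact hyc.symm
    set X := Subgroup.closure Xs
    have hXcomm : ∀ u ∈ X, ∀ v ∈ X, u * v = v * u := by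
      intro u hu v hv
      have h1 : ∀ w ∈ Xs, X ≤ Subgroup.centralizer ({w} : Set (K ⧸ NK)) := fun w hw =>
        (Subgroup.closure_le _).mpr fun v hv => Subgroup.mem_centralizer_singleton_iff.mpr (hcommX v hv w hw)
      have h2 : X ≤ Subgroup.centralizer ({v} : Set (K ⧸ NK)) := (Subgroup.closure_le _).mpr fun w hw =>
        Subgroup.mem_centralizer_singleton_iff.mpr (Subgroup.mem_centralizer_singleton_iff.mp (h1 w hw hv)).symm
      exact Subgroup.mem_centralizer_singleton_iff.mp (h2 hu)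
    have hrk := CfsgLib.TwoGroups85.pRankLE_of_section S.rank ⊤ (σ.comp (⊤ : Subgroup K).subtype) (fun q => by
      obtain ⟨q, rfl⟩ := QuotientGroup.mk'_surjective NK q
      exact ⟨⟨q, Subgroup.mem_top q⟩, rfl⟩) X ⟨⟨fun u v => Subtype.ext (hXcomm u u.2 v v.2)⟩⟩ fun u _ => hexp u
    obtain ⟨mK, hmK⟩ := IsPGroup.iff_card.mp (hP.to_quotient NK)
    set X₁ := Subgroup.zpowers z
    set X₂ := X₁ ⊔ Subgroup.zpowers (σ (ae : K))
    set X₃ := X₂ ⊔ Subgroup.zpowers (σ (ce : K))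
    have hcoord : ∀ w ∈ X₃, ∃ q : E, σ (q : K) = w ∧ π q ∈ Subgroup.zpowers a ⊔ Subgroup.zpowers c := by
      have hzE : z ∈ ((Subgroup.zpowers a ⊔ Subgroup.zpowers c).comap π).map (σ.comp E.subtype) := by
        refine ⟨⁅be, ae⁆, ?_, rfl⟩
        show π ⁅be, ae⁆ ∈ Subgroup.zpowers a ⊔ Subgroup.zpowers c
        rw [map_commutatorElement, commutatorElement_eq_one_iff_mul_comm.mpr (mul_comm _ _)]
        exact one_mem _
      have hle : X₃ ≤ ((Subgroup.zpowers a ⊔ Subgroup.zpowers c).comap π).map (σ.comp E.subtype) :=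
        sup_le (sup_le (Subgroup.zpowers_le.mpr hzE) (Subgroup.zpowers_le.mpr ⟨ae, by
          show π ae ∈ Subgroup.zpowers a ⊔ Subgroup.zpowers c; rw [hae]; exact Subgroup.mem_sup_left (Subgroup.mem_zpowers a), rfl⟩))
          (Subgroup.zpowers_le.mpr ⟨ce, by
          show π ce ∈ Subgroup.zpowers a ⊔ Subgroup.zpowers c; rw [hce]; exact Subgroup.mem_sup_right (Subgroup.mem_zpowers c), rfl⟩)
      intro w hw
      obtain ⟨q, hq, hqw⟩ := hle hw
      exact ⟨q, hqw, hq⟩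
    have hσπ : ∀ q q' : E, σ (q : K) = σ (q' : K) → π q = π q' := fun q q' hqq => by
      have h1 : σ ((q⁻¹ * q' : E) : K) = 1 := by
        rw [Subgroup.coe_mul, Subgroup.coe_inv, map_mul, map_inv, hqq, inv_mul_cancel]
      have h2 := (hπ1 _).mpr (hNΦ ((hσ1 _).mp h1))
      rwa [map_mul, map_inv, inv_mul_eq_one] at h2
    have hπX₂ : ∀ w ∈ X₂, ∀ q : E, σ (q : K) = w → π q ∈ Subgroup.zpowers a := by
      have hzE : z ∈ ((Subgroup.zpowers a).comap π).map (σ.comp E.subtype) := by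
        refine ⟨⁅be, ae⁆, ?_, rfl⟩
        show π ⁅be, ae⁆ ∈ Subgroup.zpowers a
        rw [map_commutatorElement, commutatorElement_eq_one_iff_mul_comm.mpr (mul_comm _ _)]
        exact one_mem _
      have hle : X₂ ≤ ((Subgroup.zpowers a).comap π).map (σ.comp E.subtype) := sup_le (Subgroup.zpowers_le.mpr hzE)
        (Subgroup.zpowers_le.mpr ⟨ae, by show π ae ∈ Subgroup.zpowers a; rw [hae]; exact Subgroup.mem_zpowers a, rfl⟩)
      intro w hw q hq
      obtain ⟨q', hq', hqw⟩ := hle hw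
      rw [hσπ q q' (hq.trans hqw.symm)]; exact hq'
    have l1 : X₁ < X₂ := lt_of_le_of_ne le_sup_left fun e => ha1 (by
      have hmem : σ (ae : K) ∈ X₁ := e.symm ▸ Subgroup.mem_sup_right (Subgroup.mem_zpowers _)
      obtain ⟨i, hi⟩ := hmem
      have := hσπ ae (⁅be, ae⁆ ^ i) (by rw [← hi, SubgroupClass.coe_zpow, map_zpow]; rfl)
      rw [hae, map_zpow, map_commutatorElement, commutatorElement_eq_one_iff_mul_comm.mpr (mul_comm _ _),
        one_zpow] at this
      exact this)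
    have l2 : X₂ < X₃ := lt_of_le_of_ne le_sup_left fun e => by
      have hmem : σ (ce : K) ∈ X₂ := e.symm ▸ Subgroup.mem_sup_right (Subgroup.mem_zpowers _)
      obtain ⟨i, hi⟩ := hπX₂ _ hmem ce rfl
      refine hpi.not_dvd_one (dvd_neg.mp (hindep i 0 (-1) ?_).2.2)
      rw [zpow_zero, mul_one, zpow_neg, zpow_one, show a ^ i = π ce from hi, hce, mul_inv_cancel]
    have hXle : X₃ ≤ X := by
      have hX : ∀ w ∈ Xs, Subgroup.zpowers w ≤ X := fun w hw => Subgroup.zpowers_le.mpr (Subgroup.subset_closure hw)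
      exact sup_le (sup_le (hX _ (by simp [Xs])) (hX _ (by simp [Xs]))) (hX _ (by simp [Xs]))
    have l3 : X₃ < X := lt_of_le_of_ne hXle fun e => hy'E (by
      obtain ⟨q, hq, -⟩ := hcoord (σ y') (e.symm ▸ Subgroup.subset_closure (by simp [Xs]))
      have h1 : y'⁻¹ * q ∈ NK := QuotientGroup.eq.mp hq.symm
      have h2 := E.mul_mem q.2 (E.inv_mem (Subgroup.map_subtype_le N h1))
      simpa using h2)
    have s1 := CfsgLib.FusionFourth.card_lt_mul (p := p) hmK l1
    have s2 := CfsgLib.FusionFourth.card_lt_mul (p := p) hmK l2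
    have s3 := CfsgLib.FusionFourth.card_lt_mul (p := p) hmK l3
    rw [show Nat.card X₁ = p by rw [Nat.card_zpowers, orderOf_eq_prime (hexp z) hz1]] at s1
    have h4 : p ^ 4 ≤ p ^ 3 := by
      calc p ^ 4 = p * p * p * p := by ring
        _ ≤ Nat.card X₂ * p * p := Nat.mul_le_mul_right _ (Nat.mul_le_mul_right _ s1)
        _ ≤ Nat.card X₃ * p := Nat.mul_le_mul_right _ s2
        _ ≤ _ := s3.trans hrk
    exact absurd ((Nat.pow_le_pow_iff_right hp'.one_lt).mp h4) (by norm_num)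
  have hQchar : ∀ u : MulAut K, ∀ q ∈ S.Q, u q ∈ S.Q := fun u q hq => by
    have : P ≤ S.Q := pw_le fun w _ => hpowQ w
    exact this (pw_aut (fun w _ => Subgroup.mem_top _) (hQP hq))
  -- coordinates on `W = K/Q`
  let W := K ⧸ S.Q
  let σ : K →* W := QuotientGroup.mk' S.Q
  have hσs : Function.Surjective σ := QuotientGroup.mk'_surjective _
  have hσπ : ∀ q q' : E, σ (q : K) = σ (q' : K) ↔ π q = π q' := fun q q' => by
    rw [← inv_mul_eq_one, ← inv_mul_eq_one (a := π q), ← map_inv, ← map_mul, ← map_inv π, ← map_mul π]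
    exact (QuotientGroup.eq_one_iff _).trans (S.mem_Q (e := q⁻¹ * q'))
  have hexpW : ∀ w : W, w ^ p = 1 := fun w => by
    obtain ⟨x, rfl⟩ := hσs w
    rw [← map_pow]; exact (QuotientGroup.eq_one_iff _).mpr (hpowQ x)
  obtain ⟨kb, mb, lb, hmb⟩ := hspan (π ⟨eβ, heβ⟩)
  obtain ⟨i₀, hi₀⟩ : ∃ i : ℤ, (p : ℤ) ∣ i * (n - L') - mb := by
    have hco : IsCoprime ((n : ℤ) - L') (p : ℤ) := by
      rw [Int.isCoprime_iff_gcd_eq_one, Int.gcd_comm]
      exact (Nat.Prime.coprime_iff_not_dvd hp').mpr fun hd => hnL' (Int.natCast_dvd.mpr hd)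
    obtain ⟨u, v, huv⟩ := hco
    exact ⟨mb * u, ⟨-(mb * v), by linear_combination mb * huv⟩⟩
  set y₀ : K := (be : K) ^ i₀ * y with hy₀
  have hy₀E : y₀ ∉ E := fun h' => hy (by
    have := E.mul_mem (E.inv_mem (E.zpow_mem be.2 i₀)) h'
    rwa [hy₀, inv_mul_cancel_left] at this)
  have hφy₀ : S.φ y₀ = t := by rw [hy₀, map_mul, hφE _ (E.zpow_mem be.2 i₀), one_mul]
  set A := σ (ae : K) with hA
  set Bv := σ (be : K) with hBv
  set C := σ (ce : K) with hC
  set Y := σ y₀ with hY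
  have hcomE : ∀ q ∈ E, ∀ q' ∈ E, Commute (σ q) (σ q') := fun q hq q' hq' =>
    commutatorElement_eq_one_iff_mul_comm.mp (by
      rw [← map_commutatorElement]; exact (QuotientGroup.eq_one_iff _).mpr (hEQ q hq q' hq'))
  have hYconj : ∀ q : E, Y * σ (q : K) * Y⁻¹ = σ ((MulAut.conjNormal y₀ q : E) : K) := fun q => by
    rw [MulAut.conjNormal_apply, hY, ← map_inv, ← map_mul, ← map_mul]
  have hYA : Commute Y A := by
    refine mul_inv_eq_iff_eq_mul.mp ((hYconj ae).trans ((hσπ _ _).mpr ?_))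
    rw [← S.conj, hφy₀]; show S.ρ t (π ae) = π ae; rw [hae]; exact hta
  have hYC : Commute Y C := by
    refine mul_inv_eq_iff_eq_mul.mp ((hYconj ce).trans ((hσπ _ _).mpr ?_))
    rw [← S.conj, hφy₀]; show S.ρ t (π ce) = π ce; rw [hce]; exact htc
  have hYB : Y * Bv * Y⁻¹ = Bv * A := by
    rw [hBv, hYconj be, hA, ← map_mul, ← Subgroup.coe_mul, hσπ, ← S.conj, hφy₀]
    show S.ρ t (π be) = π (be * ae)
    rw [map_mul, hbe, hae]; exact htb
  have hAB : Commute A Bv := hcomE _ ae.2 _ be.2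
  have hAC : Commute A C := hcomE _ ae.2 _ ce.2
  have hBC : Commute Bv C := hcomE _ be.2 _ ce.2
  have hnf : ∀ w : W, ∃ i k l j : ℤ, w = Bv ^ i * A ^ k * C ^ l * Y ^ j := by
    intro w
    obtain ⟨x, rfl⟩ := hσs w
    obtain ⟨e, he, j, rfl⟩ := S.decomp hy₀E x
    obtain ⟨k, i, l, hv⟩ := hspan (π ⟨e, he⟩)
    refine ⟨i, k, l, j, ?_⟩
    rw [map_mul, map_pow, ← hY, ← zpow_natCast]
    congr 1
    have : σ e = σ ((be ^ i * ae ^ k * ce ^ l : E) : K) := (hσπ ⟨e, he⟩ _).mpr (by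
      rw [hv, map_mul, map_mul, map_zpow, map_zpow, map_zpow, hae, hbe, hce, mul_comm (b ^ i)])
    rw [this]; simp [A, Bv, C]
  have huniq : ∀ i k l j : ℤ, Bv ^ i * A ^ k * C ^ l * Y ^ j = 1 →
      (p : ℤ) ∣ i ∧ (p : ℤ) ∣ k ∧ (p : ℤ) ∣ l ∧ (p : ℤ) ∣ j := by
    intro i k l j hw
    set q : E := be ^ i * ae ^ k * ce ^ l
    have hq : σ (q : K) = Bv ^ i * A ^ k * C ^ l := by simp [q, A, Bv, C]
    rw [← hq, hY, ← map_zpow, ← map_mul] at hw
    have hmem : (q : K) * y₀ ^ j ∈ S.Q := (QuotientGroup.eq_one_iff _).mp hw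
    have hj : (p : ℤ) ∣ j := by
      have h1 := hφE _ (S.Q_le hmem)
      rw [map_mul, hφE _ q.2, one_mul, map_zpow, hφy₀] at h1
      exact zpow_val_eq_one htp ht1 h1
    rw [map_mul, show σ (y₀ ^ j) = 1 by
      rw [map_zpow, ← hY, zpow_congr (hexpW Y) (show (p : ℤ) ∣ j - 0 by simpa using hj), zpow_zero], mul_one] at hw
    have h2 := (hσπ q 1).mp (by rw [hw, Subgroup.coe_one, map_one])
    rw [map_one, map_mul, map_mul, map_zpow, map_zpow, map_zpow, hae, hbe, hce, mul_comm (b ^ i)] at h2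
    obtain ⟨h3, h4, h5⟩ := hindep _ _ _ h2
    exact ⟨h4, h3, h5, hj⟩
  have hall : ∀ x : W, Commute x Bv → Commute x A → Commute x C → Commute x Y → ∀ w, Commute x w := by
    intro x h1 h2 h3 h4 w
    obtain ⟨i, k, l, j, rfl⟩ := hnf w
    exact (((h1.zpow_right i).mul_right (h2.zpow_right k)).mul_right (h3.zpow_right l)).mul_right (h4.zpow_right j)
  have hAcen : A ∈ Subgroup.center W := Subgroup.mem_center_iff.mpr fun w =>
    (hall A hAB (Commute.refl A) hAC hYA.symm w).symm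
  have hCcen : C ∈ Subgroup.center W := Subgroup.mem_center_iff.mpr fun w =>
    (hall C hBC.symm hAC.symm (Commute.refl C) hYC.symm w).symm
  set WA := Subgroup.zpowers A with hWA
  set WD := WA ⊔ Subgroup.zpowers C with hWD
  set WB := WD ⊔ Subgroup.zpowers Y with hWB
  have hWAc : WA ≤ Subgroup.center W := Subgroup.zpowers_le.mpr hAcen
  have hWDc : WD ≤ Subgroup.center W := sup_le hWAc (Subgroup.zpowers_le.mpr hCcen)
  have hWAn : WA.Normal := ⟨fun x hx g => by
    rw [Subgroup.mem_center_iff.mp (hWAc hx) g, mul_inv_cancel_right]; exact hx⟩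
  have hWDn : WD.Normal := ⟨fun x hx g => by
    rw [Subgroup.mem_center_iff.mp (hWDc hx) g, mul_inv_cancel_right]; exact hx⟩
  have hmemD : ∀ w, w ∈ WD ↔ ∃ k l : ℤ, w = A ^ k * C ^ l := fun w => by
    constructor
    · intro hw
      obtain ⟨_, ⟨k, rfl⟩, _, ⟨l, rfl⟩, rfl⟩ := Subgroup.mem_sup_of_normal_left.mp hw
      exact ⟨k, l, rfl⟩
    · rintro ⟨k, l, rfl⟩
      exact WD.mul_mem (Subgroup.mem_sup_left (Subgroup.zpow_mem _ (Subgroup.mem_zpowers A) k))
        (Subgroup.mem_sup_right (Subgroup.zpow_mem _ (Subgroup.mem_zpowers C) l))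
  have hmemB : ∀ w, w ∈ WB → ∃ k l j : ℤ, w = A ^ k * C ^ l * Y ^ j := fun w hw => by
    obtain ⟨d, hd, _, ⟨j, rfl⟩, rfl⟩ := Subgroup.mem_sup_of_normal_left.mp hw
    obtain ⟨k, l, rfl⟩ := (hmemD d).mp hd
    exact ⟨k, l, j, rfl⟩
  let τA := QuotientGroup.mk' WA
  let τD := QuotientGroup.mk' WD
  have hτA1 : ∀ w ∈ WA, τA w = 1 := fun w hw => (QuotientGroup.eq_one_iff w).mpr hw
  have hτD1 : ∀ w ∈ WD, τD w = 1 := fun w hw => (QuotientGroup.eq_one_iff w).mpr hw
  have hτAcomm : ∀ u v : W ⧸ WA, Commute u v := by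
    have hgenA : ∀ x : W ⧸ WA, Commute x (τA Bv) → Commute x (τA A) → Commute x (τA C) → Commute x (τA Y) →
        ∀ w, Commute x w := by
      intro x h1 h2 h3 h4 w
      obtain ⟨w, rfl⟩ := QuotientGroup.mk'_surjective WA w
      obtain ⟨i, k, l, j, rfl⟩ := hnf w
      show Commute x (τA _)
      rw [map_mul, map_mul, map_mul, map_zpow, map_zpow, map_zpow, map_zpow]
      exact (((h1.zpow_right i).mul_right (h2.zpow_right k)).mul_right (h3.zpow_right l)).mul_right (h4.zpow_right j)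
    have hBY : Commute (τA Bv) (τA Y) := by
      have h1 := congrArg τA (mul_inv_eq_iff_eq_mul.mp hYB)
      rw [map_mul, map_mul, map_mul, hτA1 A (Subgroup.mem_zpowers A), mul_one] at h1
      exact h1.symm
    intro u v
    refine hgenA u ?_ ?_ ?_ ?_ v <;> refine (hgenA _ ?_ ?_ ?_ ?_ u).symm <;>
      first
        | exact Commute.refl _
        | exact hBY
        | exact hBY.symm
        | exact hAB.map τA
        | exact hAB.symm.map τA
        | exact hAC.map τA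
        | exact hAC.symm.map τA
        | exact hBC.map τA
        | exact hBC.symm.map τA
        | exact hYA.map τA
        | exact hYA.symm.map τA
        | exact hYC.map τA
        | exact hYC.symm.map τA
  have hcomWA : ∀ u v : W, ⁅u, v⁆ ∈ WA := fun u v => by
    rw [← QuotientGroup.eq_one_iff]
    show τA _ = 1
    rw [map_commutatorElement]; exact commutatorElement_eq_one_iff_mul_comm.mpr (hτAcomm _ _)
  have hWAle : WA ≤ WD := le_sup_left
  have hWDle : WD ≤ WB := le_sup_left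
  have hτDcomm : ∀ u v : W ⧸ WD, Commute u v := by
    intro u v
    obtain ⟨u, rfl⟩ := QuotientGroup.mk'_surjective WD u
    obtain ⟨v, rfl⟩ := QuotientGroup.mk'_surjective WD v
    refine commutatorElement_eq_one_iff_mul_comm.mp ?_
    rw [← map_commutatorElement]
    exact (QuotientGroup.eq_one_iff _).mpr (hWAle (hcomWA u v))
  have hcc : ∀ u v : W, ⁅u, v⁆ ∈ Subgroup.center W := fun u v => hWAc (hcomWA u v)
  let adL : W → (W →* W) := fun z => MonoidHom.mk' (fun x => ⁅x, z⁆) fun x x' =>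
    CfsgLib.PGroup.commutatorElement_mul_left_of_central x x' z (hcc x' z)
  have hYB' : ⁅Y, Bv⁆ = A := by
    rw [commutatorElement_def, hYB, Subgroup.mem_center_iff.mp hAcen Bv, mul_inv_cancel_right]
  have hBY' : ⁅Bv, Y⁆ = A⁻¹ := by rw [← commutatorElement_inv, hYB']
  have had : ∀ i k l j : ℤ, ⁅Bv ^ i * A ^ k * C ^ l * Y ^ j, Bv⁆ = A ^ j ∧
      ⁅Bv ^ i * A ^ k * C ^ l * Y ^ j, Y⁆ = A ^ (-i) := by
    intro i k l j
    have h0 : ∀ x v : W, Commute x v → ⁅x, v⁆ = 1 := fun x v hxv => commutatorElement_eq_one_iff_mul_comm.mpr hxv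
    constructor
    · show adL Bv _ = _
      simp only [map_mul, map_zpow]
      show ⁅Bv, Bv⁆ ^ i * ⁅A, Bv⁆ ^ k * ⁅C, Bv⁆ ^ l * ⁅Y, Bv⁆ ^ j = A ^ j
      rw [commutatorElement_self, h0 _ _ hAB, h0 _ _ hBC.symm, hYB', one_zpow, one_zpow, one_zpow, one_mul, one_mul,
        one_mul]
    · show adL Y _ = _
      simp only [map_mul, map_zpow]
      show ⁅Bv, Y⁆ ^ i * ⁅A, Y⁆ ^ k * ⁅C, Y⁆ ^ l * ⁅Y, Y⁆ ^ j = A ^ (-i)
      rw [commutatorElement_self, h0 _ _ hYA.symm, h0 _ _ hYC.symm, hBY', one_zpow, one_zpow, one_zpow, mul_one,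
        mul_one, mul_one, inv_zpow, zpow_neg]
  have hA1 : A ≠ 1 := fun h' => hpi.not_dvd_one (huniq 0 1 0 0 (by simp [h'])).2.1
  have hcenD : ∀ w ∈ Subgroup.center W, w ∈ WD := by
    intro w hw
    obtain ⟨i, k, l, j, rfl⟩ := hnf w
    obtain ⟨e1, e2⟩ := had i k l j
    have hj : (p : ℤ) ∣ j := zpow_val_eq_one (hexpW A) hA1
      (by rw [← e1]; exact commutatorElement_eq_one_iff_mul_comm.mpr (Subgroup.mem_center_iff.mp hw Bv).symm)
    have hi : (p : ℤ) ∣ -i := zpow_val_eq_one (hexpW A) hA1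
      (by rw [← e2]; exact commutatorElement_eq_one_iff_mul_comm.mpr (Subgroup.mem_center_iff.mp hw Y).symm)
    rw [zpow_congr (hexpW Bv) (show (p : ℤ) ∣ i - 0 by simpa using hi),
      zpow_congr (hexpW Y) (show (p : ℤ) ∣ j - 0 by simpa using hj), zpow_zero, zpow_zero, one_mul, mul_one]
    exact (hmemD _).mpr ⟨k, l, rfl⟩
  -- the action on `W`
  let ψ : MulAut K →* MulAut W :=
    { toFun := fun u => QuotientGroup.congr S.Q S.Q u (by
        ext x
        constructor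
        · rintro ⟨z, hz, rfl⟩; exact hQchar u z hz
        · intro hx; exact ⟨u⁻¹ x, hQchar u⁻¹ x hx, MulAut.apply_inv_self _ u x⟩)
      map_one' := MulEquiv.ext fun q => by obtain ⟨q, rfl⟩ := hσs q; rfl
      map_mul' := fun u v => MulEquiv.ext fun q => by obtain ⟨q, rfl⟩ := hσs q; rfl }
  have hψ : ∀ u x, ψ u (σ x) = σ (u x) := fun _ _ => rfl
  have hAutA : ∀ (v : MulAut W), ∀ w ∈ WA, v w ∈ WA := by
    intro v w hw
    obtain ⟨k, rfl⟩ := hw
    show v (A ^ k) ∈ WA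
    rw [map_zpow, ← hYB', map_commutatorElement]
    exact WA.zpow_mem (hcomWA _ _) k
  have hAutD : ∀ (v : MulAut W), ∀ w ∈ WD, v w ∈ WD := fun v w hw => hcenD _
    (Subgroup.mem_center_iff.mpr fun g => by
      obtain ⟨g, rfl⟩ := v.surjective g
      rw [← map_mul, ← map_mul, Subgroup.mem_center_iff.mp (hWDc hw) g])
  have hβA : ψ β A = A ^ L := by
    rw [hA, hψ, show σ (β ae) = σ ((βE ae : E) : K) from rfl, ← map_zpow, ← SubgroupClass.coe_zpow, hσπ, hπβ,
      map_zpow, hae, hha]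
  have hβBv : ψ β Bv = Bv ^ L' := by
    rw [hBv, hψ, show σ (β be) = σ ((βE be : E) : K) from rfl, ← map_zpow, ← SubgroupClass.coe_zpow, hσπ, hπβ,
      map_zpow, hbe, hhb]
  have hβC : ψ β C = C := by
    rw [hC, hψ, show σ (β ce) = σ ((βE ce : E) : K) from rfl, hσπ, hπβ, hce, hhc]
  obtain ⟨z₁, hz₁, hβY⟩ : ∃ z ∈ WD, ψ β Y = Y ^ n * z := by
    refine ⟨(Y ^ n)⁻¹ * ψ β Y, ?_, by rw [mul_inv_cancel_left]⟩
    rw [← QuotientGroup.eq_one_iff]
    show τD _ = 1
    rw [map_mul, map_inv, inv_mul_eq_one, map_pow]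
    have h1 : ψ β Y = Bv ^ (L' * i₀) * (Bv ^ mb * A ^ kb * C ^ lb) * σ y ^ n := by
      rw [hY, hψ, hy₀, map_mul β, map_zpow β, hβy, map_mul, map_mul, map_zpow, map_pow,
        show σ (β be) = Bv ^ L' by rw [← hψ]; exact hβBv, ← zpow_mul, mul_assoc]
      congr 2
      rw [show σ eβ = σ ((be ^ mb * ae ^ kb * ce ^ lb : E) : K) from (hσπ ⟨eβ, heβ⟩ _).mpr (by
        rw [hmb, map_mul, map_mul, map_zpow, map_zpow, map_zpow, hae, hbe, hce, mul_comm (b ^ mb)])]
      simp [A, Bv, C]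
    have hσy : σ y = (Bv ^ i₀)⁻¹ * Y := by rw [hY, hy₀, map_mul, map_zpow, inv_mul_cancel_left]
    rw [h1, hσy, map_mul, map_mul, map_mul, map_mul, map_pow, map_mul, map_inv, (hτDcomm _ _).mul_pow,
      hτD1 _ (Subgroup.mem_sup_left (Subgroup.zpow_mem _ (Subgroup.mem_zpowers A) kb)),
      hτD1 _ (Subgroup.mem_sup_right (Subgroup.zpow_mem _ (Subgroup.mem_zpowers C) lb)), mul_one, mul_one,
      ← mul_assoc, map_zpow, map_zpow, map_zpow, ← zpow_neg, ← zpow_natCast ((τD Bv) ^ (-i₀)) n, ← zpow_mul,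
      ← zpow_add, ← zpow_add, zpow_congr (j := 0) (by rw [← map_pow, hexpW, map_one]) (by
        rw [sub_zero]
        obtain ⟨q, hq⟩ := hi₀
        exact ⟨-q, by linear_combination -hq⟩), zpow_zero, one_mul]
  -- `WB` is invariant under `β`
  have hβWB : ∀ w ∈ WB, ψ β w ∈ WB := by
    have hle : WB ≤ WB.comap (ψ β).toMonoidHom := sup_le (fun w hw => hWDle (hAutD _ w hw))
      (Subgroup.zpowers_le.mpr (by
        show ψ β Y ∈ WB
        rw [hβY]
        exact WB.mul_mem (WB.pow_mem (Subgroup.mem_sup_right (Subgroup.mem_zpowers Y)) n) (hWDle hz₁)))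
    exact fun w hw => hle hw
  let L₄ : ℕ → Subgroup W := fun i => if i = 0 then ⊥ else if i = 1 then WA else if i = 2 then WD
    else if i = 3 then WB else ⊤
  have hL₄ : ∀ i < 4, L₄ i ≤ L₄ (i + 1) := fun i hi => by
    interval_cases i
    · exact (bot_le : ⊥ ≤ WA)
    · exact hWAle
    · exact hWDle
    · exact (le_top : WB ≤ ⊤)
  set U := (seriesStab L₄ 4 hL₄).comap ψ ⊓ B with hUdef
  have hUp : IsPGroup p U := by
    obtain ⟨mK, hmK⟩ := IsPGroup.iff_card.mp hP
    obtain ⟨r, hr'⟩ := hP.index (frattini K)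
    let A₀ : Subgroup (MulAut K) :=
      { carrier := {u | ∀ x, u x * x⁻¹ ∈ frattini K}
        one_mem' := fun x => by simp
        mul_mem' := fun {u v} hu hv x => by
          have := (frattini K).mul_mem (hu (v x)) (hv x)
          rwa [mul_assoc, inv_mul_cancel_left] at this
        inv_mem' := fun {u} hu x => by
          have := (frattini K).inv_mem (hu (u⁻¹ x))
          rwa [MulAut.apply_inv_self, mul_inv_rev, inv_inv] at this }
    have hA₀ : IsPGroup p A₀ := by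
      obtain ⟨j, -, hj⟩ := (Nat.dvd_prime_pow hp').mp
        (CfsgLib.AutFrattini82.card_aut_trivial_dvd hmK hr' A₀ fun α hα => hα)
      exact IsPGroup.of_card hj
    intro u
    obtain ⟨k, hk⟩ := CfsgLib.Fusion.exists_pow_eq_one_of_stabilizes (X := W) (p := p) (hP.to_quotient S.Q) L₄ hL₄ (n := 4)
      (by simp [L₄]) (α := ψ (u : MulAut K)) ⟨0, fun x hx => by
        have : x = 1 := Subgroup.mem_bot.mp hx
        simp [this]⟩ u.2.1
    have hQΦ : S.Q ≤ frattini K := hQP.trans (pw_le fun x _ => CfsgLib.PGroup.pow_mem_frattini hP x)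
    have hmem : (u : MulAut K) ^ p ^ k ∈ A₀ := fun x => hQΦ (by
      rw [← QuotientGroup.eq_one_iff]
      show σ _ = 1
      rw [map_mul, map_inv, ← hψ, map_pow, hk, MulAut.one_apply, mul_inv_cancel])
    obtain ⟨k', hk'⟩ := hA₀ ⟨_, hmem⟩
    refine ⟨k + k', Subtype.ext ?_⟩
    rw [SubmonoidClass.coe_pow, pow_add, pow_mul]
    exact congrArg Subtype.val hk'
  have hUinner : ∀ k, MulAut.conj k ∈ U := fun k => by
    refine ⟨fun i hi x hx => ?_, hinner k⟩
    obtain ⟨x', rfl⟩ := hσs x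
    rw [hψ, MulAut.conj_apply, map_mul, map_mul, map_inv]
    interval_cases i
    · show _ ∈ (⊥ : Subgroup W)
      rw [Subgroup.mem_bot, Subgroup.mem_center_iff.mp (hWAc hx) (σ k), mul_inv_cancel_right, inv_mul_cancel]
    all_goals
      have h1 := hcomWA (σ x')⁻¹ (σ k)
      rw [commutatorElement_def, inv_inv] at h1
      simp only [mul_assoc] at h1 ⊢
      first
        | exact h1
        | exact hWAle h1
        | exact hWDle (hWAle h1)
        | exact Subgroup.mem_top _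
  have hβinv : ∀ i < 5, ∀ x ∈ L₄ i, ψ β x ∈ L₄ i := fun i hi x hx => by
    interval_cases i
    · have : x = 1 := Subgroup.mem_bot.mp hx
      rw [this, map_one]; exact one_mem _
    · exact hAutA _ x hx
    · exact hAutD _ x hx
    · exact hβWB x hx
    · exact Subgroup.mem_top _
  have hUβ : ∀ u ∈ U, β * u * β⁻¹ ∈ U := fun u hu => by
    refine ⟨fun i hi x hx => ?_, B.mul_mem (B.mul_mem hβB hu.2) (B.inv_mem hβB)⟩
    obtain ⟨z, hz⟩ := Finite.surjective_of_injective (f := fun z : L₄ (i + 1) =>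
      (⟨ψ β z, hβinv (i + 1) (by omega) z z.2⟩ : L₄ (i + 1)))
      (fun v w hvw => Subtype.ext ((ψ β).injective (congrArg Subtype.val hvw))) ⟨x, hx⟩
    have hzx : ψ β (z : W) = x := congrArg Subtype.val hz
    have h1 := hβinv i (by omega) _ (hu.1 i hi z z.2)
    rw [map_mul (ψ β), map_inv, hzx] at h1
    rw [map_mul, map_mul, map_inv, MulAut.mul_apply, MulAut.mul_apply, ← hzx, MulAut.inv_apply_self, hzx]
    exact h1
  -- a moving element of `U` fixing `WB`
  let V₂ := W ⧸ WD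
  let _ : CommGroup V₂ := { (inferInstance : Group V₂) with mul_comm := hτDcomm }
  let ψ₂ : MulAut K →* MulAut V₂ :=
    { toFun := fun u => QuotientGroup.congr WD WD (ψ u) (by
        ext x
        constructor
        · rintro ⟨z, hz, rfl⟩; exact hAutD _ z hz
        · intro hx; exact ⟨(ψ u)⁻¹ x, hAutD _ x hx, MulAut.apply_inv_self _ (ψ u) x⟩)
      map_one' := MulEquiv.ext fun q => by
        obtain ⟨q, rfl⟩ := QuotientGroup.mk'_surjective WD q
        simp
      map_mul' := fun u v => MulEquiv.ext fun q => by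
        obtain ⟨q, rfl⟩ := QuotientGroup.mk'_surjective WD q
        simp }
  have hψ₂ : ∀ u w, ψ₂ u (τD w) = τD (ψ u w) := fun _ _ => rfl
  have hindD : ∀ i j : ℤ, τD Bv ^ i * τD Y ^ j = 1 → (p : ℤ) ∣ i ∧ (p : ℤ) ∣ j := fun i j hw => by
    rw [← map_zpow τD, ← map_zpow τD, ← map_mul τD] at hw
    obtain ⟨k, l, hkl⟩ := (hmemD _).mp ((QuotientGroup.eq_one_iff _).mp hw)
    have h1 : Bv ^ i * A ^ (-k) * C ^ (-l) * Y ^ j = 1 := by
      have hAi : Commute (A ^ (-k) * C ^ (-l)) (Y ^ j) := ((hYA.symm.zpow_zpow _ _).mul_left (hYC.symm.zpow_zpow _ _))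
      rw [mul_assoc (Bv ^ i) (A ^ (-k)), mul_assoc (Bv ^ i), hAi.eq, ← mul_assoc, hkl, ← mul_assoc,
        mul_assoc (A ^ k) (C ^ l), ((hAC.symm.zpow_zpow l (-k))).eq, ← mul_assoc, ← zpow_add, add_neg_cancel,
        zpow_zero, one_mul, ← zpow_add, add_neg_cancel, zpow_zero]
    exact ⟨(huniq _ _ _ _ h1).1, (huniq _ _ _ _ h1).2.2.2⟩
  have he₀ : τD Bv ≠ 1 := fun h' => hpi.not_dvd_one (hindD 1 0 (by simp [h'])).1
  have hexp₂ : ∀ q : V₂, q ^ p = 1 := fun q => by
    obtain ⟨q, rfl⟩ := QuotientGroup.mk'_surjective WD q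
    rw [← map_pow, hexpW, map_one]
  have hb₀ : τD Y ∉ Subgroup.zpowers (τD Bv) := fun ⟨i, hi⟩ => hpi.not_dvd_one (by
    have := (hindD i (-1) (by rw [zpow_neg, zpow_one]; exact mul_inv_eq_one.mpr hi)).2
    rwa [dvd_neg] at this)
  have hcard₂ : Nat.card V₂ = p ^ 2 := by
    have htop : Subgroup.zpowers (τD Bv) ⊔ Subgroup.zpowers (τD Y) = ⊤ := top_le_iff.mp fun q _ => by
      obtain ⟨q, rfl⟩ := QuotientGroup.mk'_surjective WD q
      obtain ⟨i, k, l, j, rfl⟩ := hnf q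
      show τD _ ∈ _
      rw [map_mul, map_mul, map_mul, hτD1 (A ^ k) ((hmemD _).mpr ⟨k, 0, by simp⟩),
        hτD1 (C ^ l) ((hmemD _).mpr ⟨0, l, by simp⟩), mul_one, mul_one, map_zpow τD, map_zpow τD]
      exact Subgroup.mul_mem _ (Subgroup.mem_sup_left (Subgroup.zpow_mem _ (Subgroup.mem_zpowers _) i))
        (Subgroup.mem_sup_right (Subgroup.zpow_mem _ (Subgroup.mem_zpowers _) j))
    let g : Subgroup.zpowers (τD Bv) × Subgroup.zpowers (τD Y) →* V₂ :=
      MonoidHom.noncommCoprod (Subgroup.zpowers (τD Bv)).subtype (Subgroup.zpowers (τD Y)).subtype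
        fun _ _ => Commute.all _ _
    have hg : g.range = ⊤ := ((MonoidHom.noncommCoprod_range _ _ _).trans
      (by rw [Subgroup.range_subtype, Subgroup.range_subtype])).trans htop
    have hinj : Function.Injective g := by
      rw [injective_iff_map_eq_one]
      rintro ⟨⟨_, i, rfl⟩, ⟨_, j, rfl⟩⟩ hij
      obtain ⟨h1, h2⟩ := hindD i j hij
      refine Prod.ext (Subtype.ext ?_) (Subtype.ext ?_)
      · show τD Bv ^ i = 1
        rw [zpow_congr (hexp₂ _) (show (p : ℤ) ∣ i - 0 by simpa using h1), zpow_zero]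
      · show τD Y ^ j = 1
        rw [zpow_congr (hexp₂ _) (show (p : ℤ) ∣ j - 0 by simpa using h2), zpow_zero]
    have := Nat.card_congr (Equiv.ofBijective g ⟨hinj, MonoidHom.range_eq_top.mp hg⟩)
    rw [← this, Nat.card_prod, Nat.card_zpowers, Nat.card_zpowers, orderOf_eq_prime (hexp₂ _) he₀,
      orderOf_eq_prime (hexp₂ _) (fun h' => hb₀ (by rw [h']; exact one_mem _)), pow_two]
  -- membership in `E` is read off in `V₂`
  have hEiff : ∀ x : K, x ∈ E ↔ τD (σ x) ∈ Subgroup.zpowers (τD Bv) := by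
    intro x
    constructor
    · intro hx
      obtain ⟨k, i, l, hv⟩ := hspan (π ⟨x, hx⟩)
      refine ⟨i, ?_⟩
      rw [show σ x = σ ((be ^ i * ae ^ k * ce ^ l : E) : K) from (hσπ ⟨x, hx⟩ _).mpr (by
        rw [hv, map_mul, map_mul, map_zpow, map_zpow, map_zpow, hae, hbe, hce, mul_comm (b ^ i)])]
      simp [A, Bv, C, hτD1 A (hWAle (Subgroup.mem_zpowers A)), hτD1 C (Subgroup.mem_sup_right (Subgroup.mem_zpowers C))]
    · rintro ⟨i, hi⟩
      obtain ⟨e, he, j, rfl⟩ := S.decomp hy₀E x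
      obtain ⟨k, i', l, hv⟩ := hspan (π ⟨e, he⟩)
      have h1 : τD (σ (e * y₀ ^ j)) = τD Bv ^ i' * τD Y ^ (j : ℤ) := by
        rw [map_mul, map_mul, map_pow, map_pow, ← hY, zpow_natCast,
          show σ e = σ ((be ^ i' * ae ^ k * ce ^ l : E) : K) from (hσπ ⟨e, he⟩ _).mpr (by
            rw [hv, map_mul, map_mul, map_zpow, map_zpow, map_zpow, hae, hbe, hce, mul_comm (b ^ i')])]
        simp [A, Bv, C, hτD1 A (hWAle (Subgroup.mem_zpowers A)), hτD1 C (Subgroup.mem_sup_right (Subgroup.mem_zpowers C))]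
      have h2 : τD Bv ^ (i' - i) * τD Y ^ (j : ℤ) = 1 := by
        rw [zpow_sub, mul_right_comm, ← h1, ← (show τD Bv ^ i = τD (σ (e * y₀ ^ j)) from hi), mul_inv_cancel]
      obtain ⟨q, rfl⟩ := Int.natCast_dvd_natCast.mp (hindD _ _ h2).2
      exact E.mul_mem he (by rw [pow_mul]; exact E.pow_mem (S.pow_mem_E y₀) q)
  have hmapE : ∀ u : MulAut K, ψ₂ u (τD Bv) ∈ Subgroup.zpowers (τD Bv) → ∀ e ∈ E, u e ∈ E := by
    intro u hu e he
    rw [hEiff] at he ⊢
    obtain ⟨i, hi⟩ := he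
    rw [← hψ, ← hψ₂, ← hi]
    show ψ₂ u (τD Bv ^ i) ∈ _
    rw [map_zpow]; exact Subgroup.zpow_mem _ hu i
  have hmove : ψ₂ ξ (τD Bv) ∉ Subgroup.zpowers (τD Bv) := fun h' => hne
    (Subgroup.eq_of_le_of_card_ge (by rintro _ ⟨e, he, rfl⟩; exact hmapE ξ h' e he)
      (by rw [Subgroup.card_map_of_injective ξ.injective]))
  have : Finite (MulAut K) := Finite.of_injective _ DFunLike.coe_injective
  obtain ⟨g, hg, hfixY, hmoveB⟩ := exists_conj_fix hexp₂ hcard₂ ψ₂ he₀ hb₀ (β := β) (i := L') (j := n)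
    (by rw [hψ₂, hβBv, map_zpow])
    (by rw [hψ₂, hβY, map_mul, hτD1 z₁ hz₁, mul_one, map_pow, zpow_natCast])
    (fun hd => hnL' (by rw [← dvd_neg, neg_sub]; exact hd)) hξ hmove
  have hgB : g ∈ B := (Subgroup.closure_le B).mpr
    (by rintro x (rfl | rfl); exacts [hβB, hξB]) hg
  set ξ' := g * ξ * g⁻¹ with hξ'
  have hξ'k : ξ' ^ p ^ k₀ = 1 := by rw [hξ', conj_pow, hξ, mul_one, mul_inv_cancel]
  have hξ'B : ∀ w ∈ WB, ψ ξ' w ∈ WB := by
    have hle : WB ≤ WB.comap (ψ ξ').toMonoidHom := sup_le (fun w hw => hWDle (hAutD _ w hw))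
      (Subgroup.zpowers_le.mpr (by
        show ψ ξ' Y ∈ WB
        rw [hψ₂] at hfixY
        have h1 : Y⁻¹ * ψ ξ' Y ∈ WD := QuotientGroup.eq.mp hfixY.symm
        have := WB.mul_mem (Subgroup.mem_sup_right (Subgroup.mem_zpowers Y)) (hWDle h1)
        rwa [mul_inv_cancel_left] at this))
    exact fun w hw => hle hw
  obtain ⟨mW, hmW⟩ := IsPGroup.iff_card.mp (hP.to_quotient S.Q)
  have hC1 : C ∉ WA := fun ⟨k, hk⟩ => hpi.not_dvd_one (by
    have := (huniq 0 k (-1) 0 (by simp [show A ^ k = C from hk])).2.2.1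
    rwa [dvd_neg] at this)
  have hY1 : Y ∉ WD := fun hw => hpi.not_dvd_one (by
    obtain ⟨k, l, hkl⟩ := (hmemD _).mp hw
    have := (huniq 0 k l (-1) (by rw [zpow_zero, one_mul, ← hkl, zpow_neg, zpow_one, mul_inv_cancel])).2.2.2
    rwa [dvd_neg] at this)
  have hWAcard : Nat.card WA = p := by rw [hWA, Nat.card_zpowers, orderOf_eq_prime (hexpW A) hA1]
  have hWcard : Nat.card W = p ^ 4 := by
    show Nat.card (K ⧸ S.Q) = p ^ 4
    have h1 := S.Q.card_mul_index
    have h2 := E.card_mul_index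
    rw [S.index, S.card_E, ← h1, mul_assoc] at h2
    rw [← Subgroup.index_eq_card]
    exact (Nat.eq_of_mul_eq_mul_left Nat.card_pos h2).symm.trans (by ring)
  have hWDcard : p ^ 2 ≤ Nat.card WD := by
    have := CfsgLib.FusionFourth.card_lt_mul (p := p) hmW (lt_of_le_of_ne hWAle
      fun e => hC1 (e.symm ▸ Subgroup.mem_sup_right (Subgroup.mem_zpowers C)))
    rwa [hWAcard, ← pow_two] at this
  have hWBcard : p ^ 3 ≤ Nat.card WB := by
    have := CfsgLib.FusionFourth.card_lt_mul (p := p) hmW (lt_of_le_of_ne hWDle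
      fun e => hY1 (e.symm ▸ Subgroup.mem_sup_right (Subgroup.mem_zpowers Y)))
    calc p ^ 3 = p ^ 2 * p := by ring
      _ ≤ _ := (Nat.mul_le_mul_right _ hWDcard).trans this
  have hBne : WB ≠ ⊤ := fun e => by
    obtain ⟨k, l, j, hkl⟩ := hmemB Bv (e ▸ Subgroup.mem_top Bv)
    refine he₀ ?_
    rw [hkl, map_mul, hτD1 _ ((hmemD _).mpr ⟨k, l, rfl⟩), one_mul, map_zpow]
    have h1 := hindD 1 (-j) (by
      rw [zpow_one, hkl, map_mul, hτD1 _ ((hmemD _).mpr ⟨k, l, rfl⟩), one_mul, map_zpow, zpow_neg, mul_inv_cancel])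
    exact absurd h1.1 hpi.not_dvd_one
  have hcards : Nat.card WD = p ^ 2 ∧ Nat.card WB = p ^ 3 := by
    have hb : Nat.card WB * p ≤ p ^ 4 := by
      have := CfsgLib.FusionFourth.card_lt_mul (p := p) hmW (lt_top_iff_ne_top.mpr hBne)
      rwa [Subgroup.card_top, hWcard] at this
    have hB3 : Nat.card WB = p ^ 3 := le_antisymm
      (Nat.le_of_mul_le_mul_right (hb.trans (le_of_eq (by ring))) hp'.pos) hWBcard
    refine ⟨le_antisymm ?_ hWDcard, hB3⟩
    have := CfsgLib.FusionFourth.card_lt_mul (p := p) hmW (lt_of_le_of_ne hWDle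
      fun e => hY1 (e.symm ▸ Subgroup.mem_sup_right (Subgroup.mem_zpowers Y)))
    rw [hB3, pow_succ] at this
    exact Nat.le_of_mul_le_mul_right this hp'.pos
  have hξ'U : ξ' ∈ U := by
    refine ⟨fun i hi x hx => ?_, B.mul_mem (B.mul_mem hgB hξB) (B.inv_mem hgB)⟩
    have hinv : ∀ i < 5, ∀ x ∈ L₄ i, ψ ξ' x ∈ L₄ i := fun i hi x hx => by
      interval_cases i
      · have : x = 1 := Subgroup.mem_bot.mp hx
        rw [this, map_one]; exact one_mem _
      · exact hAutA _ x hx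
      · exact hAutD _ x hx
      · exact hξ'B x hx
      · exact Subgroup.mem_top _
    have hn4 : ∀ i < 5, (L₄ i).Normal := fun i hi => by
      interval_cases i
      · exact (inferInstance : (⊥ : Subgroup W).Normal)
      · exact hWAn
      · exact hWDn
      · exact ⟨fun z hz g => by
          have h1 := WB.mul_mem (hWDle (hWAle (hcomWA g z))) hz
          show g * z * g⁻¹ ∈ WB
          simpa [commutatorElement_def] using h1⟩
      · exact (inferInstance : (⊤ : Subgroup W).Normal)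
    have := hn4 i (by omega)
    refine CfsgLib.FusionFlag.stabilizes_step (p := p) (hL₄ i hi) ?_ (u := ψ ξ') (k := k₀)
      (by rw [← map_pow, hξ'k, map_one]) (hinv (i + 1) (by omega)) (hinv i (by omega)) x hx
    interval_cases i
    · show Nat.card WA = p * Nat.card (⊥ : Subgroup W)
      rw [hWAcard, Subgroup.card_bot, mul_one]
    · show Nat.card WD = p * Nat.card WA
      rw [hcards.1, hWAcard, pow_two]
    · show Nat.card WB = p * Nat.card WD
      rw [hcards.1, hcards.2]; ring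
    · show Nat.card (⊤ : Subgroup W) = p * Nat.card WB
      rw [hcards.2, Subgroup.card_top, hWcard]; ring
  obtain ⟨M, _, _, ι, cc, β', hMp, hMr, hιinj, hconjM, hcrange, hstabM, hβ'⟩ :=
    hM U inf_le_right hUp hUinner β hβB hUβ
  obtain ⟨x, hx⟩ : ξ' ∈ cc.range := hcrange ▸ hξ'U
  have hcι : ∀ k, cc (ι k) = MulAut.conj k := fun k => MulEquiv.ext fun z => hιinj (by
    rw [← hconjM, MulAut.conj_apply, map_mul, map_mul, map_inv])
  have hccβ : ∀ m k, cc (β' m) (β k) = β (cc m k) := fun m k => hιinj (by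
    rw [← hconjM, ← hβ', ← map_inv, ← map_mul, ← map_mul, hconjM, hβ'])
  have hstab : ∀ m, ∀ i < 4, ∀ w ∈ L₄ (i + 1), w⁻¹ * ψ (cc m) w ∈ L₄ i := fun m =>
    (hcrange ▸ (⟨m, rfl⟩ : cc m ∈ cc.range) : cc m ∈ U).1
  have hfixA : ∀ m, ψ (cc m) A = A := fun m =>
    (inv_mul_eq_one.mp (Subgroup.mem_bot.mp (hstab m 0 (by norm_num) A (Subgroup.mem_zpowers A)))).symm
  have hstabC : ∀ m, ∃ γ : ℤ, ψ (cc m) C = C * A ^ γ := fun m => by
    obtain ⟨γ, hγ⟩ := hstab m 1 (by norm_num) C (Subgroup.mem_sup_right (Subgroup.mem_zpowers C))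
    exact ⟨γ, by rw [show A ^ γ = C⁻¹ * ψ (cc m) C from hγ, mul_inv_cancel_left]⟩
  have hstabY : ∀ m, ∃ α δ : ℤ, ψ (cc m) Y = Y * (A ^ α * C ^ δ) := fun m => by
    obtain ⟨α, δ, hαδ⟩ := (hmemD _).mp (hstab m 2 (by norm_num) Y (Subgroup.mem_sup_right (Subgroup.mem_zpowers Y)))
    exact ⟨α, δ, by rw [← hαδ, mul_inv_cancel_left]⟩
  have hrot : ∀ m, ∃ r : ℤ, τD (ψ (cc m) Bv) = τD Bv * τD Y ^ r := fun m => by
    obtain ⟨k, l, j, hkl⟩ := hmemB _ (hstab m 3 (by norm_num) Bv (Subgroup.mem_top _))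
    refine ⟨j, ?_⟩
    rw [← mul_inv_cancel_left Bv (ψ (cc m) Bv), hkl, map_mul, map_mul, hτD1 _ ((hmemD _).mpr ⟨k, l, rfl⟩),
      one_mul, map_zpow]
  have hYfix : ∀ m, τD (ψ (cc m) Y) = τD Y := fun m => by
    obtain ⟨α, δ, h1⟩ := hstabY m
    rw [h1, map_mul, hτD1 _ ((hmemD _).mpr ⟨α, δ, rfl⟩), mul_one]
  have hrotpow : ∀ {m : M} {r : ℤ}, τD (ψ (cc m) Bv) = τD Bv * τD Y ^ r →
      ∀ i : ℕ, τD (ψ (cc (m ^ i)) Bv) = τD Bv * τD Y ^ (r * i) := by
    intro m r hm i
    induction i with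
    | zero => simp
    | succ i ih =>
      rw [pow_succ', map_mul cc, map_mul ψ, MulAut.mul_apply, ← hψ₂, ih, map_mul, map_zpow, hψ₂, hψ₂, hm,
        hYfix, mul_assoc, ← zpow_add]
      congr 2
      push_cast; ring
  have hYD1 : τD Y ≠ 1 := fun h' => hY1 ((QuotientGroup.eq_one_iff _).mp h')
  have hrange_of : ∀ m, τD (ψ (cc m) Bv) = τD Bv → m ∈ ι.range := fun m hm =>
    hstabM m (hmapE _ (by rw [hψ₂, hm]; exact Subgroup.mem_zpowers _))
  obtain ⟨r, hr₁⟩ := hrot x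
  have hr0 : ¬ (p : ℤ) ∣ r := fun hd => hmoveB (by
    rw [← hx, hψ₂, hr₁, zpow_congr (hexp₂ _) (show (p : ℤ) ∣ r - 0 by simpa using hd), zpow_zero, mul_one]
    exact Subgroup.mem_zpowers _)
  have hdec : ∀ {x : M} {r : ℤ}, τD (ψ (cc x) Bv) = τD Bv * τD Y ^ r → ¬ (p : ℤ) ∣ r →
      ∀ m, ∃ (i : ℕ) (k : K), m = x ^ i * ι k := by
    intro x r hx hr m
    obtain ⟨r', hr'⟩ := hrot m
    have hco : IsCoprime r (p : ℤ) := by
      rw [Int.isCoprime_iff_gcd_eq_one, Int.gcd_comm]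
      exact (Nat.Prime.coprime_iff_not_dvd hp').mpr fun hd => hr (Int.natCast_dvd.mpr hd)
    obtain ⟨u, v, huv⟩ := hco
    set i := ((r' * u) % p).toNat with hi
    have hi' : (p : ℤ) ∣ r * i - r' := by
      rw [hi, Int.toNat_of_nonneg (Int.emod_nonneg _ (by exact_mod_cast hp'.ne_zero))]
      obtain ⟨q, hq⟩ := (Int.ModEq.dvd (Int.mod_modEq (r' * u) p).symm : (p : ℤ) ∣ (r' * u) % p - r' * u)
      exact ⟨r * q - r' * v, by linear_combination r * hq + r' * huv⟩
    obtain ⟨k, hk⟩ : (x ^ i)⁻¹ * m ∈ ι.range := by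
      refine hrange_of _ ((ψ₂ (cc (x ^ i))).injective ?_)
      rw [← hψ₂, ← MulAut.mul_apply, ← map_mul ψ₂, ← map_mul cc, mul_inv_cancel_left, hψ₂, hr', hψ₂,
        hrotpow hx i, zpow_congr (hexp₂ _) hi']
    exact ⟨i, k, by rw [hk, mul_inv_cancel_left]⟩
  have hsplit : ∀ (x : M) (i : ℕ) (k : K) (w : W),
      ψ (cc (x ^ i * ι k)) w = ψ (cc (x ^ i)) (σ k * w * (σ k)⁻¹) := by
    intro x i k w
    obtain ⟨w, rfl⟩ := hσs w
    rw [map_mul cc, map_mul ψ, MulAut.mul_apply, hcι, hψ (MulAut.conj k), MulAut.conj_apply, map_mul σ, map_mul σ,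
      map_inv σ]
  have hscal : ∀ {x : M} {r : ℤ} {i : ℕ} {k : K}, τD (ψ (cc x) Bv) = τD Bv * τD Y ^ r → ¬ (p : ℤ) ∣ r →
      β' x = x ^ i * ι k → (p : ℤ) ∣ i - L ^ 3 := by
    intro x r i k hx hr hik
    have h1 : ψ (cc (β' x)) (ψ β Bv) = ψ β (ψ (cc x) Bv) := by rw [hBv, hψ, hψ, hψ, hψ, hccβ]
    have h2 := congrArg τD h1
    rw [hik, hsplit, hβBv, ← hψ₂, map_mul τD, map_mul τD, map_inv, (hτDcomm (τD (σ k)) _).eq, mul_inv_cancel_right,
      map_zpow, map_zpow, hψ₂, hrotpow hx i, ← hψ₂ β, hx, map_mul, map_zpow, hψ₂, hψ₂, hβBv, hβY, map_mul,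
      hτD1 z₁ hz₁, mul_one, map_zpow, map_pow, (hτDcomm _ _).mul_zpow, ← zpow_mul, ← zpow_natCast (τD Y),
      ← zpow_mul] at h2
    have h3 := dvd_of_zpow_eq (hexp₂ _) hYD1 (mul_left_cancel h2)
    have h4 : (p : ℤ) ∣ (i * L' - n : ℤ) := prime_dvd_cases (j := r)
      (by rwa [show ((i : ℤ) * L' - n) * r = r * i * L' - n * r by ring]) hr
    have h5 := dvd_sub (dvd_add (dvd_mul_of_dvd_right h4 L) (dvd_mul_of_dvd_right hnL L))
      (dvd_mul_of_dvd_right hLL (i : ℤ))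
    rwa [show L * ((i : ℤ) * L' - n) + L * ((n : ℤ) - L ^ 2) - (i : ℤ) * (L * L' - 1) = i - L ^ 3 by ring] at h5
  -- first: `C` is fixed and `Y` is fixed modulo `WA`
  obtain ⟨m₀, k₁, hm₀⟩ := hdec hr₁ hr0 (β' x)
  have hm₀3 := hscal hr₁ hr0 hm₀
  obtain ⟨γ, hγ⟩ := hstabC x
  obtain ⟨α, δ, hαδ⟩ := hstabY x
  have hCpow : ∀ i : ℕ, ψ (cc (x ^ i)) C = C * A ^ (γ * i) := by
    intro i
    induction i with
    | zero => simp
    | succ i ih =>
      rw [pow_succ', map_mul cc, map_mul ψ, MulAut.mul_apply, ih, map_mul, map_zpow, hfixA, hγ, mul_assoc,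
        ← zpow_add]
      congr 2
      push_cast; ring
  have hτAA : τA A = 1 := hτA1 A (Subgroup.mem_zpowers A)
  have hfixτC : ∀ m, τA (ψ (cc m) C) = τA C := fun m => by
    obtain ⟨g', hg'⟩ := hstabC m
    rw [hg', map_mul, map_zpow, hτAA, one_zpow, mul_one]
  have hYpow : ∀ i : ℕ, τA (ψ (cc (x ^ i)) Y) = τA Y * τA C ^ (δ * i) := by
    intro i
    induction i with
    | zero => simp
    | succ i ih =>
      rw [pow_succ, map_mul cc, map_mul ψ, MulAut.mul_apply, hαδ, map_mul, map_mul, map_mul, map_mul,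
        ih, map_zpow, map_zpow, map_zpow, map_zpow, hfixA, hτAA, one_zpow, one_mul, hfixτC, mul_assoc, ← zpow_add]
      congr 2
      push_cast; ring
  have hγ0 : (p : ℤ) ∣ γ := by
    have h1 : ψ (cc (β' x)) (ψ β C) = ψ β (ψ (cc x) C) := by rw [hC, hψ, hψ, hψ, hψ, hccβ]
    rw [hm₀, hsplit, hβC, Subgroup.mem_center_iff.mp hCcen (σ k₁), mul_inv_cancel_right, hCpow, hγ, map_mul, hβC,
      map_zpow, hβA, ← zpow_mul] at h1
    have h2 := dvd_of_zpow_eq (hexpW A) hA1 (mul_left_cancel h1)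
    refine prime_dvd_cases (j := L ^ 3 - L) ?_ fun hd => ?_
    · have := dvd_sub h2 (dvd_mul_of_dvd_right hm₀3 γ)
      rwa [show γ * (m₀ : ℤ) - L * γ - γ * ((m₀ : ℤ) - L ^ 3) = γ * (L ^ 3 - L) by ring] at this
    · rw [show L ^ 3 - L = (L ^ 2 - 1) * L by ring] at hd
      exact hL2 (prime_dvd_cases hd hL0)
  have hCA : τA C ≠ 1 := fun h' => hC1 ((QuotientGroup.eq_one_iff _).mp h')
  have hexpA : ∀ q : W ⧸ WA, q ^ p = 1 := fun q => by
    obtain ⟨q, rfl⟩ := QuotientGroup.mk'_surjective WA q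
    rw [← map_pow, hexpW, map_one]
  have hδ0 : (p : ℤ) ∣ δ := by
    have h1 : ψ (cc (β' x)) (ψ β Y) = ψ β (ψ (cc x) Y) := by rw [hY, hψ, hψ, hψ, hψ, hccβ]
    obtain ⟨ka, la, hz₁'⟩ := (hmemD z₁).mp hz₁
    have h2 := congrArg τA h1
    rw [hm₀, hsplit, hαδ, map_mul (ψ β), map_mul (ψ β), map_zpow (ψ β), map_zpow (ψ β), hβA, hβC, hβY, hz₁'] at h2
    simp only [map_mul, map_pow (ψ (cc (x ^ m₀))), map_pow τA, map_zpow, map_inv] at h2
    rw [(hτAcomm _ _).eq] at h2
    simp only [map_mul, map_pow τA, map_zpow, map_inv, hfixA, hτAA, one_zpow, one_mul, mul_one, hfixτC, hYpow,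
      inv_mul_cancel_left] at h2
    rw [(hτAcomm _ _).mul_pow, mul_assoc, (hτAcomm ((τA C ^ (δ * m₀)) ^ n) _).eq, ← mul_assoc] at h2
    rw [← zpow_natCast (τA C ^ (δ * m₀)) n, ← zpow_mul] at h2
    have h3 := dvd_of_zpow_eq (hexpA _) hCA (mul_left_cancel h2)
    refine prime_dvd_cases (j := L ^ 5 - 1) ?_ hL5
    have := dvd_sub (dvd_sub h3 (dvd_mul_of_dvd_right hm₀3 (δ * n))) (dvd_mul_of_dvd_right hnL (δ * L ^ 3))
    rwa [show δ * (m₀ : ℤ) * n - δ - δ * n * ((m₀ : ℤ) - L ^ 3) - δ * L ^ 3 * ((n : ℤ) - L ^ 2) =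
      δ * (L ^ 5 - 1) by ring] at this
  have hxC : ψ (cc x) C = C := by
    rw [hγ, zpow_congr (hexpW A) (show (p : ℤ) ∣ γ - 0 by simpa using hγ0), zpow_zero, mul_one]
  have hxY : ψ (cc x) Y = Y * A ^ α := by
    rw [hαδ, zpow_congr (hexpW C) (show (p : ℤ) ∣ δ - 0 by simpa using hδ0), zpow_zero, mul_one]
  -- adjust to centralise `WB`
  set x' := x * ι ((be : K) ^ α) with hx'
  have hsplit' : ∀ w, ψ (cc x') w = ψ (cc x) (Bv ^ α * w * (Bv ^ α)⁻¹) := fun w => by
    have := hsplit x 1 ((be : K) ^ α) w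
    rwa [pow_one, ← hx', map_zpow σ, ← hBv] at this
  have hu'A : ψ (cc x') A = A := hfixA x'
  have hu'C : ψ (cc x') C = C := by
    rw [hsplit', Subgroup.mem_center_iff.mp hCcen (Bv ^ α), mul_inv_cancel_right, hxC]
  have hu'Y : ψ (cc x') Y = Y := by
    have h1 : Bv ^ α * Y * (Bv ^ α)⁻¹ = A ^ (-α) * Y := by
      have := (had α 0 0 0).2
      simp only [zpow_zero, mul_one] at this
      rw [← this, commutatorElement_def]
      group
    rw [hsplit', h1, map_mul, map_zpow, hfixA, hxY, ← mul_assoc,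
      (show Commute (A ^ (-α)) Y from hYA.symm.zpow_left _).eq, mul_assoc, ← zpow_add, neg_add_cancel, zpow_zero,
      mul_one]
  have hu'B : τD (ψ (cc x') Bv) = τD Bv * τD Y ^ r := by
    rw [hsplit', ((Commute.refl Bv).zpow_left α).eq, mul_inv_cancel_right, hr₁]
  -- the section
  set ιQ := S.Q.map ι with hιQ
  have hιQn : ιQ.Normal := ⟨fun z hz g => by
    obtain ⟨q, hq, rfl⟩ := hz
    exact ⟨cc g q, hQchar _ _ hq, (hconjM g q).symm⟩⟩
  let τM := QuotientGroup.mk' ιQ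
  let κ : W →* M ⧸ ιQ := QuotientGroup.lift S.Q (τM.comp ι) fun q hq =>
    (QuotientGroup.eq_one_iff _).mpr ⟨q, hq, rfl⟩
  have hκ : ∀ k, κ (σ k) = τM (ι k) := fun _ => rfl
  have hκinj : Function.Injective κ := by
    rw [injective_iff_map_eq_one]
    intro w hw
    obtain ⟨k, rfl⟩ := hσs w
    rw [hκ] at hw
    obtain ⟨q, hq, hqk⟩ := (QuotientGroup.eq_one_iff _).mp hw
    exact (QuotientGroup.eq_one_iff _).mpr (hιinj hqk ▸ hq)
  have hconjZ : ∀ m w, τM m * κ w * (τM m)⁻¹ = κ (ψ (cc m) w) := fun m w => by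
    obtain ⟨k, rfl⟩ := hσs w
    rw [hψ, hκ, hκ, ← map_inv, ← map_mul, ← map_mul, hconjM]
  set X₀ := τM x' with hX₀
  have hcommB : ∀ w ∈ WB, Commute X₀ (κ w) := fun w hw => by
    refine mul_inv_eq_iff_eq_mul.mp ((hconjZ x' w).trans (congrArg κ ?_))
    obtain ⟨k, l, j, rfl⟩ := hmemB w hw
    rw [map_mul, map_mul, map_zpow, map_zpow, map_zpow, hu'A, hu'C, hu'Y]
  obtain ⟨m₁, k₂, hm₁⟩ := hdec hu'B hr0 (β' x')
  have hm₁3 := hscal hu'B hr0 hm₁
  obtain ⟨w₀, hw₀⟩ : x' ^ p ∈ ι.range := by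
    refine hrange_of _ ?_
    rw [hrotpow hu'B p, zpow_congr (hexp₂ _) (show (p : ℤ) ∣ r * p - 0 by simp), zpow_zero, mul_one]
  set w := σ w₀ with hw
  have hκw : κ w = X₀ ^ p := by rw [hw, hκ, hw₀, hX₀, map_pow]
  have hwfix : ψ (cc x') w = w := by
    refine hκinj ?_
    rw [← hconjZ, ← hX₀, hκw, ((Commute.refl X₀).pow_right p).eq, mul_inv_cancel_right]
  have hwB : w ∈ WB := by
    obtain ⟨i, k, l, j, hwe⟩ := hnf w
    have h1 := congrArg τD hwfix
    rw [hwe] at h1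
    simp only [map_mul, map_zpow, hu'A, hu'C, hu'Y, hu'B,
      hτD1 A (hWAle (Subgroup.mem_zpowers A)), hτD1 C (Subgroup.mem_sup_right (Subgroup.mem_zpowers C)),
      one_zpow, mul_one] at h1
    rw [(hτDcomm _ _).mul_zpow, ← zpow_mul] at h1
    have h2 := mul_right_cancel h1
    have hdv : (p : ℤ) ∣ r * i := by
      refine zpow_val_eq_one (hexp₂ _) hYD1 ?_
      exact mul_left_cancel (h2.trans (mul_one _).symm)
    have hi : (p : ℤ) ∣ i := prime_dvd_cases (by rwa [mul_comm]) hr0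
    rw [hwe, zpow_congr (hexpW Bv) (show (p : ℤ) ∣ i - 0 by simpa using hi), zpow_zero, one_mul]
    exact WB.mul_mem (hWDle ((hmemD _).mpr ⟨k, l, rfl⟩))
      (Subgroup.mem_sup_right (Subgroup.zpow_mem _ (Subgroup.mem_zpowers Y) j))
  have hβ'Q : ∀ z ∈ ιQ, β' z ∈ ιQ := by
    rintro _ ⟨q, hq, rfl⟩
    exact ⟨β q, hβQ q hq, (hβ' q).symm⟩
  let β₃ : (M ⧸ ιQ) →* (M ⧸ ιQ) := QuotientGroup.map ιQ ιQ β'.toMonoidHom hβ'Q
  have hβ₃ : ∀ m, β₃ (τM m) = τM (β' m) := fun _ => rfl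
  have hβ₃κ : ∀ v, β₃ (κ v) = κ (ψ β v) := fun v => by
    obtain ⟨k, rfl⟩ := hσs v
    rw [hκ, hβ₃, hβ', hψ, hκ]
  have hXβ : β₃ X₀ = X₀ ^ m₁ * κ (σ k₂) := by rw [hX₀, hβ₃, hm₁, map_mul, map_pow, hκ]
  have hk₂ : σ k₂ ∈ WB := by
    have h1 : Commute (β₃ X₀) (β₃ (κ Y)) := (hcommB Y (Subgroup.mem_sup_right (Subgroup.mem_zpowers Y))).map β₃
    rw [hXβ, hβ₃κ] at h1
    have hYB2 : ψ β Y ∈ WB := hβWB Y (Subgroup.mem_sup_right (Subgroup.mem_zpowers Y))
    have h2 : Commute (κ (σ k₂)) (κ (ψ β Y)) := by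
      have := ((hcommB _ hYB2).pow_left m₁).inv_left.mul_left h1
      rwa [inv_mul_cancel_left] at this
    have h3 : σ k₂ * ψ β Y = ψ β Y * σ k₂ := hκinj (by rw [map_mul, map_mul]; exact h2)
    obtain ⟨i, k, l, j, hke⟩ := hnf (σ k₂)
    have h4 : ⁅σ k₂, ψ β Y⁆ = A ^ (-i * n) := by
      rw [hke, hβY, CfsgLib.PGroup.commutatorElement_mul_right_of_central _ _ _ (hcc _ _),
        commutatorElement_eq_one_iff_mul_comm.mpr (Subgroup.mem_center_iff.mp (hWDc hz₁) _), mul_one,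
        CfsgLib.PGroup.commutatorElement_pow_right_of_central (hcc _ _), (had i k l j).2, ← zpow_natCast,
        ← zpow_mul]
    rw [commutatorElement_eq_one_iff_mul_comm.mpr h3] at h4
    have h5 := zpow_val_eq_one (hexpW A) hA1 h4.symm
    have hn0 : ¬ (p : ℤ) ∣ n := fun hd => hL0 (hpi.dvd_of_dvd_pow (n := 2) (by
      have := dvd_sub hd hnL
      rwa [sub_sub_cancel] at this))
    have hi : (p : ℤ) ∣ i := dvd_neg.mp (prime_dvd_cases h5 hn0)
    rw [hke, zpow_congr (hexpW Bv) (show (p : ℤ) ∣ i - 0 by simpa using hi), zpow_zero, one_mul]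
    exact WB.mul_mem (hWDle ((hmemD _).mpr ⟨k, l, rfl⟩))
      (Subgroup.mem_sup_right (Subgroup.zpow_mem _ (Subgroup.mem_zpowers Y) j))
  have hwpow : ψ β w = w ^ m₁ := by
    refine hκinj ?_
    rw [← hβ₃κ, hκw, map_pow, hXβ, ((hcommB _ hk₂).pow_left m₁).mul_pow, ← map_pow κ, hexpW, map_one, mul_one,
      map_pow, hκw, pow_right_comm]
  have hw1 : w = 1 := by
    obtain ⟨k, l, j, hwe⟩ := hmemB w hwB
    have hYD : ∀ z ∈ WD, Commute z Y := fun z hz => (Subgroup.mem_center_iff.mp (hWDc hz) Y).symm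
    have hd : A ^ k * C ^ l ∈ WD := (hmemD _).mpr ⟨k, l, rfl⟩
    rw [hwe, ((hYD _ hd).zpow_right j).mul_pow, map_mul, map_mul, map_zpow, map_zpow, map_zpow, hβA, hβC, hβY] at hwpow
    have hj : (p : ℤ) ∣ j := by
      have h1 := congrArg τD hwpow
      simp only [map_mul, map_zpow, map_pow, hτD1 A (hWAle (Subgroup.mem_zpowers A)),
        hτD1 C (Subgroup.mem_sup_right (Subgroup.mem_zpowers C)), hτD1 z₁ hz₁, one_zpow, one_mul, mul_one,
        one_pow] at h1
      rw [← zpow_natCast (τD Y) n, ← zpow_natCast (τD Y ^ j), ← zpow_mul, ← zpow_mul] at h1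
      have h2 := dvd_of_zpow_eq (hexp₂ _) hYD1 h1
      refine prime_dvd_cases (j := L ^ 2 - L ^ 3) ?_ fun hd => ?_
      · have := dvd_add (dvd_sub h2 (dvd_mul_of_dvd_right hnL j)) (dvd_mul_of_dvd_right hm₁3 j)
        rwa [show (n : ℤ) * j - j * m₁ - j * ((n : ℤ) - L ^ 2) + j * ((m₁ : ℤ) - L ^ 3) =
          j * (L ^ 2 - L ^ 3) by ring] at this
      · rw [show L ^ 2 - L ^ 3 = (L - 1) * -(L ^ 2) by ring] at hd
        exact hL1 (prime_dvd_cases hd fun hd' => hL0 (hpi.dvd_of_dvd_pow (dvd_neg.mp hd')))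
    have hj1 : ∀ q : W, q ^ j = 1 := fun q => by
      rw [zpow_congr (hexpW q) (show (p : ℤ) ∣ j - 0 by simpa using hj), zpow_zero]
    rw [hj1, hj1, mul_one, one_pow, mul_one, (hAC.zpow_zpow k l).mul_pow, ← zpow_mul, ← zpow_natCast (A ^ k),
      ← zpow_mul, ← zpow_natCast (C ^ l), ← zpow_mul] at hwpow
    have h3 : Bv ^ (0 : ℤ) * A ^ (L * k - k * m₁) * C ^ (l - l * m₁) * Y ^ (0 : ℤ) = 1 := by
      rw [zpow_zero, zpow_zero, one_mul, mul_one]
      calc A ^ (L * k - k * m₁) * C ^ (l - l * m₁)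
          = A ^ (L * k) * ((A ^ (k * m₁))⁻¹ * C ^ l) * (C ^ (l * m₁))⁻¹ := by
            rw [zpow_sub, zpow_sub]; group
        _ = A ^ (L * k) * (C ^ l * (A ^ (k * m₁))⁻¹) * (C ^ (l * m₁))⁻¹ := by
            rw [(hAC.zpow_zpow (k * m₁) l).inv_left.eq]
        _ = A ^ (L * k) * C ^ l * ((A ^ (k * m₁))⁻¹ * (C ^ (l * m₁))⁻¹) := by group
        _ = (A ^ (k * m₁) * C ^ (l * m₁)) * (C ^ (l * m₁) * A ^ (k * m₁))⁻¹ := by rw [hwpow, mul_inv_rev]
        _ = 1 := by rw [(hAC.zpow_zpow (k * m₁) (l * m₁)).eq, mul_inv_cancel]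
    obtain ⟨-, h4, h5, -⟩ := huniq _ _ _ _ h3
    have hk' : (p : ℤ) ∣ k := by
      refine prime_dvd_cases (j := L - L ^ 3) ?_ fun hd => ?_
      · have := dvd_add h4 (dvd_mul_of_dvd_right hm₁3 k)
        rwa [show L * k - k * m₁ + k * ((m₁ : ℤ) - L ^ 3) = k * (L - L ^ 3) by ring] at this
      · rw [show L - L ^ 3 = (L ^ 2 - 1) * -L by ring] at hd
        exact hL2 (prime_dvd_cases hd fun hd' => hL0 (dvd_neg.mp hd'))
    have hl' : (p : ℤ) ∣ l := by
      refine prime_dvd_cases (j := 1 - L ^ 3) ?_ fun hd => hL3 (by rw [← dvd_neg, neg_sub]; exact hd)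
      have := dvd_add h5 (dvd_mul_of_dvd_right hm₁3 l)
      rwa [show l - l * m₁ + l * ((m₁ : ℤ) - L ^ 3) = l * (1 - L ^ 3) by ring] at this
    rw [hwe, hj1, zpow_congr (hexpW A) (show (p : ℤ) ∣ k - 0 by simpa using hk'),
      zpow_congr (hexpW C) (show (p : ℤ) ∣ l - 0 by simpa using hl'), zpow_zero, zpow_zero, one_mul, one_mul]
  have hX₀p : X₀ ^ p = 1 := by rw [← hκw, hw1, map_one]
  -- an elementary abelian section of order `p⁴`
  set X := WB.map κ ⊔ Subgroup.zpowers X₀ with hX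
  have hWBcomm : ∀ u ∈ WB, ∀ v ∈ WB, Commute u v := by
    intro u hu v hv
    obtain ⟨k, l, j, rfl⟩ := hmemB u hu
    obtain ⟨k', l', j', rfl⟩ := hmemB v hv
    have hz : ∀ k l : ℤ, ∀ q : W, Commute (A ^ k * C ^ l) q := fun k l q =>
      (Subgroup.mem_center_iff.mp (hWDc ((hmemD _).mpr ⟨k, l, rfl⟩)) q).symm
    exact ((hz k l _).mul_left (((hz k' l' _).symm).mul_right (Commute.zpow_zpow_self Y j j')))
  have hXle : ∀ v ∈ X, ∀ u ∈ WB.map κ, Commute v u := by
    intro v hv u hu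
    have hle : X ≤ Subgroup.centralizer ({u} : Set (M ⧸ ιQ)) := by
      obtain ⟨u', hu', rfl⟩ := hu
      refine sup_le ?_ (Subgroup.zpowers_le.mpr (Subgroup.mem_centralizer_singleton_iff.mpr (hcommB u' hu')))
      rintro _ ⟨v', hv', rfl⟩
      exact Subgroup.mem_centralizer_singleton_iff.mpr ((hWBcomm v' hv' u' hu').map κ)
    exact Subgroup.mem_centralizer_singleton_iff.mp (hle hv)
  have hXx : ∀ v ∈ X, Commute v X₀ := by
    intro v hv
    have hle : X ≤ Subgroup.centralizer ({X₀} : Set (M ⧸ ιQ)) := by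
      refine sup_le ?_ (Subgroup.zpowers_le.mpr (Subgroup.mem_centralizer_singleton_iff.mpr rfl))
      rintro _ ⟨v', hv', rfl⟩
      exact Subgroup.mem_centralizer_singleton_iff.mpr (hcommB v' hv').symm
    exact Subgroup.mem_centralizer_singleton_iff.mp (hle hv)
  have hXcomm : ∀ u ∈ X, ∀ v ∈ X, u * v = v * u := by
    intro u hu v hv
    have hle : X ≤ Subgroup.centralizer ({u} : Set (M ⧸ ιQ)) := by
      refine sup_le (fun q hq => Subgroup.mem_centralizer_singleton_iff.mpr (hXle u hu q hq).symm)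
        (Subgroup.zpowers_le.mpr (Subgroup.mem_centralizer_singleton_iff.mpr (hXx u hu).symm))
    exact (Subgroup.mem_centralizer_singleton_iff.mp (hle hv)).symm
  have hXexp : ∀ u ∈ X, u ^ p = 1 := by
    have hle : ∀ u ∈ X, ∃ v ∈ WB, ∃ i : ℤ, u = κ v * X₀ ^ i := by
      have hn' : (WB.map κ).Normal ∨ True := Or.inr trivial
      intro u hu
      let T : Subgroup (M ⧸ ιQ) :=
        { carrier := {u | ∃ v ∈ WB, ∃ i : ℤ, u = κ v * X₀ ^ i}
          one_mem' := ⟨1, one_mem _, 0, by simp⟩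
          mul_mem' := by
            rintro _ _ ⟨v, hv, i, rfl⟩ ⟨v', hv', i', rfl⟩
            refine ⟨v * v', WB.mul_mem hv hv', i + i', ?_⟩
            rw [map_mul, zpow_add, ((hcommB v' hv').zpow_left i).mul_mul_mul_comm]
          inv_mem' := by
            rintro _ ⟨v, hv, i, rfl⟩
            refine ⟨v⁻¹, WB.inv_mem hv, -i, ?_⟩
            rw [mul_inv_rev, map_inv, zpow_neg]
            exact (((hcommB v hv).zpow_left i).inv_inv).eq }
      have : X ≤ T := sup_le (by rintro _ ⟨v, hv, rfl⟩; exact ⟨v, hv, 0, by simp⟩)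
        (Subgroup.zpowers_le.mpr ⟨1, one_mem _, 1, by simp⟩)
      exact this hu
    intro u hu
    obtain ⟨v, hv, i, rfl⟩ := hle u hu
    rw [((hcommB v hv).symm.zpow_right i).mul_pow, ← map_pow, hexpW, map_one, one_mul, ← zpow_natCast,
      ← zpow_mul, mul_comm, zpow_mul, zpow_natCast, hX₀p, one_zpow]
  have hrk := CfsgLib.TwoGroups85.pRankLE_of_section hMr ⊤ (τM.comp (⊤ : Subgroup M).subtype) (fun q => by
    obtain ⟨q, rfl⟩ := QuotientGroup.mk'_surjective ιQ q
    exact ⟨⟨q, Subgroup.mem_top q⟩, rfl⟩) X ⟨⟨fun u v => Subtype.ext (hXcomm u u.2 v v.2)⟩⟩ hXexp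
  have hlt : WB.map κ < X := lt_of_le_of_ne le_sup_left fun e => by
    obtain ⟨v, -, hv⟩ := (e.symm ▸ Subgroup.mem_sup_right (Subgroup.mem_zpowers X₀) : X₀ ∈ WB.map κ)
    obtain ⟨k, rfl⟩ := hσs v
    have hvk : τM (ι k) = τM x' := hv
    obtain ⟨q, hq, hqk⟩ := QuotientGroup.eq.mp hvk
    have hx'k : x' = ι (k * q) := by rw [map_mul, hqk, mul_inv_cancel_left]
    have h1 := hu'B
    rw [hx'k, hcι, hBv, hψ, MulAut.conj_apply, map_mul σ, map_mul σ, map_inv σ, map_mul τD, map_mul τD,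
      map_inv τD, (hτDcomm _ _).eq, inv_mul_cancel_left] at h1
    exact hr0 (zpow_val_eq_one (hexp₂ _) hYD1 (mul_left_cancel (h1.symm.trans (mul_one _).symm)))
  obtain ⟨mM, hmM⟩ := IsPGroup.iff_card.mp (hMp.to_quotient ιQ)
  have hs := (CfsgLib.FusionFourth.card_lt_mul (p := p) hmM hlt).trans hrk
  rw [Subgroup.card_map_of_injective hκinj, hcards.2, ← pow_succ] at hs
  exact absurd ((Nat.pow_le_pow_iff_right hp'.one_lt).mp hs) (by norm_num)

end CfsgLib.FusionRankThree
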